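import Cfsg.Prelude.Def_QuasithinSetup
import Cfsg.Agent.SmallSimple.Simple168Classes
import Cfsg.Agent.S0243
set_option linter.all false

/-!
# `C_G(Ω₁(Z(T))) = T` in `L₃(2)` and `A₆` (helper3)
-/

set_option autoImplicit false

namespace Cfsg.Agent.H3.CenT

open Subgroup Cfsg

/-- involution centralisers are 2-groups -/
def InvCen (G : Type*) [Group G] : Prop :=
  ∀ z : G, z * z = 1 → z ≠ 1 → IsPGroup 2 (centralizer ({z} : Set G))

theorem InvCen.congr {G K : Type*} [Group G] [Group K] (e : G ≃* K) (h : InvCen K) : InvCen G := by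
  intro z hz hz1
  have h1 := h (e z) (by rw [← map_mul, hz, map_one]) (by rwa [Ne, EmbeddingLike.map_eq_one_iff])
  let f : centralizer ({z} : Set G) →* centralizer ({e z} : Set K) :=
    (e.toMonoidHom.comp (centralizer ({z} : Set G)).subtype).codRestrict _ (fun x => by
      rw [mem_centralizer_singleton_iff]
      have h2 := mem_centralizer_singleton_iff.1 x.2
      show e x * e z = e z * e x
      rw [← map_mul, h2, map_mul])
  refine h1.of_injective f ?_
  intro x y hxy
  have h3 : e x = e y := congrArg Subtype.val hxy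
  exact Subtype.ext (e.injective h3)

theorem centralizer_omega {G : Type*} [Group G] [Finite G] (h : InvCen G) (T : Sylow 2 G)
    (hT : (T : Subgroup G) ≠ ⊥) :
    centralizer ((omegaOne 2 ((T : Subgroup G) ⊓ centralizer ((T : Subgroup G) : Set G))) : Set G) =
      (T : Subgroup G) := by
  have h2 : Fact (Nat.Prime 2) := ⟨Nat.prime_two⟩
  set Z := omegaOne 2 ((T : Subgroup G) ⊓ centralizer ((T : Subgroup G) : Set G)) with hZ
  have hle : Z ≤ centralizer ((T : Subgroup G) : Set G) := by
    rw [hZ, omegaOne, closure_le]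
    rintro x ⟨⟨-, hx⟩, -⟩
    exact hx
  have h1 : (T : Subgroup G) ≤ centralizer (Z : Set G) := by
    rw [le_centralizer_iff]
    exact hle
  -- an involution of the centre
  have hnt : Nontrivial (T : Subgroup G) := (nontrivial_iff_ne_bot _).2 hT
  have hc : Nontrivial (center (T : Subgroup G)) := T.isPGroup'.center_nontrivial
  obtain ⟨c, hc1⟩ := exists_ne (1 : center (T : Subgroup G))
  have hcp : IsPGroup 2 (center (T : Subgroup G)) := T.isPGroup'.to_subgroup _
  obtain ⟨z, hz1, hz2⟩ : ∃ z : center (T : Subgroup G), z ≠ 1 ∧ z * z = 1 := by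
    have hd : 2 ∣ Nat.card (center (T : Subgroup G)) := by
      obtain ⟨n, hn⟩ := IsPGroup.iff_card.1 hcp
      have h3 : 1 < Nat.card (center (T : Subgroup G)) := Finite.one_lt_card
      rw [hn] at h3 ⊢
      exact dvd_pow_self 2 (by rintro rfl; simp at h3)
    obtain ⟨z, hz⟩ := exists_prime_orderOf_dvd_card' 2 hd
    refine ⟨z, ?_, ?_⟩
    · rintro rfl
      rw [orderOf_one] at hz
      omega
    · have h3 := pow_orderOf_eq_one z
      rw [hz] at h3
      rw [← pow_two, h3]
  have hzT : ((z : (T : Subgroup G)) : G) ∈ (T : Subgroup G) := (z : (T : Subgroup G)).2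
  have hzc : ∀ t ∈ (T : Subgroup G), t * ((z : (T : Subgroup G)) : G) = ((z : (T : Subgroup G)) : G) * t := by
    intro t ht
    have h3 := mem_center_iff.1 z.2 ⟨t, ht⟩
    exact congrArg Subtype.val h3
  have hz2' : ((z : (T : Subgroup G)) : G) * ((z : (T : Subgroup G)) : G) = 1 := by
    have h3 := congrArg (fun x : center (T : Subgroup G) => ((x : (T : Subgroup G)) : G)) hz2
    simpa using h3
  have hz1' : ((z : (T : Subgroup G)) : G) ≠ 1 := by
    intro h3
    apply hz1
    apply Subtype.ext
    apply Subtype.ext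
    simpa using h3
  have hzZ : ((z : (T : Subgroup G)) : G) ∈ Z := by
    rw [hZ, omegaOne]
    refine subset_closure ⟨⟨hzT, mem_centralizer_iff.2 hzc⟩, ?_⟩
    rw [pow_two, hz2']
  have h4 : centralizer (Z : Set G) ≤ centralizer ({((z : (T : Subgroup G)) : G)} : Set G) :=
    centralizer_le (Set.singleton_subset_iff.2 hzZ)
  have h5 : IsPGroup 2 (centralizer (Z : Set G)) := (h _ hz2' hz1').to_le h4
  exact T.3 h5 h1

theorem six : InvCen ↥(alternatingGroup (Fin 6)) := by
  have h2 : Fact (Nat.Prime 2) := ⟨Nat.prime_two⟩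
  rintro ⟨z, hz⟩ hz2 hz1
  have hz2' : z * z = 1 := congrArg Subtype.val hz2
  have hz1' : z ≠ 1 := fun h => hz1 (Subtype.ext h)
  have ho : orderOf z = 2 := orderOf_eq_prime (by rw [pow_two, hz2']) hz1'
  have hct : z.cycleType = Multiset.replicate 2 2 := by
    have h3 : ∀ n ∈ z.cycleType, n = 2 := by
      intro n hn
      have h4 : n ∣ 2 := ho ▸ Equiv.Perm.dvd_of_mem_cycleType hn
      have h5 := Equiv.Perm.two_le_of_mem_cycleType hn
      exact le_antisymm (Nat.le_of_dvd two_pos h4) h5
    have h6 := Multiset.eq_replicate_card.2 h3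
    set k := z.cycleType.card with hk
    have h7 : z.cycleType.sum = 2 * k := by rw [h6, Multiset.sum_replicate, smul_eq_mul, mul_comm]
    have h8 : z.cycleType.sum ≤ 6 := by
      rw [Equiv.Perm.sum_cycleType]
      exact (Finset.card_le_univ _).trans (by simp)
    have h9 : Equiv.Perm.sign z = 1 := hz
    rw [Equiv.Perm.sign_of_cycleType, h7, ← hk] at h9
    have h10 : k ≠ 0 := by
      intro h10
      rw [hk, Multiset.card_eq_zero, Equiv.Perm.cycleType_eq_zero] at h10
      exact hz1' h10
    have h11 : k ≤ 3 := by omega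
    have h12 : k = 2 := by
      interval_cases k
      · exact absurd rfl h10
      · exfalso
        revert h9
        decide
      · rfl
      · exfalso
        revert h9
        decide
    rw [h6, h12]
  have hcard : Nat.card (centralizer ({z} : Set (Equiv.Perm (Fin 6)))) = 2 ^ 4 := by
    rw [Equiv.Perm.nat_card_centralizer, hct]
    decide
  have h3 : IsPGroup 2 (centralizer ({z} : Set (Equiv.Perm (Fin 6)))) := IsPGroup.of_card hcard
  intro x
  have h4 := mem_centralizer_singleton_iff.1 x.2
  have h5 : ((x : ↥(alternatingGroup (Fin 6))) : Equiv.Perm (Fin 6)) ∈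
      centralizer ({z} : Set (Equiv.Perm (Fin 6))) :=
    mem_centralizer_singleton_iff.2 (congrArg Subtype.val h4)
  obtain ⟨k, hk⟩ := h3 ⟨_, h5⟩
  refine ⟨k, ?_⟩
  apply Subtype.ext
  apply Subtype.ext
  have h6 := congrArg Subtype.val hk
  simpa using h6

theorem card168 {G : Type*} [Group G] [Finite G] [IsSimpleGroup G] (h : Nat.card G = 168) : InvCen G := by
  intro z hz hz1
  have h2 : Fact (Nat.Prime 2) := ⟨Nat.prime_two⟩
  have h3 := Cfsg.Agent.SmallSimple.Simple168Classes.card_centralizer_two h z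
    (orderOf_eq_prime (by rw [pow_two, hz]) hz1)
  exact IsPGroup.of_card (n := 3) (by rw [h3]; norm_num)

theorem card_psl_three_two {F : Type*} [Field F] [Fintype F] (h2 : Fintype.card F = 2) :
    Nat.card (Matrix.ProjectiveSpecialLinearGroup (Fin 3) F) = 168 := by
  have h1 := Cfsg.Agent.S0243.result h2 3 (by norm_num)
  rw [Fin.prod_univ_three] at h1
  simp at h1
  omega

/-- **`C_G(Ω₁(Z(T))) = T` for `G ≅ L₃(2)` or `A₆`.** -/
theorem main {G : Type*} [Group G] [Finite G] [IsSimpleGroup G] (T : Sylow 2 G)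
    (h : (∃ (F : Type) (_ : Field F) (_ : Fintype F), Fintype.card F = 2 ∧
        Nonempty (G ≃* Matrix.ProjectiveSpecialLinearGroup (Fin 3) F)) ∨
      Nonempty (G ≃* ↥(alternatingGroup (Fin 6)))) :
    centralizer ((omegaOne 2 ((T : Subgroup G) ⊓ centralizer ((T : Subgroup G) : Set G))) : Set G) =
      (T : Subgroup G) := by
  have h2 : Fact (Nat.Prime 2) := ⟨Nat.prime_two⟩
  have key : InvCen G ∧ 2 ∣ Nat.card G := by
    rcases h with ⟨F, _, _, hF, ⟨e⟩⟩ | ⟨⟨e⟩⟩
    · have h3 : Nat.card G = 168 := by rw [Nat.card_congr e.toEquiv, card_psl_three_two hF]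
      exact ⟨card168 h3, by rw [h3]; norm_num⟩
    · refine ⟨six.congr e, ?_⟩
      rw [Nat.card_congr e.toEquiv, nat_card_alternatingGroup, Nat.card_eq_fintype_card, Fintype.card_fin]
      decide
  refine centralizer_omega key.1 T ?_
  exact T.ne_bot_of_dvd_card key.2

end Cfsg.Agent.H3.CenT
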