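import Mathlib
import Cfsg.Agent.SporadicStructure.M24IndexAbs
import Cfsg.Agent.KFacts.M24Two.Orders
import Cfsg.Agent.SporadicStructure.SextetAction
import Cfsg.Agent.SporadicA.M24Trans
import Cfsg.Agent.Transfer.PGroupNormal
import Cfsg.Agent.Lib.Cores
import Cfsg.Agent.FastGrp
import Cfsg.Agent.Prune
set_option linter.all false
prune_inst 0x7f00000000000000000000000000000000000000000000000000000000000000000000000000000000000000000000000000000000000000000000000000000000000000000000000000000000000000003fffffffffffffffffffffffffffbeffbdffffffff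
open scoped Cfsg.Agent.FastGrp

-- part: H3/Orb24
section
/-!
# Subgroups `H` of a permutation group of degree 24 with a normal 2-subgroup `R` (helper3)

`H` is transitive on the 24 points, `O` is an `R`-invariant set of 8 points with an odd number of `H`-translates. The
orbits of `R` have 2, 4 or 8 points, and `O` is a block of `H` or the `R`-orbits are six 4-sets such that any two have a
common neighbour (`B`, `D` neighbours: `B ∪ D` is a translate of `O`).
-/

set_option autoImplicit false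
set_option linter.unusedSectionVars false

open MulAction
open scoped Pointwise

namespace Cfsg.Agent.H3.Orb24

open Cfsg.Agent.SporadicStructure.M24IndexAbs

variable {G Ω : Type*} [Group G] [MulAction G Ω] [Fintype Ω] [DecidableEq Ω]

/-- the situation -/
structure Sit (H R : Subgroup G) (O : Finset Ω) : Prop where
  h24 : Fintype.card Ω = 24
  RH : R ≤ H
  norm : ∀ h ∈ H, ∀ r ∈ R, h * r * h⁻¹ ∈ R
  pg : IsPGroup 2 R
  RO : ∀ r ∈ R, r • O = O
  card : O.card = 8
  trans : ∀ x y : Ω, ∃ h ∈ H, h • x = y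
  ne : ∃ r ∈ R, ∃ x : Ω, r • x ≠ x

variable {H R : Subgroup G} {O : Finset Ω}

theorem self_mem_orb (x : Ω) : x ∈ orb R x := mem_orb.2 ⟨1, R.one_mem, one_smul _ _⟩

theorem orb_eq_of_mem {x y : Ω} (h : y ∈ orb R x) : orb R y = orb R x := by
  obtain ⟨r, hr, rfl⟩ := mem_orb.1 h
  ext z
  rw [mem_orb, mem_orb]
  constructor
  · rintro ⟨k, hk, rfl⟩
    exact ⟨k * r, R.mul_mem hk hr, mul_smul _ _ _⟩
  · rintro ⟨k, hk, rfl⟩
    exact ⟨k * r⁻¹, R.mul_mem hk (R.inv_mem hr), by rw [← mul_smul, inv_mul_cancel_right]⟩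

theorem smul_orb (hn : ∀ h ∈ H, ∀ r ∈ R, h * r * h⁻¹ ∈ R) {h : G} (hh : h ∈ H) (x : Ω) :
    h • orb R x = orb R (h • x) := by
  ext z
  rw [Finset.mem_smul_finset, mem_orb]
  constructor
  · rintro ⟨y, hy, rfl⟩
    obtain ⟨r, hr, rfl⟩ := mem_orb.1 hy
    exact ⟨h * r * h⁻¹, hn h hh r hr, by rw [← mul_smul, inv_mul_cancel_right, mul_smul]⟩
  · rintro ⟨r, hr, rfl⟩
    refine ⟨h⁻¹ • r • h • x, ?_, smul_inv_smul _ _⟩
    rw [mem_orb]
    refine ⟨h⁻¹ * r * h⁻¹⁻¹, hn _ (H.inv_mem hh) r hr, ?_⟩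
    rw [← mul_smul, ← mul_smul, inv_inv]

theorem isBlk_orb (S : Sit H R O) (x : Ω) : IsBlk H (orb R x) := by
  rintro h hh ⟨z, hz, hz'⟩
  rw [smul_orb S.norm hh, ← orb_eq_of_mem hz', ← smul_orb S.norm hh, ← smul_orb S.norm hh, orb_eq_of_mem hz]

theorem card_orb_eq (S : Sit H R O) (x y : Ω) : (orb R x).card = (orb R y).card := by
  obtain ⟨h, hh, rfl⟩ := S.trans x y
  rw [← smul_orb S.norm hh, Finset.card_smul_finset]

/-- the sizes of the orbits -/
theorem size (S : Sit H R O) [Finite G] : (∀ x : Ω, (orb R x).card = 2) ∨ (∀ x : Ω, (orb R x).card = 4) ∨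
    (∀ x : Ω, (orb R x).card = 8) := by
  have h2 : Fact (Nat.Prime 2) := ⟨Nat.prime_two⟩
  obtain ⟨r, hr, x, hx⟩ := S.ne
  have h1 : (translates H (orb R x)).card * (orb R x).card = 24 := by
    rw [(isBlk_orb S x).card_mul_eq, S.h24]
    intro y
    obtain ⟨h, hh, rfl⟩ := S.trans x y
    exact ⟨h, hh, by rw [Finset.smul_mem_smul_finset_iff]; exact self_mem_orb x⟩
  have h3 : (orb R x).card ∣ Nat.card R := card_orb_dvd R x
  obtain ⟨n, hn⟩ := IsPGroup.iff_card.1 S.pg
  rw [hn] at h3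
  obtain ⟨k, -, hk⟩ := (Nat.dvd_prime_pow Nat.prime_two).1 h3
  have h4 : (orb R x).card ∣ 24 := ⟨_, by rw [← h1, mul_comm]⟩
  have h5 : 1 < (orb R x).card := by
    rw [Finset.one_lt_card]
    exact ⟨x, self_mem_orb x, r • x, mem_orb.2 ⟨r, hr, rfl⟩, hx.symm⟩
  have h6 : k ≤ 3 := by
    by_contra hc
    have h7 : 2 ^ 4 ∣ 24 := (pow_dvd_pow 2 (by omega)).trans (hk ▸ h4)
    revert h7
    decide
  have h8 : (orb R x).card = 2 ∨ (orb R x).card = 4 ∨ (orb R x).card = 8 := by
    rw [hk] at h5 ⊢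
    interval_cases k <;> simp_all only [_root_.ne_eq, _root_.pow_zero, _root_.mul_one, _root_.isUnit_iff_eq_one, _root_.IsUnit.dvd, _root_.lt_self_iff_false, _root_.pow_one, _root_.dvd_pow_self_iff, _root_.OfNat.ofNat_ne_one, _root_.or_false, _root_.Nat.reduceDvd, _root_.Order.lt_two_iff, _root_.Std.le_refl, _root_.Nat.one_le_ofNat, _root_.Nat.reduceEqDiff, _root_.or_self, _root_.Nat.reducePow, _root_.Nat.one_lt_ofNat, _root_.Nat.reduceLeDiff, _root_.or_true]
  rcases h8 with h8 | h8 | h8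
  · exact Or.inl fun y => by rw [card_orb_eq S y x, h8]
  · exact Or.inr (Or.inl fun y => by rw [card_orb_eq S y x, h8])
  · exact Or.inr (Or.inr fun y => by rw [card_orb_eq S y x, h8])

/-- translates of `O` are `R`-invariant -/
theorem smul_eq_of_translate (S : Sit H R O) {C : Finset Ω} (hC : C ∈ translates H O) {r : G} (hr : r ∈ R) :
    r • C = C := by
  obtain ⟨h, hh, rfl⟩ := mem_translates.1 hC
  have h1 : h⁻¹ * r * h⁻¹⁻¹ ∈ R := S.norm _ (H.inv_mem hh) r hr
  have h2 : r • h • O = h • (h⁻¹ * r * h⁻¹⁻¹) • O := by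
    rw [← mul_smul, ← mul_smul]
    congr 1
    group
  rw [h2, S.RO _ h1]

theorem orb_subset (S : Sit H R O) {C : Finset Ω} (hC : C ∈ translates H O) {x : Ω} (hx : x ∈ C) : orb R x ⊆ C := by
  intro y hy
  obtain ⟨r, hr, rfl⟩ := mem_orb.1 hy
  rw [← smul_eq_of_translate S hC hr, Finset.smul_mem_smul_finset_iff]
  exact hx

theorem self_mem_translates (H : Subgroup G) (O : Finset Ω) : O ∈ translates H O :=
  mem_translates.2 ⟨1, H.one_mem, one_smul _ _⟩

/-- orbits of size 8 -/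
theorem blk_eight (S : Sit H R O) (h8 : ∀ x : Ω, (orb R x).card = 8) : IsBlk H O := by
  have h1 : ∃ x, x ∈ O := Finset.card_pos.1 (by rw [S.card]; norm_num)
  obtain ⟨x, hx⟩ := h1
  have h2 : orb R x = O :=
    Finset.eq_of_subset_of_card_le (orb_subset S (self_mem_translates H O) hx) (by rw [h8, S.card])
  rw [← h2]
  exact isBlk_orb S x

/-- orbits of size 2 -/
theorem blk_two (S : Sit H R O) (h2 : ∀ x : Ω, (orb R x).card = 2)
    {z : G} (hz : z ∈ R) (hzO : ∀ x ∈ O, z • x = x) (hzo : ∀ x, x ∉ O → z • x ≠ x)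
    (hfix : ∀ t : G, (∀ x : Ω, t • t • x = x) → 9 < (Finset.univ.filter fun x : Ω => t • x = x).card →
      ∀ x : Ω, t • x = x) : IsBlk H O := by
  rintro h hh ⟨w, hw, hw'⟩
  set z' := h * z * h⁻¹ with hz'
  have hz'R : z' ∈ R := S.norm h hh z hz
  have hz'O : ∀ x ∈ h • O, z' • x = x := by
    intro x hx
    obtain ⟨y, hy, rfl⟩ := Finset.mem_smul_finset.1 hx
    rw [hz', ← mul_smul, inv_mul_cancel_right, mul_smul, hzO y hy]
  have hz'o : ∀ x, x ∉ h • O → z' • x ≠ x := by
    intro x hx he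
    have h1 : h⁻¹ • x ∉ O := fun h1 => hx (Finset.mem_smul_finset.2 ⟨_, h1, smul_inv_smul _ _⟩)
    apply hzo _ h1
    have h3 : h⁻¹ • z' • x = z • h⁻¹ • x := by
      rw [hz', ← mul_smul, ← mul_smul]
      congr 1
      group
    rw [← h3, he]
  -- elements of `R` act on the pairs
  have key : ∀ r ∈ R, ∀ s ∈ R, ∀ x : Ω, r • x ≠ x → s • x ≠ x → r • x = s • x := by
    intro r hr s hs x h1 h3
    by_contra hne
    have h4 : 2 < (orb R x).card := by
      rw [Finset.two_lt_card]
      exact ⟨x, self_mem_orb x, r • x, mem_orb.2 ⟨r, hr, rfl⟩, s • x, mem_orb.2 ⟨s, hs, rfl⟩, h1.symm, h3.symm, hne⟩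
    rw [h2] at h4
    omega
  have hinv : ∀ r ∈ R, ∀ x : Ω, r • r • x = x := by
    intro r hr x
    by_cases h1 : r • x = x
    · rw [h1, h1]
    · have h3 : r • r • x ≠ r • x := fun h4 => h1 (MulAction.injective r h4)
      by_contra h4
      have h5 := key r hr (r * r) (R.mul_mem hr hr) x h1 (by rwa [mul_smul])
      rw [mul_smul] at h5
      exact h3 h5.symm
  set t := z⁻¹ * z' with ht
  have htR : t ∈ R := R.mul_mem (R.inv_mem hz) hz'R
  have htfix : ∀ x, x ∉ O → x ∉ h • O → t • x = x := by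
    intro x h1 h3
    rw [ht, mul_smul, ← key z hz z' hz'R x (hzo x h1) (hz'o x h3), inv_smul_smul]
  have hcard : (O ∪ h • O).card ≤ 14 ∨ h • O = O := by
    have h1 := Finset.card_union_add_card_inter O (h • O)
    rw [Finset.card_smul_finset, S.card] at h1
    have hpos : 0 < (O ∩ h • O).card := Finset.card_pos.2 ⟨h • w, Finset.mem_inter.2
      ⟨hw', by rw [Finset.smul_mem_smul_finset_iff]; exact hw⟩⟩
    -- the intersection is a union of orbits
    have h3 : 2 ≤ (O ∩ h • O).card := by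
      rw [← h2 (h • w)]
      apply Finset.card_le_card
      intro y hy
      rw [Finset.mem_inter]
      refine ⟨orb_subset S (self_mem_translates H O) hw' hy, ?_⟩
      refine orb_subset S (mem_translates.2 ⟨h, hh, rfl⟩) ?_ hy
      rw [Finset.smul_mem_smul_finset_iff]
      exact hw
    left
    omega
  rcases hcard with hc | hc
  · have h1 : 9 < (Finset.univ.filter fun x : Ω => t • x = x).card := by
      have h3 : (O ∪ h • O)ᶜ ⊆ Finset.univ.filter fun x : Ω => t • x = x := by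
        intro x hx
        rw [Finset.mem_compl, Finset.mem_union, not_or] at hx
        rw [Finset.mem_filter]
        exact ⟨Finset.mem_univ _, htfix x hx.1 hx.2⟩
      have h4 := Finset.card_le_card h3
      rw [Finset.card_compl, S.h24] at h4
      omega
    have h3 := hfix t (fun x => hinv t htR x) h1
    -- so `z = z'` as permutations
    have h4 : ∀ x : Ω, z • x = z' • x := by
      intro x
      have h5 := h3 x
      rw [ht, mul_smul, inv_smul_eq_iff] at h5
      exact h5.symm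
    apply Finset.eq_of_subset_of_card_le
    · intro x hx
      by_contra hxO
      apply hzo x hxO
      rw [h4, hz'O x hx]
    · rw [Finset.card_smul_finset]
  · exact hc

/-- the neighbours (and itself) -/
noncomputable def nb (H : Subgroup G) (O : Finset Ω) (𝓑 : Finset (Finset Ω)) (B : Finset Ω) : Finset (Finset Ω) := by
  classical
  exact 𝓑.filter fun D => D = B ∨ (D ≠ B ∧ D ∪ B ∈ translates H O)

/-- the data for orbits of size 4 -/
structure Dat (H R : Subgroup G) (O : Finset Ω) (𝓑 : Finset (Finset Ω)) : Prop where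
  c6 : 𝓑.card = 6
  c4 : ∀ B ∈ 𝓑, B.card = 4
  inv : ∀ h ∈ H, ∀ B ∈ 𝓑, h • B ∈ 𝓑
  dis : ∀ B ∈ 𝓑, ∀ C ∈ 𝓑, B ≠ C → Disjoint B C
  mem : ∀ x, orb R x ∈ 𝓑
  mem' : ∀ B ∈ 𝓑, ∃ x, B = orb R x
  tr : ∀ B ∈ 𝓑, ∀ C ∈ 𝓑, ∃ h ∈ H, h • B = C

theorem exists_dat (S : Sit H R O) (h4 : ∀ x : Ω, (orb R x).card = 4) : ∃ 𝓑, Dat H R O 𝓑 := by
  have hx0 : ∃ x, x ∈ O := Finset.card_pos.1 (by rw [S.card]; norm_num)
  obtain ⟨x₀, hx₀⟩ := hx0
  refine ⟨translates H (orb R x₀), ?_, ?_, fun h hh B hB => smul_mem_translates hh hB, (isBlk_orb S x₀).pairwise,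
    ?_, ?_, ?_⟩
  · have h1 : (translates H (orb R x₀)).card * (orb R x₀).card = 24 := by
      rw [(isBlk_orb S x₀).card_mul_eq, S.h24]
      intro y
      obtain ⟨h, hh, rfl⟩ := S.trans x₀ y
      exact ⟨h, hh, by rw [Finset.smul_mem_smul_finset_iff]; exact self_mem_orb x₀⟩
    rw [h4] at h1
    omega
  · intro B hB
    rw [card_of_mem_translates hB, h4]
  · intro x
    obtain ⟨h, hh, rfl⟩ := S.trans x₀ x
    exact mem_translates.2 ⟨h, hh, smul_orb S.norm hh _⟩
  · intro B hB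
    obtain ⟨h, hh, rfl⟩ := mem_translates.1 hB
    exact ⟨_, smul_orb S.norm hh _⟩
  · intro B hB C hC
    obtain ⟨h, hh, rfl⟩ := mem_translates.1 hB
    obtain ⟨k, hk, rfl⟩ := mem_translates.1 hC
    exact ⟨k * h⁻¹, H.mul_mem hk (H.inv_mem hh), by rw [mul_smul, inv_smul_smul]⟩

theorem card_translate (S : Sit H R O) {C : Finset Ω} (hC : C ∈ translates H O) : C.card = 8 := by
  rw [card_of_mem_translates hC, S.card]

/-- each translate contains exactly two orbits -/
theorem Dat.two {𝓑 : Finset (Finset Ω)} (D : Dat H R O 𝓑) (S : Sit H R O) {C : Finset Ω}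
    (hC : C ∈ translates H O) : (𝓑.filter fun B : Finset Ω => B ⊆ C).card = 2 := by
  have h1 : ((𝓑.filter fun B : Finset Ω => B ⊆ C).biUnion id) = C := by
    ext x
    rw [Finset.mem_biUnion]
    constructor
    · rintro ⟨B, hB, hx⟩
      exact (Finset.mem_filter.1 hB).2 hx
    · intro hx
      exact ⟨orb R x, Finset.mem_filter.2 ⟨D.mem x, orb_subset S hC hx⟩, self_mem_orb x⟩
  have h3 : ((𝓑.filter fun B : Finset Ω => B ⊆ C).biUnion id).card =
      ∑ B ∈ 𝓑.filter (fun B : Finset Ω => B ⊆ C), B.card :=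
    Finset.card_biUnion (fun B hB E hE hne =>
      D.dis B (Finset.mem_filter.1 hB).1 E (Finset.mem_filter.1 hE).1 hne)
  rw [h1, card_translate S hC, Finset.sum_congr rfl (fun B hB => D.c4 B (Finset.mem_filter.1 hB).1),
    Finset.sum_const, smul_eq_mul] at h3
  omega

/-- the number of translates containing an orbit -/
noncomputable def mult (H : Subgroup G) (O B : Finset Ω) : ℕ := ((translates H O).filter fun C : Finset Ω => B ⊆ C).card

theorem mult_smul {h : G} (hh : h ∈ H) (B : Finset Ω) : mult H O (h • B) = mult H O B := by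
  unfold mult
  symm
  apply Finset.card_bij (fun C _ => h • C)
  · intro C hC
    rw [Finset.mem_filter] at hC ⊢
    exact ⟨smul_mem_translates hh hC.1, Finset.smul_finset_subset_smul_finset hC.2⟩
  · intro C _ D _ he
    exact MulAction.injective h he
  · intro C hC
    rw [Finset.mem_filter] at hC
    refine ⟨h⁻¹ • C, Finset.mem_filter.2 ⟨smul_mem_translates (H.inv_mem hh) hC.1, ?_⟩, smul_inv_smul _ _⟩
    have h1 := Finset.smul_finset_subset_smul_finset (a := h⁻¹) hC.2
    rwa [inv_smul_smul] at h1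

theorem Dat.mult_eq {𝓑 : Finset (Finset Ω)} (D : Dat H R O 𝓑) {B C : Finset Ω} (hB : B ∈ 𝓑) (hC : C ∈ 𝓑) :
    mult H O B = mult H O C := by
  obtain ⟨h, hh, rfl⟩ := D.tr B hB C hC
  exact (mult_smul hh B).symm

/-- double counting -/
theorem Dat.count {𝓑 : Finset (Finset Ω)} (D : Dat H R O 𝓑) (S : Sit H R O) {B : Finset Ω} (hB : B ∈ 𝓑) :
    (translates H O).card = 3 * mult H O B := by
  have hcount : ∑ B ∈ 𝓑, ((translates H O).filter fun C : Finset Ω => B ⊆ C).card =
      ∑ C ∈ translates H O, (𝓑.filter fun B : Finset Ω => B ⊆ C).card :=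
    Finset.sum_card_bipartiteAbove_eq_sum_card_bipartiteBelow (fun B C : Finset Ω => B ⊆ C)
  have h1 : ∑ B ∈ 𝓑, ((translates H O).filter fun C : Finset Ω => B ⊆ C).card = ∑ _E ∈ 𝓑, mult H O B :=
    Finset.sum_congr rfl fun E hE => D.mult_eq hE hB
  have h2 : ∑ C ∈ translates H O, (𝓑.filter fun B : Finset Ω => B ⊆ C).card = ∑ _E ∈ translates H O, 2 :=
    Finset.sum_congr rfl fun E hE => D.two S hE
  rw [h1, h2, Finset.sum_const, Finset.sum_const, smul_eq_mul, smul_eq_mul, D.c6] at hcount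
  omega

theorem Dat.blk {𝓑 : Finset (Finset Ω)} (D : Dat H R O 𝓑) (S : Sit H R O)
    (h1 : ∀ B ∈ 𝓑, mult H O B = 1) : IsBlk H O := by
  rintro h hh ⟨w, hw, hw'⟩
  have h2 := h1 _ (D.mem (h • w))
  unfold mult at h2
  rw [Finset.card_eq_one] at h2
  obtain ⟨E, hE⟩ := h2
  have h3 : O ∈ (translates H O).filter fun C : Finset Ω => orb R (h • w) ⊆ C :=
    Finset.mem_filter.2 ⟨self_mem_translates H O, orb_subset S (self_mem_translates H O) hw'⟩
  have h5 : h • O ∈ translates H O := mem_translates.2 ⟨h, hh, rfl⟩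
  have h6 : h • O ∈ (translates H O).filter fun C : Finset Ω => orb R (h • w) ⊆ C := by
    refine Finset.mem_filter.2 ⟨h5, orb_subset S h5 ?_⟩
    rw [Finset.smul_mem_smul_finset_iff]
    exact hw
  rw [hE, Finset.mem_singleton] at h3 h6
  rw [h6, h3]

/-- the second orbit in a translate -/
theorem Dat.sdiff {𝓑 : Finset (Finset Ω)} (D : Dat H R O 𝓑) (S : Sit H R O) (h4 : ∀ x : Ω, (orb R x).card = 4)
    {B C : Finset Ω} (hB : B ∈ 𝓑) (hC : C ∈ translates H O) (hBC : B ⊆ C) : C \ B ∈ 𝓑 ∧ C \ B ≠ B := by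
  have h3 : (C \ B).card = 4 := by
    rw [Finset.card_sdiff_of_subset hBC, card_translate S hC, D.c4 B hB]
  obtain ⟨y, hy⟩ : ∃ y, y ∈ C \ B := Finset.card_pos.1 (by omega)
  have hy' := Finset.mem_sdiff.1 hy
  obtain ⟨b, hb⟩ := D.mem' B hB
  have h5 : orb R y = C \ B := by
    apply Finset.eq_of_subset_of_card_le
    · intro x hx
      rw [Finset.mem_sdiff]
      refine ⟨orb_subset S hC hy'.1 hx, fun hxB => hy'.2 ?_⟩
      rw [hb] at hxB ⊢
      rw [← orb_eq_of_mem hxB, orb_eq_of_mem hx]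
      exact self_mem_orb y
    · rw [h3, h4]
  refine ⟨h5 ▸ D.mem y, fun he => hy'.2 ?_⟩
  rw [he] at hy
  exact hy

theorem Dat.card_nb {𝓑 : Finset (Finset Ω)} (D : Dat H R O 𝓑) (S : Sit H R O) (h4 : ∀ x : Ω, (orb R x).card = 4)
    {B : Finset Ω} (hB : B ∈ 𝓑) : mult H O B + 1 ≤ (nb H O 𝓑 B).card := by
  classical
  have h1 : (insert B (((translates H O).filter fun C : Finset Ω => B ⊆ C).image fun C => C \ B)) ⊆ nb H O 𝓑 B := by
    intro E hE
    rw [Finset.mem_insert, Finset.mem_image] at hE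
    unfold nb
    rw [Finset.mem_filter]
    rcases hE with rfl | ⟨C, hC, rfl⟩
    · exact ⟨hB, Or.inl rfl⟩
    · rw [Finset.mem_filter] at hC
      have h2 := D.sdiff S h4 hB hC.1 hC.2
      refine ⟨h2.1, Or.inr ⟨h2.2, ?_⟩⟩
      rw [Finset.sdiff_union_of_subset hC.2]
      exact hC.1
  have h3 : (((translates H O).filter fun C : Finset Ω => B ⊆ C).image fun C => C \ B).card = mult H O B := by
    rw [Finset.card_image_of_injOn]
    · rfl
    · intro C hC E hE he
      have hC' := (Finset.mem_filter.1 hC).2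
      have hE' := (Finset.mem_filter.1 hE).2
      have he' : C \ B = E \ B := he
      rw [← Finset.sdiff_union_of_subset hC', he', Finset.sdiff_union_of_subset hE']
  have h5 : B ∉ (((translates H O).filter fun C : Finset Ω => B ⊆ C).image fun C => C \ B) := by
    intro hc
    obtain ⟨C, hC, he⟩ := Finset.mem_image.1 hc
    rw [Finset.mem_filter] at hC
    exact (D.sdiff S h4 hB hC.1 hC.2).2 he
  have h6 := Finset.card_le_card h1
  rw [Finset.card_insert_of_notMem h5, h3] at h6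
  exact h6

/-- orbits of size 4 -/
theorem four (S : Sit H R O) (h4 : ∀ x : Ω, (orb R x).card = 4) (hodd : Odd (translates H O).card) :
    IsBlk H O ∨ ∃ 𝓑 : Finset (Finset Ω), 𝓑.card = 6 ∧ (∀ B ∈ 𝓑, B.card = 4) ∧ (∀ h ∈ H, ∀ B ∈ 𝓑, h • B ∈ 𝓑) ∧
      (∀ B ∈ 𝓑, ∀ C ∈ 𝓑, B ≠ C → Disjoint B C) ∧
      ∀ B ∈ 𝓑, ∀ C ∈ 𝓑, ∃ D ∈ 𝓑, (D = B ∨ (D ≠ B ∧ D ∪ B ∈ translates H O)) ∧
        (D = C ∨ (D ≠ C ∧ D ∪ C ∈ translates H O)) := by
  classical
  obtain ⟨𝓑, D⟩ := exists_dat S h4
  have hne : ∃ B, B ∈ 𝓑 := Finset.card_pos.1 (by rw [D.c6]; norm_num)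
  obtain ⟨B₀, hB₀⟩ := hne
  have hc := D.count S hB₀
  have hmodd : Odd (mult H O B₀) := by
    rw [hc] at hodd
    exact (Nat.odd_mul.1 hodd).2
  by_cases hm1 : mult H O B₀ = 1
  · left
    exact D.blk S fun B hB => by rw [D.mult_eq hB hB₀, hm1]
  · right
    have hm3 : 3 ≤ mult H O B₀ := by
      obtain ⟨k, hk⟩ := hmodd
      omega
    refine ⟨𝓑, D.c6, D.c4, D.inv, D.dis, ?_⟩
    intro B hB C hC
    have h1 : ¬ Disjoint (nb H O 𝓑 B) (nb H O 𝓑 C) := by
      intro hd
      have h3 := Finset.card_union_of_disjoint hd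
      have h5 : (nb H O 𝓑 B ∪ nb H O 𝓑 C).card ≤ 𝓑.card := by
        apply Finset.card_le_card
        unfold nb
        exact Finset.union_subset (Finset.filter_subset _ _) (Finset.filter_subset _ _)
      have h6 := D.card_nb S h4 hB
      have h7 := D.card_nb S h4 hC
      rw [D.mult_eq hB hB₀] at h6
      rw [D.mult_eq hC hB₀] at h7
      rw [D.c6] at h5
      omega
    rw [Finset.not_disjoint_iff] at h1
    obtain ⟨E, hEB, hEC⟩ := h1
    unfold nb at hEB hEC
    rw [Finset.mem_filter] at hEB hEC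
    exact ⟨E, hEB.1, hEB.2, hEC.2⟩

end Cfsg.Agent.H3.Orb24
end

-- part: H3/SylTrans
section
/-!
# A subgroup `T` of odd index of `K` is transitive on the `K`-orbits of 2-power size (helper3)
-/

set_option autoImplicit false

open MulAction Subgroup
open scoped Pointwise

namespace Cfsg.Agent.H3.SylTrans

open Cfsg.Agent.SporadicStructure.M24IndexAbs

variable {G Ω : Type*} [Group G] [Finite G] [MulAction G Ω]

omit [Finite G] in
theorem card_orb_eq_relIndex [Fintype Ω] (K : Subgroup G) (x : Ω) :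
    (orb K x).card = (stabilizer G x).relIndex K := by
  have h1 : (orb K x : Set Ω) = orbit K x := by
    ext y
    rw [Finset.mem_coe, mem_orb]
    constructor
    · rintro ⟨k, hk, rfl⟩
      exact ⟨⟨k, hk⟩, rfl⟩
    · rintro ⟨k, rfl⟩
      exact ⟨k, k.2, rfl⟩
  have h2 : (orb K x).card = (orbit K x).ncard := by
    rw [← h1, Set.ncard_coe_finset]
  rw [h2, ← index_stabilizer]
  rfl

theorem orb_eq [Fintype Ω] {T K : Subgroup G} (hTK : T ≤ K) (hodd : Odd (T.relIndex K)) {x : Ω} {k : ℕ}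
    (hk : (orb K x).card = 2 ^ k) : orb T x = orb K x := by
  apply Finset.eq_of_subset_of_card_le
  · intro y hy
    obtain ⟨t, ht, rfl⟩ := mem_orb.1 hy
    exact mem_orb.2 ⟨t, hTK ht, rfl⟩
  · have h1 := relIndex_mul_relIndex (stabilizer G x ⊓ T) T K inf_le_right hTK
    have h2 := relIndex_mul_relIndex (stabilizer G x ⊓ T) (stabilizer G x ⊓ K) K (inf_le_inf_left _ hTK) inf_le_right
    rw [inf_relIndex_right] at h1
    rw [inf_relIndex_right, ← card_orb_eq_relIndex K x, hk] at h2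
    rw [← card_orb_eq_relIndex T x] at h1
    have h3 : 2 ^ k ∣ (orb T x).card * T.relIndex K := by
      rw [h1, ← h2]
      exact Dvd.intro_left _ rfl
    have h4 : 2 ^ k ∣ (orb T x).card :=
      (Nat.Coprime.pow_left k (Nat.coprime_two_left.2 hodd)).dvd_of_dvd_mul_right h3
    rw [hk]
    exact Nat.le_of_dvd (Finset.card_pos.2 ⟨x, mem_orb.2 ⟨1, T.one_mem, one_smul _ _⟩⟩) h4

/-- **Transitivity of subgroups of odd index on sets of 2-power size.** -/
theorem exists_smul_eq [Fintype Ω] [DecidableEq Ω] {T K : Subgroup G} (hTK : T ≤ K) (hodd : Odd (T.relIndex K))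
    {C : Finset Ω} {k : ℕ} (hC : C.card = 2 ^ k) (hK : ∀ g ∈ K, ∀ x ∈ C, g • x ∈ C)
    (htr : ∀ x ∈ C, ∀ y ∈ C, ∃ g ∈ K, g • x = y) {x y : Ω} (hx : x ∈ C) (hy : y ∈ C) : ∃ t ∈ T, t • x = y := by
  have h1 : orb K x = C := by
    ext z
    rw [mem_orb]
    constructor
    · rintro ⟨g, hg, rfl⟩
      exact hK g hg x hx
    · exact fun hz => htr x hx z hz
  have h2 := orb_eq hTK hodd (x := x) (k := k) (by rw [h1, hC])
  rw [h1] at h2
  rw [← h2] at hy
  exact mem_orb.1 hy

end Cfsg.Agent.H3.SylTrans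
end

-- part: H3/M24Loc
section
/-!
# Subgroups of `M24` of odd index with `O_2 ≠ 1` (helper3)

`main`: such a subgroup fixes an octad, a trio or a sextet.
-/

set_option autoImplicit false

open MulAction Subgroup
open scoped Pointwise

namespace Cfsg.Agent.H3.M24Loc

open Cfsg Cfsg.Agent.SporadicStructure.M24IndexAbs
open Cfsg.Agent.KFacts.M24Two.Count (exists_frame_map F0 p7 O0 O0_mem)

theorem card_octad {o : Finset GolayPt} (ho : o ∈ octads) : o.card = 8 := ho.2

theorem card24 : Fintype.card GolayPt = 24 := by simp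

/-- six points of an octad, the first one prescribed -/
theorem exists_six {o : Finset GolayPt} (ho : o ∈ octads) {x : GolayPt} (hx : x ∈ o) :
    ∃ a : ℕ → GolayPt, a 0 = x ∧ (∀ i < 6, ∀ j < 6, a i = a j → i = j) ∧ ∀ i < 6, a i ∈ o := by
  have e := (Finset.equivFinOfCardEq (card_octad ho)).symm
  let f : Fin 8 → GolayPt := fun i => ((Equiv.swap 0 (e.symm ⟨x, hx⟩)).trans e i : o)
  have hf : Function.Injective f := fun i j h => ((Equiv.swap 0 (e.symm ⟨x, hx⟩)).trans e).injective (Subtype.ext h)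
  have hf0 : f 0 = x := by
    show (((Equiv.swap 0 (e.symm ⟨x, hx⟩)).trans e 0 : o) : GolayPt) = x
    rw [Equiv.trans_apply, Equiv.swap_apply_left, Equiv.apply_symm_apply]
  have hfo : ∀ i, f i ∈ o := fun i => ((Equiv.swap 0 (e.symm ⟨x, hx⟩)).trans e i : o).2
  refine ⟨fun i => if h : i < 8 then f ⟨i, h⟩ else x, ?_, ?_, ?_⟩
  · show (if h : 0 < 8 then f ⟨0, h⟩ else x) = x
    rw [dif_pos (by norm_num)]
    exact hf0
  · intro i hi j hj h
    have h1 : f ⟨i, by omega⟩ = f ⟨j, by omega⟩ := by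
      have := h
      simp only [dif_pos (show i < 8 by omega), dif_pos (show j < 8 by omega)] at this
      exact this
    exact congrArg Fin.val (hf h1)
  · intro i hi
    show (if h : i < 8 then f ⟨i, h⟩ else x) ∈ o
    rw [dif_pos (by omega)]
    exact hfo _

theorem exists_notMem {o : Finset GolayPt} (ho : o ∈ octads) : ∃ p, p ∉ o := by
  by_contra h
  push Not at h
  have h1 : o = Finset.univ := Finset.eq_univ_iff_forall.2 h
  have h2 := card_octad ho
  rw [h1, Finset.card_univ, card24] at h2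
  omega

/-- the stabiliser of an octad is transitive on it -/
theorem trans_in {o : Finset GolayPt} (ho : o ∈ octads) {x y : GolayPt} (hx : x ∈ o) (hy : y ∈ o) :
    ∃ g ∈ stabilizer M24 o, g • x = y := by
  obtain ⟨a, ha0, ha1, ha2⟩ := exists_six ho hx
  obtain ⟨b, hb0, hb1, hb2⟩ := exists_six ho hy
  obtain ⟨p, hp⟩ := exists_notMem ho
  obtain ⟨g, hg1, -, hg3⟩ := exists_frame_map ho ha1 ha2 hp
  obtain ⟨h, hh1, -, hh3⟩ := exists_frame_map ho hb1 hb2 hp
  refine ⟨h * g⁻¹, ?_, ?_⟩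
  · have h1 : g⁻¹ • o = O0 := by rw [inv_smul_eq_iff, hg3]
    rw [mem_stabilizer_iff, mul_smul, h1, hh3]
  · rw [mul_smul, ← ha0, ← hg1 0 (by norm_num), inv_smul_smul, hh1 0 (by norm_num), hb0]

/-- the stabiliser of an octad is transitive on the complement -/
theorem trans_out {o : Finset GolayPt} (ho : o ∈ octads) {x y : GolayPt} (hx : x ∉ o) (hy : y ∉ o) :
    ∃ g ∈ stabilizer M24 o, g • x = y := by
  obtain ⟨q, hq⟩ : ∃ q, q ∈ o := Finset.card_pos.1 (by rw [card_octad ho]; norm_num)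
  obtain ⟨a, ha0, ha1, ha2⟩ := exists_six ho hq
  obtain ⟨g, -, hg2, hg3⟩ := exists_frame_map ho ha1 ha2 hx
  obtain ⟨h, -, hh2, hh3⟩ := exists_frame_map ho ha1 ha2 hy
  refine ⟨h * g⁻¹, ?_, ?_⟩
  · have h1 : g⁻¹ • o = O0 := by rw [inv_smul_eq_iff, hg3]
    rw [mem_stabilizer_iff, mul_smul, h1, hh3]
  · rw [mul_smul, ← hg2, inv_smul_smul, hh2]

theorem card_M24 : Nat.card M24 = 244823040 := SporadicA.M24Trans.card_M24

/-- subgroups of order 1024 have odd index in all overgroups -/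
theorem odd_relIndex {T K : Subgroup M24} (hT : Nat.card T = 1024) (hTK : T ≤ K) : Odd (T.relIndex K) := by
  have h1 := card_mul_index T
  rw [hT, card_M24] at h1
  have h2 : T.index = 239085 := by omega
  have h3 : T.relIndex K ∣ 239085 := h2 ▸ relIndex_dvd_index_of_le hTK
  exact Odd.of_dvd_nat (by decide) h3

variable {T : Subgroup M24} {o : Finset GolayPt}

theorem syl_in (ho : o ∈ octads) (hT : Nat.card T = 1024) (hTo : T ≤ stabilizer M24 o) {x y : GolayPt}
    (hx : x ∈ o) (hy : y ∈ o) : ∃ t ∈ T, t • x = y := by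
  refine SylTrans.exists_smul_eq hTo (odd_relIndex hT hTo) (C := o) (k := 3) (card_octad ho) ?_ ?_ hx hy
  · intro g hg z hz
    rw [← mem_stabilizer_iff.1 hg, Finset.smul_mem_smul_finset_iff]
    exact hz
  · exact fun x hx y hy => trans_in ho hx hy

theorem syl_out (ho : o ∈ octads) (hT : Nat.card T = 1024) (hTo : T ≤ stabilizer M24 o) {x y : GolayPt}
    (hx : x ∉ o) (hy : y ∉ o) : ∃ t ∈ T, t • x = y := by
  refine SylTrans.exists_smul_eq hTo (odd_relIndex hT hTo) (C := oᶜ) (k := 4) ?_ ?_ ?_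
    (Finset.mem_compl.2 hx) (Finset.mem_compl.2 hy)
  · rw [Finset.card_compl, card_octad ho, card24]
    norm_num
  · intro g hg z hz
    rw [Finset.mem_compl] at hz ⊢
    rwa [← mem_stabilizer_iff.1 hg, Finset.smul_mem_smul_finset_iff]
  · exact fun x hx y hy => trans_out ho (Finset.mem_compl.1 hx) (Finset.mem_compl.1 hy)

/-- an involution commuting with a subgroup of order 1024 fixes exactly the points of an octad -/
theorem exists_octad {u : M24} (hu : u * u = 1) (hu1 : u ≠ 1) (hT : Nat.card T = 1024)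
    (hTu : ∀ t ∈ T, t * u = u * t) :
    ∃ o ∈ octads, (∀ p : GolayPt, u • p = p ↔ p ∈ o) ∧ T ≤ stabilizer M24 o := by
  have key : ∃ g : M24, g * u * g⁻¹ = KFacts.M24Two.Count.z := by
    rcases KFacts.M24Two.Count.conj_or u hu hu1 with h | ⟨g, hg⟩
    · exact h
    · exfalso
      have h1 : T.map (MulAut.conj g).toMonoidHom ≤ centralizer ({KFacts.M24Two.Count.w} : Set M24) := by
        rintro _ ⟨t, ht, rfl⟩
        rw [mem_centralizer_singleton_iff, ← hg]
        show g * t * g⁻¹ * (g * u * g⁻¹) = g * u * g⁻¹ * (g * t * g⁻¹)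
        have h2 := hTu t ht
        calc g * t * g⁻¹ * (g * u * g⁻¹) = g * (t * u) * g⁻¹ := by group
          _ = g * (u * t) * g⁻¹ := by rw [h2]
          _ = g * u * g⁻¹ * (g * t * g⁻¹) := by group
      have h2 := card_dvd_of_le h1
      rw [KFacts.M24Two.Orders.card_centralizer_w, Nat.card_congr
        (T.equivMapOfInjective _ (MulAut.conj g).injective).toEquiv.symm, hT] at h2
      revert h2
      decide
  obtain ⟨g, hg⟩ := key
  have hfix : ∀ p : GolayPt, u • p = p ↔ p ∈ g⁻¹ • O0 := by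
    intro p
    have h1 := KFacts.M24Two.Count.z_fix_iff (g • p)
    rw [← hg, mul_smul, mul_smul, inv_smul_smul, smul_left_cancel_iff] at h1
    rw [h1, ← Finset.smul_mem_smul_finset_iff g (s := g⁻¹ • O0), smul_inv_smul]
  have ho : g⁻¹ • O0 ∈ octads := (SporadicA.GolayPerm.smul_mem_octads (g⁻¹).2).2 O0_mem
  refine ⟨g⁻¹ • O0, ho, hfix, ?_⟩
  intro t ht
  rw [mem_stabilizer_iff]
  apply Finset.eq_of_subset_of_card_le
  · intro p hp
    obtain ⟨q, hq, rfl⟩ := Finset.mem_smul_finset.1 hp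
    rw [← hfix] at hq ⊢
    rw [← mul_smul, ← hTu t ht, mul_smul, hq]
  · exact (Finset.card_smul_finset t (g⁻¹ • O0)).ge

theorem smul_octads (g : M24) (ho : o ∈ octads) : g • o ∈ octads := (SporadicA.GolayPerm.smul_mem_octads g.2).2 ho

/-- a block which is an octad gives a trio -/
theorem trio_of_blk {H : Subgroup M24} (htr : ∀ x y : GolayPt, ∃ h ∈ H, h • x = y) (ho : o ∈ octads)
    (hb : IsBlk H o) : ∃ T ∈ trios, H ≤ stabilizer M24 T := by
  obtain ⟨q, hq⟩ : ∃ q, q ∈ o := Finset.card_pos.1 (by rw [card_octad ho]; norm_num)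
  have h1 : (translates H o).card * o.card = 24 := by
    rw [hb.card_mul_eq, card24]
    intro y
    obtain ⟨h, hh, rfl⟩ := htr q y
    exact ⟨h, hh, by rw [Finset.smul_mem_smul_finset_iff]; exact hq⟩
  rw [card_octad ho] at h1
  refine ⟨translates H o, ⟨by omega, ?_, hb.pairwise⟩, ?_⟩
  · intro c hc
    obtain ⟨h, -, rfl⟩ := mem_translates.1 hc
    exact smul_octads h ho
  · intro h hh
    rw [mem_stabilizer_iff]
    apply Finset.eq_of_subset_of_card_le
    · intro c hc
      obtain ⟨d, hd, rfl⟩ := Finset.mem_smul_finset.1 hc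
      exact smul_mem_translates hh hd
    · exact (Finset.card_smul_finset h (translates H o)).ge

/-- six 4-sets linked by octads form a sextet -/
theorem sextet_of_dat {H : Subgroup M24} (ho : o ∈ octads) {𝓑 : Finset (Finset GolayPt)} (h6 : 𝓑.card = 6)
    (h4 : ∀ B ∈ 𝓑, B.card = 4) (hH : ∀ h ∈ H, ∀ B ∈ 𝓑, h • B ∈ 𝓑)
    (hdis : ∀ B ∈ 𝓑, ∀ C ∈ 𝓑, B ≠ C → Disjoint B C)
    (hc : ∀ B ∈ 𝓑, ∀ C ∈ 𝓑, ∃ D ∈ 𝓑, (D = B ∨ (D ≠ B ∧ D ∪ B ∈ translates H o)) ∧
        (D = C ∨ (D ≠ C ∧ D ∪ C ∈ translates H o))) : ∃ S ∈ sextets, H ≤ stabilizer M24 S := by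
  have key : ∀ B ∈ 𝓑, ∀ D ∈ 𝓑, (D = B ∨ (D ≠ B ∧ D ∪ B ∈ translates H o)) →
      SporadicStructure.Sextet.sextetOf D = SporadicStructure.Sextet.sextetOf B := by
    rintro B hB D hD (rfl | ⟨hne, h⟩)
    · rfl
    · apply SporadicStructure.SextetAction.sextetOf_eq (h4 D hD) (h4 B hB)
      have h1 : symmDiff D B = D ∪ B := (hdis D hD B hB hne).symmDiff_eq_sup
      rw [h1]
      obtain ⟨g, -, hg⟩ := mem_translates.1 h
      rw [← hg]
      exact (smul_octads g ho).1
  obtain ⟨B₀, hB₀⟩ : ∃ B, B ∈ 𝓑 := Finset.card_pos.1 (by rw [h6]; norm_num)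
  have hall : ∀ B ∈ 𝓑, SporadicStructure.Sextet.sextetOf B = SporadicStructure.Sextet.sextetOf B₀ := by
    intro B hB
    obtain ⟨D, hD, h1, h2⟩ := hc B hB B₀ hB₀
    rw [← key B hB D hD h1, key B₀ hB₀ D hD h2]
  have hS := SporadicStructure.SextetAction.sextetOf_mem (h4 B₀ hB₀)
  have heq : 𝓑 = SporadicStructure.Sextet.sextetOf B₀ := by
    apply Finset.eq_of_subset_of_card_le
    · intro B hB
      rw [← hall B hB]
      exact SporadicStructure.Sextet.self_mem_sextetOf B
    · rw [h6, hS.1]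
  refine ⟨𝓑, heq ▸ hS, ?_⟩
  intro h hh
  rw [mem_stabilizer_iff]
  apply Finset.eq_of_subset_of_card_le
  · intro c hc
    obtain ⟨d, hd, rfl⟩ := Finset.mem_smul_finset.1 hc
    exact hH h hh d hd
  · exact (Finset.card_smul_finset h 𝓑).ge

/-- an involutory element of `M24` fixing more than 9 points is trivial -/
theorem fix_nine (t : M24) (ht : ∀ x : GolayPt, t • t • x = x)
    (h9 : 9 < (Finset.univ.filter fun x : GolayPt => t • x = x).card) : ∀ x : GolayPt, t • x = x := by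
  by_contra hne
  push Not at hne
  obtain ⟨x, hx⟩ := hne
  have ht2 : t * t = 1 := by
    apply Subtype.ext
    apply Equiv.ext
    intro y
    exact ht y
  have ht1 : t ≠ 1 := by
    rintro rfl
    exact hx (one_smul _ _)
  have h1 : 0 < (Finset.univ.filter fun x : GolayPt => t • x = x).card := by omega
  obtain ⟨p, hp⟩ := Finset.card_pos.1 h1
  obtain ⟨g, hg⟩ := KFacts.M24Two.Count.conj_z_of_fix ht2 ht1 (Finset.mem_filter.1 hp).2
  have h2 : (Finset.univ.filter fun x : GolayPt => t • x = x) ⊆ g⁻¹ • O0 := by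
    intro p hp
    have h3 := (Finset.mem_filter.1 hp).2
    have h4 := KFacts.M24Two.Count.z_fix_iff (g • p)
    rw [← hg, mul_smul, mul_smul, inv_smul_smul, smul_left_cancel_iff] at h4
    rw [← Finset.smul_mem_smul_finset_iff g (s := g⁻¹ • O0), smul_inv_smul]
    exact h4.1 h3
  have h3 := Finset.card_le_card h2
  rw [Finset.card_smul_finset, card_octad O0_mem] at h3
  omega

/-- **Subgroups of `M24` of odd index with `O_2 ≠ 1`** -/
theorem main (H : Subgroup M24) (h2 : 1024 ∣ Nat.card H) (hO : pCore 2 H ≠ ⊥) :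
    (∃ o ∈ octads, H ≤ stabilizer M24 o) ∨ (∃ T ∈ trios, H ≤ stabilizer M24 T) ∨
      ∃ S ∈ sextets, H ≤ stabilizer M24 S := by
  have hp2 : Fact (Nat.Prime 2) := ⟨Nat.prime_two⟩
  obtain ⟨T₀⟩ : Nonempty (Sylow 2 H) := inferInstance
  have hT₀ : Nat.card T₀ = 1024 := by
    obtain ⟨n, hn⟩ := IsPGroup.iff_card.1 T₀.isPGroup'
    have h3 : 2 ^ 10 ∣ Nat.card T₀ := T₀.pow_dvd_card_of_pow_dvd_card h2
    have h4 : Nat.card T₀ ∣ Nat.card M24 := (card_subgroup_dvd_card _).trans (card_subgroup_dvd_card _)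
    have h5 : n ≤ 10 := by
      by_contra hc
      have h6 : 2 ^ 11 ∣ Nat.card M24 := (pow_dvd_pow 2 (by omega)).trans (hn ▸ h4)
      rw [card_M24] at h6
      revert h6
      decide
    have h6 : 10 ≤ n := by
      rw [hn] at h3
      exact (Nat.pow_dvd_pow_iff_le_right (by norm_num)).1 h3
    rw [hn, show n = 10 by omega]
    norm_num
  set T : Subgroup M24 := (T₀ : Subgroup H).map H.subtype with hTdef
  have hT : Nat.card T = 1024 := by
    rw [hTdef, Nat.card_congr ((T₀ : Subgroup H).equivMapOfInjective _ H.subtype_injective).toEquiv.symm]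
    exact hT₀
  -- the normal 2-subgroup
  set R : Subgroup M24 := (pCore 2 H).map H.subtype with hR
  have hRH : R ≤ H := map_subtype_le _
  have hRn : ∀ h ∈ H, ∀ r ∈ R, h * r * h⁻¹ ∈ R := by
    rintro h hh _ ⟨r, hr, rfl⟩
    exact ⟨(⟨h, hh⟩ * r * ⟨h, hh⟩⁻¹ :), (Lib.Cores.pCore_normal 2).conj_mem r hr ⟨h, hh⟩, rfl⟩
  have hRp : IsPGroup 2 R := (Lib.Cores.pCore_isPGroup 2).map _
  have hcore := Lib.Cores.pCore_le_sylow T₀
  -- the central involution
  have hex : ∃ u ∈ R, u * u = 1 ∧ u ≠ 1 ∧ ∀ t ∈ T, t * u = u * t := by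
    have hn : ((pCore 2 H).subgroupOf (T₀ : Subgroup H)).Normal := (Lib.Cores.pCore_normal 2).subgroupOf _
    obtain ⟨u, hu, huc, huo⟩ := Transfer.PGroupNormal.exists_mem_inf_center_orderOf T₀.isPGroup'
      ((pCore 2 H).subgroupOf (T₀ : Subgroup H)) (by
        intro he
        rw [subgroupOf_eq_bot] at he
        exact hO (le_bot_iff.1 ((le_inf le_rfl hcore).trans (disjoint_iff_inf_le.1 he))))
    refine ⟨((u : H) : M24), ⟨(u : H), mem_subgroupOf.1 hu, rfl⟩, ?_, ?_, ?_⟩
    · have h3 := pow_orderOf_eq_one u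
      rw [huo, pow_two] at h3
      exact congrArg (fun x : T₀ => ((x : H) : M24)) h3
    · intro he
      have h3 : u = 1 := Subtype.ext (Subtype.ext he)
      rw [h3, orderOf_one] at huo
      omega
    · rintro _ ⟨t, ht, rfl⟩
      have h3 := mem_center_iff.1 huc ⟨t, ht⟩
      exact congrArg (fun x : T₀ => ((x : H) : M24)) h3
  obtain ⟨u, huR, hu2, hu1, huT⟩ := hex
  obtain ⟨o, ho, hfix, hTo⟩ := exists_octad hu2 hu1 hT huT
  have hTH : T ≤ H := map_subtype_le _
  have hRT : R ≤ T := map_mono hcore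
  by_cases hpres : ∀ h ∈ H, ∀ x ∈ o, h • x ∈ o
  · left
    refine ⟨o, ho, fun h hh => ?_⟩
    rw [mem_stabilizer_iff]
    apply Finset.eq_of_subset_of_card_le
    · intro c hc
      obtain ⟨d, hd, rfl⟩ := Finset.mem_smul_finset.1 hc
      exact hpres h hh d hd
    · exact (Finset.card_smul_finset h o).ge
  · right
    push Not at hpres
    obtain ⟨h₀, hh₀, x₀, hx₀, hx₀'⟩ := hpres
    have hto : ∀ y : GolayPt, ∃ h ∈ H, h • x₀ = y := by
      intro y
      by_cases hy : y ∈ o
      · obtain ⟨t, ht, h3⟩ := syl_in ho hT hTo hx₀ hy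
        exact ⟨t, hTH ht, h3⟩
      · obtain ⟨t, ht, h3⟩ := syl_out ho hT hTo hx₀' hy
        exact ⟨t * h₀, H.mul_mem (hTH ht) hh₀, by rw [mul_smul, h3]⟩
    have htr : ∀ x y : GolayPt, ∃ h ∈ H, h • x = y := by
      intro x y
      obtain ⟨g, hg, hgx⟩ := hto x
      obtain ⟨h, hh, hhy⟩ := hto y
      exact ⟨h * g⁻¹, H.mul_mem hh (H.inv_mem hg), by rw [mul_smul, ← hgx, inv_smul_smul, hhy]⟩
    have S : Orb24.Sit H R o :=
      { h24 := card24
        RH := hRH
        norm := hRn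
        pg := hRp
        RO := fun r hr => mem_stabilizer_iff.1 (hTo (hRT hr))
        card := card_octad ho
        trans := htr
        ne := by
          obtain ⟨p, hp⟩ := exists_notMem ho
          exact ⟨u, huR, p, fun h => hp ((hfix p).1 h)⟩ }
    have hodd : Odd (translates H o).card := by
      have h3 : (translates H o).card = (stabilizer M24 o).relIndex H := by
        have h4 : ((translates H o : Finset (Finset GolayPt)) : Set (Finset GolayPt)) = orbit H o := by
          ext c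
          rw [Finset.mem_coe, mem_translates]
          constructor
          · rintro ⟨k, hk, rfl⟩
            exact ⟨⟨k, hk⟩, rfl⟩
          · rintro ⟨k, rfl⟩
            exact ⟨k, k.2, rfl⟩
        have h5 : (translates H o).card = (orbit H o).ncard := by
          rw [← h4, Set.ncard_coe_finset]
        rw [h5, ← index_stabilizer]
        rfl
      rw [h3]
      have h4 : (stabilizer M24 o).relIndex H ∣ T.relIndex H := by
        rw [← inf_relIndex_right]
        exact relIndex_dvd_of_le_left H (le_inf hTo hTH)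
      exact Odd.of_dvd_nat (odd_relIndex hT hTH) h4
    rcases Orb24.size S with hs | hs | hs
    · left
      exact trio_of_blk htr ho (Orb24.blk_two S hs huR (fun x hx => (hfix x).2 hx) (fun x hx h => hx ((hfix x).1 h))
        fix_nine)
    · rcases Orb24.four S hs hodd with hb | ⟨𝓑, h6, h4, hH, hdis, hc⟩
      · left
        exact trio_of_blk htr ho hb
      · right
        exact sextet_of_dat ho h6 h4 hH hdis hc
    · left
      exact trio_of_blk htr ho (Orb24.blk_eight S hs)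

end Cfsg.Agent.H3.M24Loc
end

private theorem dce_9553ef145b68 : _root_.True := by
  try have : _root_.True := by simp only [_root_.Cfsg.Agent.H3.Orb24.Sit.congr_simp]
  exact _root_.True.intro
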