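import Cfsg.Agent.QTNorm.SporHS
import Cfsg.Agent.QTUnique.HS
import Cfsg.Agent.H5.Small
import Cfsg.Agent.H4.Bar_m3
import Cfsg.Agent.SmallSimple.S1000.FrameAut
import Cfsg.Agent.Lib.NormalAbelian
import Cfsg.Agent.H4.Small_m3
import Cfsg.Agent.Ru127.Xi_m3
import Cfsg.Agent.GH.Q2.ModelSp4_m3
import Cfsg.Agent.Omega.Quasithin.Row.EvenOf
import Cfsg.Agent.S0243
import Cfsg.Agent.NotResT.Comp_m3
import Cfsg.Agent.Classification.PSLTwoEvenSylow
import Cfsg.Agent.LieRecognition.PSUThreeSylow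
import Cfsg.Agent.ThreePrime.SzDataExists
import Cfsg.Agent.SevenLow.MTwelve
import Cfsg.Agent.FooteOdd.SporMEleven
import Cfsg.Agent.QTNorm.SporQMinus
import Cfsg.Agent.KFacts.J3
import Cfsg.Agent.KFacts.J2.Facts
import Cfsg.Agent.H5.Ru.Row
import Cfsg.Agent.S1059
import Cfsg.Agent.S0280
import Cfsg.Agent.S0256
import Cfsg.Agent.S0249
import Cfsg.Agent.Lib.FinFast
import Mathlib
import Cfsg.Agent.H1.RowExc
import Cfsg.Agent.ChevalleyStructure.B2Sp4
import Cfsg.Agent.H1.WittPerf_m3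
import Cfsg.Agent.KFacts.RgdFiltClass
import Cfsg.Agent.S0778
import Cfsg.Agent.S1058
import Cfsg.Agent.LargeExtra.W2.U43.CertAll_m3
import Cfsg.Agent.OddHalf.D6.QThree.U43Tw
import Cfsg.Agent.Lib.ListFast
import Cfsg.Agent.HexTwoGlob.InstTwo_m3
import Cfsg.Agent.H4.RowTits
import Cfsg.Agent.LieClassical.FieldTransfer
import Cfsg.Prelude.Def_Quasithin
import Cfsg.Agent.TwoFusion.PerfCore
import Cfsg.Agent.QTUniq.Over
import Cfsg.Agent.H1.Tight
import Cfsg.Agent.H1.RankTwo_m3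
import Cfsg.Agent.H3.M24Loc
import Cfsg.Agent.S1558
import Cfsg.Agent.StdL2.G23Aut
import Cfsg.Agent.S1553
import Cfsg.Agent.S0381
import Cfsg.Agent.S1551
import Cfsg.Agent.CpQuot.Congr
import Cfsg.Agent.SporadicA.MathieuRecog
import Cfsg.Agent.FastGrp
import Cfsg.Agent.Prune
set_option linter.all false

section
prune_inst 0x7ffcecf8acb82ddedfff7e7fa69ccffc39d01fffe6dff943ffe0e1ff0b9f030029e5fb8d09e010fe0ed6601410387843f97eca3fe26bd87ffffd1ff41ffbee0ff5f7b508519488340fbc2fff03f0778a7f3fffffffffffffffffffffffffffbeffbfffffffff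

-- part: H5/ResidEnd
section
prune_inst 0x13070341120120000000584110020204c00019000208000d1e00a44020671200002094044801900082aa20800010000024c00d000400000040004000005002080a85204b248010424000f801080400000000000000000000000000000041004000000000
set_option linter.all false
open scoped Cfsg.Agent.FastGrp

namespace Cfsg.Agent.H90F

private noncomputable def dOf {P : Prop} (b : Bool) (h : b = true ↔ P) : Decidable P :=
  Bool.rec (motive := fun c => b = c → Decidable P) (fun e => isFalse fun hp => Bool.noConfusion (e.symm.trans (h.2 hp)))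
    (fun e => isTrue (h.1 e)) b rfl

private noncomputable def flt (n : ℕ) (p : ∀ k, k < n → Bool) (m : ℕ) : Bool :=
  Nat.rec true (fun k ih => Bool.rec false ih
    (Bool.rec (motive := fun b => Nat.ble (Nat.succ k) n = b → Bool) (fun _ => true)
      (fun h => p k (Nat.le_of_ble_eq_true h)) (Nat.ble (Nat.succ k) n) rfl)) m

private theorem flt_one (n : ℕ) (p : ∀ k, k < n → Bool) (k : ℕ) (b : Bool) (e : Nat.ble (Nat.succ k) n = b) :
    (Bool.rec (motive := fun b => Nat.ble (Nat.succ k) n = b → Bool) (fun _ => true)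
      (fun h => p k (Nat.le_of_ble_eq_true h)) b e : Bool) = true ↔ ∀ h, p k h = true := by
  cases b
  · exact ⟨fun _ h => absurd (Nat.ble_eq_true_of_le h) (by rw [e]; exact Bool.false_ne_true), fun _ => rfl⟩
  · exact ⟨fun h _ => h, fun h => h _⟩

private theorem flt_iff (n : ℕ) (p : ∀ k, k < n → Bool) (m : ℕ) :
    flt n p m = true ↔ ∀ k, k < m → ∀ h, p k h = true := by
  induction m with
  | zero => exact ⟨fun _ k h => absurd h (Nat.not_lt_zero k), fun _ => rfl⟩
  | succ m ih =>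
    have e : ∀ a b : Bool, (Bool.rec false a b : Bool) = true ↔ b = true ∧ a = true := by decide
    refine (e _ _).trans ((and_congr (flt_one n p m _ rfl) ih).trans ⟨fun h k hk => ?_, fun h => ⟨h m (Nat.lt_succ_self m), fun k hk => h k (Nat.lt_succ_of_lt hk)⟩⟩)
    rcases Nat.lt_succ_iff_lt_or_eq.1 hk with h1 | h1
    · exact h.2 k h1
    · exact h1 ▸ h.1

private noncomputable def fbl (n : ℕ) (P : ∀ k, k < n → Prop) [H : ∀ k h, Decidable (P k h)] : Decidable (∀ k h, P k h) :=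
  dOf (flt n (fun k h => @decide _ (H k h)) n)
    ((flt_iff _ _ _).trans ⟨fun h k hk => of_decide_eq_true (h k hk hk), fun h k _ hk => decide_eq_true (h k hk)⟩)

private theorem bl_fun : @Nat.decidableBallLT = @fbl := by
  funext n P H; exact Subsingleton.elim _ _

private theorem tb_fun : Nat.testBit = fun m n => Nat.beq (Nat.land 1 (Nat.shiftRight m n)) 1 := by
  funext m n
  show (1 &&& m >>> n != 0) = Nat.beq (1 &&& m >>> n) 1
  rw [Nat.one_and_eq_mod_two]
  rcases Nat.mod_two_eq_zero_or_one (m >>> n) with h | h <;> rw [h] <;> rfl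

private noncomputable def fem {α : Type} [BEq α] (a : α) (l : List α) : Bool :=
  List.rec false (fun b _ ih => Bool.rec ih true (a == b)) l

private theorem em_fun : @List.elem.{0} = @fem := by
  funext α _ a l
  induction l with
  | nil => rfl
  | cons b l ih => rw [List.elem_cons, ih]; show _ = (Bool.rec (fem a l) true (a == b) : Bool); cases a == b <;> rfl

end Cfsg.Agent.H90F

-- part: H5/HS/Tab
section
/-!
# The Sylow 2-subgroup of `HS` on 100 points (helper5)

Masks `m < 2^11` for the elements of the Sylow 2-subgroup `S` of `2.HS.2`: `nf m 11 = ∏ s i`, `i` in the binary expansion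
of `m`; `im m 11 p` is the image of the point `p`. The elements of the Sylow 2-subgroup of `HS` (even masks at bits 8, 9, 10)
which commute with all their conjugates and have square 1 are the 8 elements of the masks in `EL`.
-/

set_option autoImplicit false
set_option maxRecDepth 100000

namespace Cfsg.Agent.H5.HS.Tab

open Cfsg Cfsg.Agent.HN Cfsg.Agent.HN.Pres Cfsg.Agent.HN.HS100 Cfsg.Agent.HN.H0Basic Cfsg.Agent.HN.P1408
open Cfsg.Agent.HN.Classes Cfsg.Agent.HN.PC Equiv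
open Cfsg.Agent.SporadicA.PermTab (lk)

/-- tables of the polycyclic generators -/
def tb (k : ℕ) : ℕ :=
  match k with
  | 0 => 0xc6188308600be1782e85c0b61682c8580ae1582a8540a61482885009e1382684c0961282484808e118228440861082084007e0f81e83c0760e81c83806e0d81a8340660c81883005e0b81682c0560a81482804e098128240460881082003e0780e81c0360680c81802e0580a8140260480881001e0380680c0160280480800e0180280400600800800
  | 1 => 0x98188308580b6178160290be0e82c8600ae0b82a8540500fc1201809e05c268630921282584803c0ec1e81208609c208110a40542283108c1681c82106802c110370660281e00905e1580d85d05607c2e053084014098510340d41c00805411c0780305a08c0c85009c0081f00e04a1102000103a0500680006c0c81802000e010130060380580800c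
  | 2 => 0x981883082206215c2e8180780d02c8350bc00c2a83906403c0002909e084240630921282584d03c1180d01f0860201581b03a0981185b0760dc2a0170740502c05a06614c2f80605e0700882c0820482800a0400f81280c07a1802702708811c1f82e0801140c85c070058028360260a8168010a402c0682401c0a00204200e0c00a8090ac00808051
  | 3 => 0x20188308170a0178128310300002504e0ae054068540401001b85b0661802400108e1640f04d092008070060860c81583f0221580a05c02c0301c8350480681085109e09c1482a0320f8078130820241e00801400c1603406c0e01102806012c1682603a02c1785f0b0118170450ba0102904c0360f42a85a0461080f85300e0480e04400a0ec3183a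
  | 4 => 0x3c1883084e0b61781d85c0be0902c8170ae0f80683904e03c1d05009e18026847002128080480980b00d0440860a01582d03a158118310ba1442a0350000381c00c0660801e009032054200460820a8148420a600c0105a07a0841103203e18c1f805022114178180b004c1700b02c0480d8490a40d82a8340280201800a00e0100e00604c09425837
  | 5 => 0x981843101503e1782e8040540282c83e0ae1382a85406e02c0403009e158240630961282484d08e0ec1683100e0001582306c1600d81208c0c81c81c0a60fc130280660e82205005e05c2282c08216c030340180d412820080014018240be0780a03807a0440c80905c0083001d0260f00d00101c03c068270a41680c0510860a41105c04205808042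
  | 6 => 0x981883085a06c0e40983d0160d41983a0a809c1785e02a1102701a0940302086309613c2482b08e0080c01d08600c240060240c82800e02c0882b8510c00f01b8580b20140a0110aa1080482509a1482283e03814c2e8170520d01202e07e07815008060170068230001180505b05803c0200103e17c0c8380620982005600e0b41401b0400ec08021
  | 7 => 0x581883082e0b61782605c0be0a02c8560ae1602a8390740b4138180660542685d0041280b0480760781b01200e0902080f03605c0583c08e14c2a0050141140e03209e0d018830032180290630560a81485a0a20840084202800c1300c03e1180883507e0381785007c124270230201100e8130800680682007a0dc048000860101c00604412c12808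
  | 8 => 0x581883084e0b6178260290be0e82c8170ae0f82a854050044120500661802685d02c128010480760780701208609c1583f0801580a03c08e1681c82206e0681083409e0c8188090320540e8630820a82e053084070080510160e01a82003e1181682601e0d8178180b012c1703d002110290250361140680c0460281800800e0180180400a12409800
  | 9 => 0x20188308420b81340b03105200c250270901680c82b0421001305b06614c2b80108e1640f05e09204c0700600e0882a00f0221440a05004a0702080a05c0f41005609e1380c04401a0e81f8020720241e03806a0001d80506c0201905806012c168370a402c2a85f0501741202308c0100e84c0360681781508a05c0906008607c0602a0680b03183e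
  | _ => 0x201c2183c06a1781604e0440d80c8310ae0102783901e0c81e8380aa170158100920bc2584108e0081203e0c2100240420141102886002c02c2a05001c1682f81401a1482c01c0940181005d09a0140b81d02207c1284500016c0c02d04c078140300100302c8210520ec090340260541384c0a60dc1981a0740fc0181b0c40b81505601211831823

/-- `s 4`, inverse -/
def t4i : ℕ := 0x3c1883084e0b61781d85c0be0902c8170ae0f80683904e03c1d05009e18026847002128080480980b00d0440860a01582d03a158118310ba1442a0350000381c00c0660801e009032054200460820a8148420a600c0105a07a0841103203e18c1f805022114178180b004c1700b02c0480d8490a40d82a8340280201800a00e0100e00604c09425837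
/-- `s 9 * s 10` -/
def t9 : ℕ := 0xc610c03850040134010530100f42a8180900a8198410361380a00a0320c41c84c03c034238540920b0028510c203c2f02202e018130420ba1141585b03400c2e02305e100138370b207c2c0160ae0301402d03a0c01d80e07c0a42f83f00012c1c0440c0054250320780940205608c0901a8010420b82780b0380441a0520c40e80485a02404c08036
/-- inverse -/
def t9i : ℕ := 0xc601c2181b0421041d8350700101782d0560502c8480b80202206001a1482f04c03c0642385709204c1d01c0c40f02a03204008c2d01704a0182681d060000088090aa0602702606603814046072158110290620f40b0120681000785f05c12c1380b0a60dc2785807e0b00d05100400c050010840902502a0181400285b0c20f82281506c1740801f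

theorem tb_eq : ∀ k < 11, ∀ i < 100, t1 (Syl.sw k) i = lk (tb k) i := by decide +kernel

/-- the point `p` under the element of mask `m` -/
def im (m : ℕ) : ℕ → ℕ → ℕ
  | 0, p => p
  | n + 1, p => im m n (bif m.testBit n then lk (tb n) p else p)

/-- the element of mask `m` -/
noncomputable def nf (m : ℕ) : ℕ → H0
  | 0 => 1
  | n + 1 => nf m n * (bif m.testBit n then Syl.s n else 1)

/-- parity at the bits 8, 9, 10 -/
def pm (m : ℕ) : Bool := (m.testBit 8).xor ((m.testBit 9).xor (m.testBit 10))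

theorem φ_s {k : ℕ} (hk : k < 11) (i : Fin 100) : ((φ (Syl.s k) i : Fin 100) : ℕ) = lk (tb k) i := by
  rw [Syl.s, φ_hw_apply]
  exact tb_eq k hk i i.2

theorem φ_nf (m : ℕ) {n : ℕ} (hn : n ≤ 11) (i : Fin 100) : ((φ (nf m n) i : Fin 100) : ℕ) = im m n i := by
  induction n generalizing i with
  | zero => rw [nf, map_one]; rfl
  | succ n ih =>
    rw [nf, im, map_mul, Perm.mul_apply, ih (by omega)]
    congr 1
    cases m.testBit n
    · rw [cond_false, cond_false, map_one]; rfl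
    · rw [cond_true, cond_true, φ_s (by omega)]

theorem nf_add (m n j : ℕ) (hj : j ≤ n) : nf (2 ^ n + m) j = nf m j := by
  induction j with
  | zero => rfl
  | succ j ih => rw [nf, nf, ih (by omega), Nat.testBit_two_pow_add_gt (by omega)]

theorem nf_lt {m n : ℕ} (h : m < 2 ^ n) : nf m (n + 1) = nf m n := by
  rw [nf, Nat.testBit_lt_two_pow h, cond_false, mul_one]

theorem exists_nf {n : ℕ} (hn : n ≤ 11) {g : H0} (hg : g ∈ Syl.P n) : ∃ m < 2 ^ n, g = nf m n := by
  induction n generalizing g with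
  | zero =>
    refine ⟨0, by norm_num, ?_⟩
    have h : g ∈ (⊥ : Subgroup H0) := by rw [← Pc_zero Syl.s]; exact hg
    exact Subgroup.mem_bot.1 h
  | succ n ih =>
    rcases (Syl.step (k := n) (by omega)).mem hg with h | h
    · obtain ⟨m, hm, h1⟩ := ih (by omega) h
      exact ⟨m, hm.trans_le (Nat.pow_le_pow_right (by norm_num) (by omega)), by rw [nf_lt hm, h1]⟩
    · obtain ⟨m, hm, h1⟩ := ih (by omega) h
      refine ⟨2 ^ n + m, by rw [pow_succ]; omega, ?_⟩
      rw [nf, nf_add _ _ _ le_rfl, Nat.testBit_two_pow_add_eq, Nat.testBit_lt_two_pow hm, Bool.not_false, cond_true, ← h1,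
        inv_mul_cancel_right]

/-! ### parity -/

theorem par_s : ∀ k < 11, okw (Syl.sw k) = true ∧ par (Syl.sw k) = Nat.ble 8 k := by decide +kernel

theorem sgn_s {k : ℕ} (hk : k < 11) : sgn (Syl.s k) = if 8 ≤ k then -1 else 1 := by
  obtain ⟨h1, h2⟩ := par_s k hk
  rw [Syl.s, sgn_hw h1, h2]
  by_cases h : 8 ≤ k
  · rw [if_pos h, show Nat.ble 8 k = true by simpa using h]
  · rw [if_neg h]
    have : Nat.ble 8 k = false := by
      cases hb : Nat.ble 8 k
      · rfl
      · exact absurd (by simpa using hb) h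
    rw [this]

theorem sgn_bit {k : ℕ} (hk : k < 11) (b : Bool) :
    sgn (bif b then Syl.s k else 1) = if b = true ∧ 8 ≤ k then -1 else 1 := by
  cases b
  · simp
  · rw [cond_true, sgn_s hk]; simp

theorem sgn_nf8 (m : ℕ) {n : ℕ} (hn : n ≤ 8) : sgn (nf m n) = 1 := by
  induction n with
  | zero => rw [nf, map_one]
  | succ n ih =>
    rw [nf, map_mul, ih (by omega), one_mul, sgn_bit (by omega), if_neg]
    rintro ⟨-, h⟩
    omega

theorem mem_K (m : ℕ) : nf m 11 ∈ K ↔ pm m = false := by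
  rw [mem_K_iff, nf, nf, nf, map_mul, map_mul, map_mul, sgn_nf8 m le_rfl, sgn_bit (by norm_num), sgn_bit (by norm_num),
    sgn_bit (by norm_num), pm]
  cases m.testBit 8 <;> cases m.testBit 9 <;> cases m.testBit 10 <;> simp

/-! ### the search -/

/-- the masks of the elements of the elementary abelian group of order 8 -/
def EL : List ℕ := [0, 2, 4, 6, 32, 34, 36, 38]

/-- the square moves `p` -/
def q2 (m p : ℕ) : Bool := !(Nat.beq (im m 11 (im m 11 p)) p)

/-- `x` and `g x g⁻¹` do not commute, at the point `p`; `g`, `g⁻¹` given by tables -/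
def nc (t t' m p : ℕ) : Bool :=
  !(Nat.beq (im m 11 (lk t (im m 11 (lk t' p)))) (lk t (im m 11 (lk t' (im m 11 p)))))

/-- the condition on a mask -/
def chk (m : ℕ) : Bool :=
  pm m || EL.contains m || q2 m 0 || q2 m 1 || nc t9 t9i m 0 || nc (tb 4) t4i m 0

private noncomputable def _root_.Cfsg.Agent.LsF.f604dc0_3 : {f // @Cfsg.Agent.H5.HS.Tab.tb = f} := ⟨_, by first | (delta Cfsg.Agent.H5.HS.Tab.tb; (try delta Cfsg.Agent.H5.HS.Tab.tb.match_1); (try rewrite [Cfsg.Agent.LsF.instDecEq_eq, Cfsg.Agent.LsF.dite_eq]); exact rfl) | exact rfl⟩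
theorem chk_all : ∀ m < 1024, chk (2 * m) = true := by (delta Cfsg.Agent.H5.HS.Tab.chk Cfsg.Agent.H5.HS.Tab.nc Cfsg.Agent.H5.HS.Tab.im._f Cfsg.Agent.H5.HS.Tab.pm List.contains Cfsg.Agent.H5.HS.Tab.im Cfsg.Agent.H5.HS.Tab.q2; refine of_decide_eq_true ?_; rewrite [H90F.bl_fun, H90F.tb_fun, H90F.em_fun]; ((try (delta Nat.brecOn Nat.brecOn.go; rewrite [Cfsg.Agent.LsF.f604dc0_3.2, Cfsg.Agent.LsF.nmul_pat, Cfsg.Agent.LsF.instNBEq_pat, Cfsg.Agent.LsF.or_eq, Cfsg.Agent.LsF.not_eq, Cfsg.Agent.LsF.cond_eq, Cfsg.Agent.LsF.dBoolEq_eq, Cfsg.Agent.LsF.bxor_eq, Cfsg.Agent.LsF.decide_eq])); decide +kernel))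

theorem tab4 : ∀ i < 100, lk (tb 4) (lk t4i i) = i := by decide +kernel
theorem tab9 : ∀ i < 100, lk t9 (lk t9i i) = i ∧ lk (tb 9) (lk (tb 10) i) = lk t9 i ∧ lk t9i i < 100 := by decide +kernel
theorem tab4' : ∀ i < 100, lk t4i i < 100 := by decide +kernel
theorem tb_zero : ∀ i < 100, lk (tb 0) i = i := by decide +kernel

/-! ### the eight elements -/

private noncomputable def _root_.Cfsg.Agent.LsF.f604dc0_4 : {f // @Cfsg.Agent.H5.HS.Tab.im = f} := ⟨_, by first | (delta Cfsg.Agent.H5.HS.Tab.im Nat.brecOn.go Nat.brecOn Cfsg.Agent.H5.HS.Tab.im._f; rewrite [Cfsg.Agent.LsF.f604dc0_3.2, Cfsg.Agent.LsF.cond_eq, Cfsg.Agent.LsF.testBit_eq]; (try delta Cfsg.Agent.H5.HS.Tab.im.match_1); (try delta Nat.casesOn); first | dsimp -zeta only | exact rfl) | exact rfl⟩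
theorem EL_mul : ∀ m ∈ EL, ∀ m' ∈ EL, m ^^^ m' ∈ EL ∧ ∀ i < 100, im m 11 (im m' 11 i) = im (m ^^^ m') 11 i := by
  (refine of_decide_eq_true ?_; (try (rewrite [Cfsg.Agent.LsF.dMemE_pat, Cfsg.Agent.LsF.f604dc0_4.2, Cfsg.Agent.LsF.nxor_pat, Cfsg.Agent.LsF.instDecEq_eq, Cfsg.Agent.LsF.dAnd_eq, Cfsg.Agent.LsF.dBAll_eq, Cfsg.Agent.LsF.dBallLT_eq, Cfsg.Agent.LsF.decide_eq])); decide +kernel)

theorem EL_ne : ∀ m ∈ EL, ∀ m' ∈ EL, m ≠ m' → im m 11 0 ≠ im m' 11 0 ∨ im m 11 1 ≠ im m' 11 1 ∨ im m 11 2 ≠ im m' 11 2 ∨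
    im m 11 3 ≠ im m' 11 3 := by
  decide +kernel

theorem EL_par : ∀ m ∈ EL, pm m = false := by decide +kernel

theorem EL_conj : ∀ m ∈ [32, 34, 36, 38], m ∈ EL ∧ m ^^^ 6 ∈ EL ∧
    ∀ i < 100, lk t9 (im m 11 (lk t9i i)) = im (m ^^^ 6) 11 i := by
  (refine of_decide_eq_true ?_; (try (rewrite [Cfsg.Agent.LsF.dMemE_pat, Cfsg.Agent.LsF.f604dc0_4.2, Cfsg.Agent.LsF.nxor_pat, Cfsg.Agent.LsF.instDecEq_eq, Cfsg.Agent.LsF.dAnd_eq, Cfsg.Agent.LsF.dBAll_eq, Cfsg.Agent.LsF.dBallLT_eq, Cfsg.Agent.LsF.decide_eq])); decide +kernel)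

/-- an element of mask `m` does not commute with the table `t`, at the point `p` -/
def ncm (t m p : ℕ) : Bool := !(Nat.beq (im m 11 (lk t p)) (lk t (im m 11 p)))

theorem chk_center : ∀ m < 1024, (pm (2 * m) || [0, 1].contains m || ncm t9 (2 * m) 0 || ncm (tb 7) (2 * m) 0) = true := by
  (delta Cfsg.Agent.H5.HS.Tab.pm Cfsg.Agent.H5.HS.Tab.ncm List.contains Cfsg.Agent.H5.HS.Tab.im Cfsg.Agent.H5.HS.Tab.im._f; refine of_decide_eq_true ?_; rewrite [H90F.bl_fun, H90F.tb_fun, H90F.em_fun]; ((try (delta Nat.brecOn Nat.brecOn.go; rewrite [Cfsg.Agent.LsF.f604dc0_3.2, Cfsg.Agent.LsF.nmul_pat, Cfsg.Agent.LsF.instNBEq_pat, Cfsg.Agent.LsF.or_eq, Cfsg.Agent.LsF.not_eq, Cfsg.Agent.LsF.cond_eq, Cfsg.Agent.LsF.dBoolEq_eq, Cfsg.Agent.LsF.bxor_eq, Cfsg.Agent.LsF.decide_eq])); decide +kernel))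

/-! ### thirty conjugates of `y` in `C(z)` -/

/-- words of elements of `C(z)` -/
def cwd (k : ℕ) : List ℕ :=
  match k with
  | 0 => [2]
  | 1 => [3]
  | 2 => Syl.sw 8 ++ Syl.sw 10
  | 3 => Syl.sw 8 ++ Syl.sw 9
  | 4 => Syl.sw 3
  | 5 => Syl.sw 4
  | 6 => Syl.sw 5
  | 7 => Syl.sw 6
  | _ => Syl.sw 7

/-- paths -/
def paths : List (List ℕ) := [[], [0], [1], [2], [2, 0], [3, 0], [4, 0], [2, 1], [0, 2, 0], [1, 2, 0], [4, 2, 0], [7, 2, 0], [0, 2, 1], [1, 2, 1], [2, 0, 2, 0], [5, 0, 2, 0], [2, 1, 2, 0], [4, 1, 2, 0], [7, 1, 2, 0], [1, 7, 2, 0], [2, 0, 2, 1], [2, 1, 2, 1], [1, 2, 0, 2, 0], [5, 2, 0, 2, 0], [7, 2, 0, 2, 0], [1, 2, 1, 2, 0], [4, 2, 1, 2, 0], [7, 2, 1, 2, 0], [2, 1, 2, 0, 2, 0], [3, 1, 2, 0, 2, 0]]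

/-- codes of the images of the points 0 and 1 -/
def codes : List ℕ := [10384, 71, 10398, 4609, 11595, 4679, 1566, 7115, 1373, 8507, 7497, 6729, 6422, 1061, 37, 6444, 70, 5062, 1282, 4115, 7426, 6749, 4993, 1555, 7084, 4112, 1595, 11542, 8464, 1025]

/-- the word of a path -/
def pwd (l : List ℕ) : List ℕ := l.flatMap cwd

/-- the word of the conjugate -/
def cjw (l : List ℕ) : List ℕ := pwd l ++ (Syl.sw 2 ++ iw (pwd l))

private noncomputable def _root_.Cfsg.Agent.LsF.f604dc0_2 : {f // @Cfsg.Agent.HN.Syl.sw = f} := ⟨_, by first | (delta Cfsg.Agent.HN.Syl.sw; rewrite [Cfsg.Agent.LsF.getD_eq]; exact rfl) | exact rfl⟩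
private noncomputable def _root_.Cfsg.Agent.LsF.f604dc0_5 : {f // @Cfsg.Agent.H5.HS.Tab.cwd = f} := ⟨_, by first | (delta Cfsg.Agent.H5.HS.Tab.cwd; rewrite [Cfsg.Agent.LsF.f604dc0_2.2, Cfsg.Agent.LsF.lappend_pat]; (try delta Cfsg.Agent.H5.HS.Tab.cwd.match_1); (try rewrite [Cfsg.Agent.LsF.instDecEq_eq, Cfsg.Agent.LsF.dite_eq]); exact rfl) | exact rfl⟩
private noncomputable def _root_.Cfsg.Agent.LsF.f604dc0_0 : {f // @Cfsg.Agent.HN.Classes.lt = f} := ⟨_, by first | (delta Cfsg.Agent.HN.Classes.lt; (try delta Cfsg.Agent.HN.Classes.lt.match_1); (try rewrite [Cfsg.Agent.LsF.instDecEq_eq, Cfsg.Agent.LsF.dite_eq]); exact rfl) | exact rfl⟩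
private noncomputable def _root_.Cfsg.Agent.LsF.f604dc0_1 : {f // @Cfsg.Agent.HN.Classes.t1 = f} := ⟨_, by first | (delta Cfsg.Agent.HN.Classes.t1; rewrite [Cfsg.Agent.LsF.f604dc0_0.2]; exact rfl) | exact rfl⟩
theorem cwd_chk : ∀ k < 9, okw (cwd k) = true ∧ par (cwd k) = false ∧
    ∀ i < 100, t1 (cwd k ++ QTUnique.HS.zw) i = t1 (QTUnique.HS.zw ++ cwd k) i := by (refine of_decide_eq_true ?_; (try (rewrite [Cfsg.Agent.LsF.f604dc0_5.2, Cfsg.Agent.LsF.f604dc0_1.2, Cfsg.Agent.LsF.lappend_pat, Cfsg.Agent.LsF.instDecEq_eq, Cfsg.Agent.LsF.dAnd_eq, Cfsg.Agent.LsF.dBoolEq_eq, Cfsg.Agent.LsF.dBallLT_eq, Cfsg.Agent.LsF.decide_eq])); decide +kernel)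

theorem paths_lt : ∀ l ∈ paths, ∀ k ∈ l, k < 9 := by decide +kernel

private noncomputable def _root_.Cfsg.Agent.LsF.f604dc0_6 : {f // @Cfsg.Agent.H5.HS.Tab.pwd = f} := ⟨_, by first | (delta Cfsg.Agent.H5.HS.Tab.pwd; rewrite [Cfsg.Agent.LsF.f604dc0_5.2, Cfsg.Agent.LsF.flatMap_eq]; exact rfl) | exact rfl⟩
private noncomputable def _root_.Cfsg.Agent.LsF.f604dc0_7 : {f // @Cfsg.Agent.HN.P1408.il = f} := ⟨_, by first | (delta Cfsg.Agent.HN.P1408.il; (try delta Cfsg.Agent.HN.P1408.letG.match_1); (try rewrite [Cfsg.Agent.LsF.instDecEq_eq, Cfsg.Agent.LsF.dite_eq]); exact rfl) | exact rfl⟩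
private noncomputable def _root_.Cfsg.Agent.LsF.f604dc0_8 : {f // @Cfsg.Agent.HN.P1408.iw = f} := ⟨_, by first | (delta Cfsg.Agent.HN.P1408.iw; rewrite [Cfsg.Agent.LsF.f604dc0_7.2, Cfsg.Agent.LsF.map_eq, Cfsg.Agent.LsF.reverse_eq]; exact rfl) | exact rfl⟩
private noncomputable def _root_.Cfsg.Agent.LsF.f604dc0_9 : {f // @Cfsg.Agent.H5.HS.Tab.cjw = f} := ⟨_, by first | (delta Cfsg.Agent.H5.HS.Tab.cjw; rewrite [Cfsg.Agent.LsF.f604dc0_6.2, Cfsg.Agent.LsF.f604dc0_2.2, Cfsg.Agent.LsF.f604dc0_8.2, Cfsg.Agent.LsF.lappend_pat]; exact rfl) | exact rfl⟩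
theorem codes_eq : paths.map (fun l => t1 (cjw l) 0 * 128 + t1 (cjw l) 1) = codes := by (refine of_decide_eq_true ?_; (try (rewrite [Cfsg.Agent.LsF.f604dc0_1.2, Cfsg.Agent.LsF.f604dc0_9.2, Cfsg.Agent.LsF.nadd_pat, Cfsg.Agent.LsF.nmul_pat, Cfsg.Agent.LsF.instDecEq_eq, Cfsg.Agent.LsF.map_eq, Cfsg.Agent.LsF.dListEq_eq, Cfsg.Agent.LsF.decide_eq])); decide +kernel)

theorem codes_nodup : codes.Nodup := by decide +kernel

theorem z_chk : ∀ i < 100, t1 QTUnique.HS.zw i = im 2 11 i := by decide +kernel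

theorem y_chk : ∀ i < 100, lk (tb 2) i = im 4 11 i := by decide +kernel

end Cfsg.Agent.H5.HS.Tab
end

-- part: H5/Eight
section
/-!
# A normal subgroup of order 8 (helper5)

`Ctx T z V E`: every elementary abelian normal subgroup `U ∋ z` of the Sylow 2-subgroup `T` is in the four-group `V` or
equal to the group `E` of order 8; `C(E)` is a 2-group, `7 ∤ |C(z)|`.
`row_lf`: the members `L` of `ℒ_f(G, T)` satisfy `⟨L, T⟩ = N(E)`, `L/O₂(L) ≅ L₃(2)`, and are maximal in `ℒ(G, T)`.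
-/

set_option autoImplicit false
set_option linter.unusedSectionVars false

namespace Cfsg.Agent.H5.Eight

open Subgroup Cfsg Cfsg.Agent.QTUniq.Local

variable {G : Type*} [Group G]

/-- a perfect subgroup acts trivially on a subgroup of order at most 4 -/
theorem le_centralizer_of_card_le_four [Finite G] {L U : Subgroup G} (hp : ⁅L, L⁆ = L)
    (hLU : L ≤ normalizer (U : Set G)) (hU : Nat.card U ≤ 4) : L ≤ centralizer (U : Set G) := by
  let f : L →* MulAut U := (U.normalizerMonoidHom).comp (inclusion hLU)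
  have hs : Group.IsSolvable (MulAut U) := by
    have h1 : Nat.card (MulAut U) ≤ 24 := by
      have h2 : Nat.card (MulAut U) ≤ Nat.card (Equiv.Perm U) :=
        Nat.card_le_card_of_injective (fun e : MulAut U => (e : U ≃* U).toEquiv) (by
          intro a b h
          exact MulEquiv.ext fun x => congrArg (fun g : Equiv.Perm U => g x) h)
      have : Fintype U := Fintype.ofFinite _
      classical
      rw [Nat.card_eq_fintype_card (α := Equiv.Perm U), Fintype.card_perm, ← Nat.card_eq_fintype_card] at h2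
      exact h2.trans ((Nat.factorial_le hU).trans (by decide))
    exact Small.solvable_of_lt _ rfl (by omega)
  have hr : Group.IsSolvable f.range := inferInstance
  have hLs : ⁅f.range, f.range⁆ = f.range := by
    have h1 : ⁅(⊤ : Subgroup L), (⊤ : Subgroup L)⁆ = ⊤ := by
      apply map_injective L.subtype_injective
      rw [map_commutator, ← MonoidHom.range_eq_map, Subgroup.range_subtype, hp]
    rw [MonoidHom.range_eq_map, ← map_commutator, h1]
  have h0 : f.range = ⊥ := by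
    by_contra hne
    have : Nontrivial f.range := (nontrivial_iff_ne_bot _).2 hne
    have h2 := hr.commutator_lt_top_of_nontrivial f.range
    apply h2.ne
    apply map_injective f.range.subtype_injective
    rw [commutator_def, map_commutator, ← MonoidHom.range_eq_map, Subgroup.range_subtype, hLs]
  intro x hx
  rw [mem_centralizer_iff]
  intro y hy
  have h1 : f ⟨x, hx⟩ = 1 := by
    have : f ⟨x, hx⟩ ∈ f.range := ⟨_, rfl⟩
    rwa [h0, mem_bot] at this
  have h2 := congrArg (fun g : MulAut ↥U => ((g ⟨y, hy⟩ : ↥U) : G)) h1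
  have h3 : x * y * x⁻¹ = y := h2
  calc y * x = x * y * x⁻¹ * x := by rw [h3]
    _ = x * y := by group

/-- the hypotheses -/
structure Ctx (T : Subgroup G) (z : G) (V E : Subgroup G) : Prop where
  zz : z * z = 1
  comm : ∀ x ∈ T, x * z = z * x
  cen : ∀ a ∈ T, (∀ x ∈ T, x * a = a * x) → a = 1 ∨ a = z
  V4 : Nat.card V ≤ 4
  E8 : Nat.card E = 8
  Esq : ∀ a ∈ E, a * a = 1
  cls : ∀ U ≤ T, T ≤ normalizer (U : Set G) → (∀ a ∈ U, ∀ b ∈ U, a * b = b * a) → (∀ a ∈ U, a * a = 1) → z ∈ U →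
    U ≤ V ∨ U = E
  cE : IsPGroup 2 (centralizer (E : Set G))
  c7 : ¬ 7 ∣ Nat.card (centralizer ({z} : Set G))

section

variable [Finite G] {T : Sylow 2 G} {z : G} {V E : Subgroup G} (c : Ctx (T : Subgroup G) z V E)
include c

/-- `z ∈ R` for every nontrivial normal subgroup `R ≤ T` of `T` -/
theorem mem_of_normal {R : Subgroup G} (hR : R ≤ (T : Subgroup G)) (hn : (T : Subgroup G) ≤ normalizer (R : Set G))
    (hne : R ≠ ⊥) : z ∈ R := by
  have hn' : (R.subgroupOf (T : Subgroup G)).Normal := (normal_subgroupOf_iff_le_normalizer hR).2 hn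
  have : Fact (Nat.Prime 2) := ⟨Nat.prime_two⟩
  have hnil : Group.IsNilpotent (T : Subgroup G) := T.isPGroup'.isNilpotent
  have hne' : R.subgroupOf (T : Subgroup G) ≠ ⊥ := by
    intro h
    apply hne
    rw [subgroupOf_eq_bot] at h
    exact h.eq_bot_of_le hR
  obtain ⟨⟨y, hyR, hyc⟩, hy1⟩ := (Subgroup.ne_bot_iff_exists_ne_one).1
    (Lib.NormalAbelian.normal_inf_center_ne_bot _ hne')
  have hy1' : (y : G) ≠ 1 := fun h => hy1 (Subtype.ext (Subtype.ext h))
  have h1 := c.cen y y.2 (by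
    intro x hx
    have h2 := mem_center_iff.1 hyc ⟨x, hx⟩
    exact congrArg Subtype.val h2)
  rw [← h1.resolve_left hy1']
  exact mem_subgroupOf.1 hyR

/-- `U = Ω₁(Z(O₂(H)))` is in `V` or equal to `E` -/
theorem cases_UU {H : Subgroup G} (hTH : (T : Subgroup G) ≤ H) (hH : pCore 2 ↥H ≠ ⊥) :
    z ∈ H4.Lf.UU H ∧ H ≤ normalizer (H4.Lf.UU H : Set G) ∧ (H4.Lf.UU H ≤ V ∨ H4.Lf.UU H = E) := by
  set R : Subgroup G := (pCore 2 ↥H).map H.subtype with hR
  have hRT : R ≤ (T : Subgroup G) := map_pCore_le_sylow T hTH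
  have hHR : H ≤ normalizer (R : Set G) := le_normalizer_map_pCore 2 H
  have hRne : R ≠ ⊥ := map_pCore_ne_bot hH
  have hN : H ≤ normalizer (H4.Lf.UU H : Set G) := hHR.trans (H4.Lf.normalizer_le_omega R)
  have hz : z ∈ H4.Lf.UU H := by
    rw [H4.Lf.mem_omega]
    exact ⟨mem_of_normal c hRT (hTH.trans hHR) hRne, fun r hr => c.comm r (hRT hr), c.zz⟩
  refine ⟨hz, hN, c.cls _ ?_ (hTH.trans hN) ?_ ?_ hz⟩
  · intro x hx
    exact hRT (H4.Lf.mem_omega.1 hx).1
  · intro a ha b hb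
    exact (H4.Lf.mem_omega.1 hb).2.1 a (H4.Lf.mem_omega.1 ha).1
  · intro a ha
    exact (H4.Lf.mem_omega.1 ha).2.2

omit [Finite G] c in
/-- the action on `E` -/
noncomputable def actE (E : Subgroup G) : normalizer (E : Set G) →* MulAut E := E.normalizerMonoidHom

omit [Finite G] c in
theorem actE_ker (E : Subgroup G) :
    (actE E).ker = (centralizer (E : Set G)).subgroupOf (normalizer (E : Set G)) := by
  ext ⟨x, hx⟩
  rw [MonoidHom.mem_ker, mem_subgroupOf, mem_centralizer_iff]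
  constructor
  · intro h1 y hy
    have h2 := congrArg (fun g : MulAut ↥E => ((g ⟨y, hy⟩ : ↥E) : G)) h1
    have h3 : x * y * x⁻¹ = y := h2
    calc y * x = x * y * x⁻¹ * x := by rw [h3]
      _ = x * y := by group
  · intro h1
    ext ⟨y, hy⟩
    show x * y * x⁻¹ = y
    rw [← h1 y hy]; group

theorem card_mulAut : Nat.card (MulAut E) = 168 := by
  have hsq : ∀ x : E, x * x = 1 := fun x => Subtype.ext (c.Esq x x.2)
  exact SmallSimple.S1000.FrameAut.card_mulAut hsq c.E8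

theorem ker_two : IsPGroup 2 (actE E).ker := by
  rw [actE_ker]
  exact c.cE.comap_subtype

/-- `|N(E)|` divides `|T| 21` -/
theorem card_norm_dvd : Nat.card (normalizer (E : Set G)) ∣ Nat.card (T : Subgroup G) * 21 := by
  have : Fact (Nat.Prime 2) := ⟨Nat.prime_two⟩
  have h1 := (actE E).ker.card_mul_index
  rw [Subgroup.index_ker] at h1
  have h2 : Nat.card (actE E).range ∣ 168 := by
    rw [← card_mulAut c]
    exact card_subgroup_dvd_card _
  obtain ⟨n, hn⟩ := IsPGroup.iff_card.1 (ker_two c)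
  have h3 : Nat.card (normalizer (E : Set G)) ∣ 2 ^ (n + 3) * 21 := by
    rw [← h1, hn, pow_add, mul_assoc]
    exact mul_dvd_mul_left _ h2
  -- the 2-part
  set N := Nat.card (normalizer (E : Set G)) with hNdef
  have hN0 : N ≠ 0 := Nat.card_pos.ne'
  obtain ⟨k, m, hm, hkm⟩ := Nat.exists_eq_two_pow_mul_odd hN0
  rw [hkm] at h3 ⊢
  refine Nat.mul_dvd_mul ?_ ?_
  · have h4 : 2 ^ k ∣ Nat.card G := (Dvd.intro _ hkm.symm).trans (card_subgroup_dvd_card _)
    have h5 := T.card_eq_multiplicity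
    rw [h5]
    exact pow_dvd_pow 2 ((Nat.prime_two.pow_dvd_iff_le_factorization Nat.card_pos.ne').1 h4)
  · have h6 : m ∣ 2 ^ (n + 3) * 21 := (Dvd.intro_left _ rfl).trans h3
    exact (Nat.Coprime.dvd_mul_left (Nat.Coprime.pow_right _ (Nat.coprime_two_right.2 hm))).1 h6

/-- **`ℒ(G, T)` in `N(E)`** -/
theorem row_nor {L : Subgroup G} (hL : L ∈ calL (T : Subgroup G)) (hM : L ⊔ T ≤ normalizer (E : Set G)) :
    L ⊔ T = normalizer (E : Set G) ∧ L ⊔ T ≤ normalizer (L : Set G) ∧ Nat.card (L ⧸ pCore 2 L) = 168 ∧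
      Nonempty ((L ⧸ pCore 2 L) ≃* Matrix.ProjectiveSpecialLinearGroup (Fin 3) (ZMod 2)) ∧
      L.subgroupOf (L ⊔ T) = perfectCore ↥(L ⊔ T) := by
  have : Fact (Nat.Prime 2) := ⟨Nat.prime_two⟩
  obtain ⟨h3, h4, h5, h6⟩ := Small.row168 T hL (le_sup_right.trans hM) (le_sup_left.trans hM) (actE E) (ker_two c)
    (by rw [← card_mulAut c]; exact card_subgroup_dvd_card _)
  refine ⟨?_, h3, h4, h5, h6⟩
  apply eq_of_le_of_card_ge hM
  have h7 : 168 ∣ Nat.card ↥(L ⊔ (T : Subgroup G)) := by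
    have h8 := Top.card_eq_mul (X := L)
    rw [h4] at h8
    exact (Dvd.intro _ h8.symm).trans (card_dvd_of_le le_sup_left)
  have h9 : Nat.card (T : Subgroup G) ∣ Nat.card ↥(L ⊔ (T : Subgroup G)) := card_dvd_of_le le_sup_right
  have h10 : Nat.card (T : Subgroup G) * 21 ∣ Nat.card ↥(L ⊔ (T : Subgroup G)) := by
    refine Nat.Coprime.mul_dvd_of_dvd_of_dvd ?_ h9 ((by norm_num : 21 ∣ 168).trans h7)
    rw [T.card_eq_multiplicity]
    exact Nat.Coprime.pow_left _ (by norm_num)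
  exact Nat.le_of_dvd Nat.card_pos ((card_norm_dvd c).trans h10)

/-- **`ℒ_f(G, T)`** -/
theorem row_lf (hE : IsOfEvenCharacteristic G) {L : Subgroup G} (hL : L ∈ calLf (T : Subgroup G)) :
    L ⊔ T = normalizer (E : Set G) ∧ L ⊔ T ≤ normalizer (L : Set G) ∧ Nat.card (L ⧸ pCore 2 L) = 168 ∧
      Nonempty ((L ⧸ pCore 2 L) ≃* Matrix.ProjectiveSpecialLinearGroup (Fin 3) (ZMod 2)) ∧
      L ∈ calLfMax (T : Subgroup G) := by
  have hTH : (T : Subgroup G) ≤ L ⊔ T := le_sup_right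
  obtain ⟨hz, hN, hU⟩ := cases_UU c hTH (H4.Lf.oTwo_ne hL.1)
  have hnc := H4.Lf.not_le_centralizer le_sup_left (H4.Lf.subnormal hL.1) (H4.Lf.odd_gen hL)
    (charTwo_of_over hE T hTH (H4.Lf.oTwo_ne hL.1)) hL.2.2
  have hUE : H4.Lf.UU (L ⊔ (T : Subgroup G)) = E := by
    refine hU.resolve_left fun h => hnc ?_
    exact le_centralizer_of_card_le_four (H4.Lf.perfect hL.1) (le_sup_left.trans hN)
      ((Nat.card_le_card_of_injective _ (inclusion_injective h)).trans c.V4)
  obtain ⟨h1, h2, h3, h4, h5⟩ := row_nor c hL.1 (hUE ▸ hN)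
  refine ⟨h1, h2, h3, h4, ⟨hL.1, fun M hMc hLM => ?_⟩, hL.2⟩
  have hsup : L ⊔ (T : Subgroup G) ≤ M ⊔ T := sup_le_sup_right hLM T
  have hTM : (T : Subgroup G) ≤ M ⊔ T := le_sup_right
  obtain ⟨hzM, hNM, hUM⟩ := cases_UU c hTM (H4.Lf.oTwo_ne hMc)
  have hUME : H4.Lf.UU (M ⊔ (T : Subgroup G)) = E := by
    refine hUM.resolve_left fun h => ?_
    have h6 : L ≤ centralizer (H4.Lf.UU (M ⊔ (T : Subgroup G)) : Set G) :=
      le_centralizer_of_card_le_four (H4.Lf.perfect hL.1) ((le_sup_left.trans hsup).trans hNM)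
        ((Nat.card_le_card_of_injective _ (inclusion_injective h)).trans c.V4)
    have h7 : L ⊔ (T : Subgroup G) ≤ centralizer ({z} : Set G) := by
      refine sup_le ?_ ?_
      · intro x hx
        exact mem_centralizer_singleton_iff.2 ((mem_centralizer_iff.1 (h6 hx)) z hzM).symm
      · intro x hx
        exact mem_centralizer_singleton_iff.2 (c.comm x hx)
    apply c.c7
    have h8 := Top.card_eq_mul (X := L)
    rw [h3] at h8
    have h9 : 168 ∣ Nat.card ↥(L ⊔ (T : Subgroup G)) := (Dvd.intro _ h8.symm).trans (card_dvd_of_le le_sup_left)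
    exact ((by norm_num : 7 ∣ 168).trans h9).trans (card_dvd_of_le h7)
  obtain ⟨k1, -, -, -, k5⟩ := row_nor c hMc (hUME ▸ hNM)
  have e1 : (perfectCore ↥(L ⊔ (T : Subgroup G))).map (L ⊔ (T : Subgroup G)).subtype = L := by
    rw [← h5, subgroupOf_map_subtype, inf_eq_left.2 le_sup_left]
  have e2 : (perfectCore ↥(M ⊔ (T : Subgroup G))).map (M ⊔ (T : Subgroup G)).subtype = M := by
    rw [← k5, subgroupOf_map_subtype, inf_eq_left.2 le_sup_left]
  rw [← e1, ← e2, k1, h1]

end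

/-! ### conjugates -/

theorem Ctx.conj {T : Subgroup G} {z : G} {V E : Subgroup G} (c : Ctx T z V E) (g : G) :
    Ctx (T.map (MulAut.conj g).toMonoidHom) (g * z * g⁻¹) (V.map (MulAut.conj g).toMonoidHom)
      (E.map (MulAut.conj g).toMonoidHom) := by
  have mem : ∀ (A : Subgroup G) (x : G), x ∈ A.map (MulAut.conj g).toMonoidHom ↔ g⁻¹ * x * g ∈ A := by
    intro A x
    constructor
    · rintro ⟨a, ha, rfl⟩
      have e : g⁻¹ * (MulAut.conj g).toMonoidHom a * g = a := by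
        show g⁻¹ * (g * a * g⁻¹) * g = a
        group
      rw [e]; exact ha
    · intro h
      exact ⟨_, h, by show g * (g⁻¹ * x * g) * g⁻¹ = x; group⟩
  have cardeq : ∀ A : Subgroup G, Nat.card (A.map (MulAut.conj g).toMonoidHom) = Nat.card A := fun A =>
    (Nat.card_congr (A.equivMapOfInjective _ (MulAut.conj g).injective).toEquiv).symm
  have hcen : ∀ A : Subgroup G, centralizer ((A.map (MulAut.conj g).toMonoidHom : Subgroup G) : Set G) =
      (centralizer (A : Set G)).map (MulAut.conj g).toMonoidHom := by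
    intro A
    ext x
    rw [mem, mem_centralizer_iff, mem_centralizer_iff]
    constructor
    · intro h a ha
      have h1 := h (g * a * g⁻¹) ⟨a, ha, rfl⟩
      calc a * (g⁻¹ * x * g) = g⁻¹ * ((g * a * g⁻¹) * x) * g := by group
        _ = g⁻¹ * (x * (g * a * g⁻¹)) * g := by rw [h1]
        _ = _ := by group
    · rintro h _ ⟨a, ha, rfl⟩
      show g * a * g⁻¹ * x = x * (g * a * g⁻¹)
      calc g * a * g⁻¹ * x = g * (a * (g⁻¹ * x * g)) * g⁻¹ := by group
        _ = g * ((g⁻¹ * x * g) * a) * g⁻¹ := by rw [h a ha]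
        _ = _ := by group
  refine
    { zz := ?_
      comm := ?_
      cen := ?_
      V4 := by rw [cardeq]; exact c.V4
      E8 := by rw [cardeq]; exact c.E8
      Esq := ?_
      cls := ?_
      cE := by rw [hcen]; exact c.cE.map _
      c7 := ?_ }
  · calc g * z * g⁻¹ * (g * z * g⁻¹) = g * (z * z) * g⁻¹ := by group
      _ = 1 := by rw [c.zz]; group
  · rintro _ ⟨x, hx, rfl⟩
    show g * x * g⁻¹ * (g * z * g⁻¹) = g * z * g⁻¹ * (g * x * g⁻¹)
    calc g * x * g⁻¹ * (g * z * g⁻¹) = g * (x * z) * g⁻¹ := by group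
      _ = g * (z * x) * g⁻¹ := by rw [c.comm x hx]
      _ = _ := by group
  · rintro _ ⟨a, ha, rfl⟩ h
    have h1 := c.cen a ha (by
      intro x hx
      have h2 : g * x * g⁻¹ * (g * a * g⁻¹) = g * a * g⁻¹ * (g * x * g⁻¹) := h _ ⟨x, hx, rfl⟩
      calc x * a = g⁻¹ * (g * x * g⁻¹ * (g * a * g⁻¹)) * g := by group
        _ = g⁻¹ * (g * a * g⁻¹ * (g * x * g⁻¹)) * g := by rw [h2]
        _ = _ := by group)
    rcases h1 with rfl | rfl
    · left
      show g * 1 * g⁻¹ = 1
      group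
    · right; rfl
  · rintro _ ⟨a, ha, rfl⟩
    show g * a * g⁻¹ * (g * a * g⁻¹) = 1
    calc g * a * g⁻¹ * (g * a * g⁻¹) = g * (a * a) * g⁻¹ := by group
      _ = 1 := by rw [c.Esq a ha]; group
  · intro U hUT hTU hab hsq hz
    -- pull back
    set U' : Subgroup G := U.map (MulAut.conj g⁻¹).toMonoidHom with hU'
    have hm : ∀ x, x ∈ U' ↔ g * x * g⁻¹ ∈ U := by
      intro x
      rw [hU']
      constructor
      · rintro ⟨a, ha, rfl⟩
        have e : g * (MulAut.conj g⁻¹).toMonoidHom a * g⁻¹ = a := by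
          show g * (g⁻¹ * a * g⁻¹⁻¹) * g⁻¹ = a
          group
        rw [e]; exact ha
      · intro h
        exact ⟨_, h, by show g⁻¹ * (g * x * g⁻¹) * g⁻¹⁻¹ = x; group⟩
    have h1 := c.cls U' (by
        intro x hx
        have := hUT ((hm x).1 hx)
        rw [mem] at this
        have e : g⁻¹ * (g * x * g⁻¹) * g = x := by group
        rwa [e] at this) (by
        intro t ht
        rw [mem_normalizer_iff]
        intro x
        have ht' : g * t * g⁻¹ ∈ T.map (MulAut.conj g).toMonoidHom := ⟨t, ht, rfl⟩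
        have h2 := (mem_normalizer_iff.1 (hTU ht')) (g * x * g⁻¹)
        rw [hm, hm, h2]
        have e : g * t * g⁻¹ * (g * x * g⁻¹) * (g * t * g⁻¹)⁻¹ = g * (t * x * t⁻¹) * g⁻¹ := by group
        rw [e]) (by
        intro a ha b hb
        have h2 := hab _ ((hm a).1 ha) _ ((hm b).1 hb)
        calc a * b = g⁻¹ * (g * a * g⁻¹ * (g * b * g⁻¹)) * g := by group
          _ = g⁻¹ * (g * b * g⁻¹ * (g * a * g⁻¹)) * g := by rw [h2]
          _ = _ := by group) (by
        intro a ha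
        have h2 := hsq _ ((hm a).1 ha)
        calc a * a = g⁻¹ * (g * a * g⁻¹ * (g * a * g⁻¹)) * g := by group
          _ = 1 := by rw [h2]; group) ((hm z).2 hz)
    rcases h1 with h1 | h1
    · left
      intro x hx
      rw [mem]
      apply h1
      rw [hm]
      have e : g * (g⁻¹ * x * g) * g⁻¹ = x := by group
      rwa [e]
    · right
      ext x
      rw [mem, ← h1, hm]
      have e : g * (g⁻¹ * x * g) * g⁻¹ = x := by group
      rw [e]
  · intro h7
    apply c.c7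
    have e : centralizer ({g * z * g⁻¹} : Set G) = (centralizer ({z} : Set G)).map (MulAut.conj g).toMonoidHom := by
      ext x
      rw [mem, mem_centralizer_singleton_iff, mem_centralizer_singleton_iff]
      constructor
      · intro h
        calc g⁻¹ * x * g * z = g⁻¹ * (x * (g * z * g⁻¹)) * g := by group
          _ = g⁻¹ * ((g * z * g⁻¹) * x) * g := by rw [h]
          _ = _ := by group
      · intro h
        calc x * (g * z * g⁻¹) = g * ((g⁻¹ * x * g) * z) * g⁻¹ := by group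
          _ = g * (z * (g⁻¹ * x * g)) * g⁻¹ := by rw [h]
          _ = _ := by group
    rwa [e, cardeq] at h7

end Cfsg.Agent.H5.Eight
end

-- part: H5/HS/Row
section
/-!
# `ℒ_f(G, T)` for the Higman–Sims group (helper5)

The elementary abelian normal subgroups `U ∋ z` of a Sylow 2-subgroup `T` of `HS`: `U ≤ V`, `|V| = 4`, or `U = E`, `|E| = 8`;
`C(E)` is a 2-group.
-/

set_option autoImplicit false

namespace Cfsg.Agent.H5.HS.Row

open Cfsg Subgroup Cfsg.Agent.HN Cfsg.Agent.HN.Pres Cfsg.Agent.HN.HS100 Cfsg.Agent.HN.H0Basic Cfsg.Agent.HN.P1408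
open Cfsg.Agent.HN.Classes Cfsg.Agent.KFacts.HS Cfsg.Agent.KFacts.HS.Cent Cfsg.Agent.QTNorm.HSRow Cfsg.Agent.H5.HS.Tab
open Cfsg.Agent.SporadicA.PermTab (lk)
open Equiv (Perm)

variable {L : Type*} [Group L] (D : KFacts.HS.Mod L)

/-- `x` is the element of mask `m` -/
def Msk (x : L) (m : ℕ) : Prop := D.φL x = φ (nf m 11)

variable {D}

theorem Msk.eq {x y : L} {m : ℕ} (hx : Msk D x m) (hy : Msk D y m) : x = y := D.φL_inj (hx.trans hy.symm)

theorem φ_mul_eq {m m' k : ℕ} (h : ∀ i < 100, im m 11 (im m' 11 i) = im k 11 i) :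
    φ (nf m 11) * φ (nf m' 11) = φ (nf k 11) :=
  Equiv.ext fun i => Fin.ext (by rw [Equiv.Perm.mul_apply, φ_nf m le_rfl, φ_nf m' le_rfl, φ_nf k le_rfl]; exact h i i.2)

theorem Msk.mul {x y : L} {m m' : ℕ} (hm : m ∈ EL) (hm' : m' ∈ EL) (hx : Msk D x m) (hy : Msk D y m') :
    Msk D (x * y) (m ^^^ m') := by
  unfold Msk at *
  rw [map_mul, hx, hy]
  exact φ_mul_eq (EL_mul m hm m' hm').2

theorem φ_nf_zero : φ (nf 0 11) = 1 := by
  have h : ∀ n, nf 0 n = 1 := by
    intro n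
    induction n with
    | zero => rfl
    | succ n ih => rw [nf, ih, Nat.zero_testBit, cond_false, mul_one]
  rw [h, map_one]

theorem Msk.one : Msk D (1 : L) 0 := by
  unfold Msk
  rw [map_one, φ_nf_zero]

theorem Msk.sq {x : L} {m : ℕ} (hm : m ∈ EL) (hx : Msk D x m) : x * x = 1 := by
  have h := hx.mul hm hm hx
  rw [Nat.xor_self] at h
  exact h.eq Msk.one

/-- masks may be taken even -/
theorem φ_nf_half (a : ℕ) {n : ℕ} (hn : n ≤ 10) : φ (nf (2 * a + 1) (n + 1)) = φ (nf (2 * a) (n + 1)) := by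
  have h0 : φ (Syl.s 0) = 1 := Equiv.ext fun i => Fin.ext (by rw [φ_s (by norm_num)]; exact tb_zero i i.2)
  induction n with
  | zero =>
    rw [nf, nf, nf, nf, map_mul, map_mul]
    congr 1
    have e1 : (2 * a + 1).testBit 0 = true := by simp [Nat.testBit_zero]
    have e2 : (2 * a).testBit 0 = false := by simp [Nat.testBit_zero]
    rw [e1, e2, cond_true, cond_false, h0, map_one]
  | succ n ih =>
    have e : (2 * a + 1).testBit (n + 1) = (2 * a).testBit (n + 1) := by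
      rw [Nat.testBit_succ, Nat.testBit_succ]
      congr 1
      omega
    show φ (nf (2 * a + 1) (n + 1) * (bif (2 * a + 1).testBit (n + 1) then Syl.s (n + 1) else 1)) =
      φ (nf (2 * a) (n + 1) * (bif (2 * a).testBit (n + 1) then Syl.s (n + 1) else 1))
    rw [map_mul, map_mul, ih (by omega), e]

theorem pm_half (m : ℕ) : pm (2 * (m / 2)) = pm m := by
  have h : ∀ k, (2 * (m / 2)).testBit (k + 1) = m.testBit (k + 1) := by
    intro k
    rw [Nat.testBit_succ, Nat.testBit_succ]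
    congr 1
    omega
  unfold pm
  rw [h 7, h 8, h 9]

theorem exists_msk_of_mem {x : L} (hx : x ∈ syT D) : ∃ m < 1024, pm (2 * m) = false ∧ Msk D x (2 * m) := by
  obtain ⟨k, rfl⟩ := D.surj x
  have hk := (mem_syT D).1 hx
  obtain ⟨m, hm, h1⟩ := exists_nf le_rfl (g := (k : H0)) hk
  have hK : pm m = false := (mem_K m).1 (h1 ▸ k.2)
  refine ⟨m / 2, by omega, by rw [pm_half, hK], ?_⟩
  show D.φL (D.π k) = _
  rw [D.φL_π, h1]
  rcases Nat.mod_two_eq_zero_or_one m with h | h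
  · have e : 2 * (m / 2) = m := by omega
    rw [e]
  · have e : m = 2 * (m / 2) + 1 := by omega
    conv_lhs => rw [e]
    exact φ_nf_half _ le_rfl

/-! ### commuting -/

theorem nc_false {g : Perm (Fin 100)} {t t' m p : ℕ} (hp : p < 100) (h1 : ∀ i : Fin 100, ((g i : Fin 100) : ℕ) = lk t i)
    (h2 : ∀ i : Fin 100, ((g⁻¹ i : Fin 100) : ℕ) = lk t' i)
    (hc : φ (nf m 11) * (g * φ (nf m 11) * g⁻¹) = g * φ (nf m 11) * g⁻¹ * φ (nf m 11)) : nc t t' m p = false := by
  have h := congrArg (fun f : Perm (Fin 100) => ((f ⟨p, hp⟩ : Fin 100) : ℕ)) hc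
  simp only [Equiv.Perm.mul_apply, φ_nf m le_rfl, h1, h2] at h
  unfold nc
  rw [h, Nat.beq_refl]
  rfl

theorem ncm_false {g : Perm (Fin 100)} {t m p : ℕ} (hp : p < 100) (h1 : ∀ i : Fin 100, ((g i : Fin 100) : ℕ) = lk t i)
    (hc : φ (nf m 11) * g = g * φ (nf m 11)) : ncm t m p = false := by
  have h := congrArg (fun f : Perm (Fin 100) => ((f ⟨p, hp⟩ : Fin 100) : ℕ)) hc
  simp only [Equiv.Perm.mul_apply, φ_nf m le_rfl, h1] at h
  unfold ncm
  rw [h, Nat.beq_refl]
  rfl

theorem q2_false {m p : ℕ} (hp : p < 100) (h : φ (nf m 11) * φ (nf m 11) = 1) : q2 m p = false := by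
  have h := congrArg (fun f : Perm (Fin 100) => ((f ⟨p, hp⟩ : Fin 100) : ℕ)) h
  simp only [Equiv.Perm.mul_apply, φ_nf m le_rfl, Equiv.Perm.one_apply] at h
  unfold q2
  rw [h, Nat.beq_refl]
  rfl

theorem inv_val {g : Perm (Fin 100)} {t t' : ℕ} (h1 : ∀ i : Fin 100, ((g i : Fin 100) : ℕ) = lk t i)
    (h2 : ∀ i < 100, lk t (lk t' i) = i ∧ lk t' i < 100) (i : Fin 100) : ((g⁻¹ i : Fin 100) : ℕ) = lk t' i := by
  obtain ⟨h3, h4⟩ := h2 i i.2
  have h5 : g ⟨lk t' i, h4⟩ = i := Fin.ext (by rw [h1]; exact h3)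
  have h6 : g⁻¹ i = ⟨lk t' i, h4⟩ := by
    conv_lhs => rw [← h5]
    rw [← Equiv.Perm.mul_apply, inv_mul_cancel, Equiv.Perm.one_apply]
  rw [h6]

/-- the element `s 4` -/
theorem exists_t4 (D : KFacts.HS.Mod L) : ∃ t ∈ syT D, (∀ i : Fin 100, ((D.φL t i : Fin 100) : ℕ) = lk (tb 4) i) := by
  have hK : Syl.s 4 ∈ K := mem_K_of_par (par_s 4 (by norm_num)).1 (par_s 4 (by norm_num)).2
  refine ⟨D.π ⟨Syl.s 4, hK⟩, (mem_syT D).2 (Syl.s_mem_S (by norm_num)), fun i => ?_⟩
  rw [D.φL_π]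
  exact φ_s (by norm_num) i

/-- the element `s 7` -/
theorem exists_t7 (D : KFacts.HS.Mod L) : ∃ t ∈ syT D, (∀ i : Fin 100, ((D.φL t i : Fin 100) : ℕ) = lk (tb 7) i) := by
  have hK : Syl.s 7 ∈ K := mem_K_of_par (par_s 7 (by norm_num)).1 (par_s 7 (by norm_num)).2
  refine ⟨D.π ⟨Syl.s 7, hK⟩, (mem_syT D).2 (Syl.s_mem_S (by norm_num)), fun i => ?_⟩
  rw [D.φL_π]
  exact φ_s (by norm_num) i

/-- the element `s 9 s 10` -/
theorem exists_t9 (D : KFacts.HS.Mod L) : ∃ t ∈ syT D, (∀ i : Fin 100, ((D.φL t i : Fin 100) : ℕ) = lk t9 i) := by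
  have hK : Syl.s 9 * Syl.s 10 ∈ K := by
    rw [mem_K_iff, map_mul, sgn_s (by norm_num), sgn_s (by norm_num)]
    rfl
  refine ⟨D.π ⟨Syl.s 9 * Syl.s 10, hK⟩, (mem_syT D).2 (mul_mem (Syl.s_mem_S (by norm_num)) (Syl.s_mem_S (by norm_num))),
    fun i => ?_⟩
  rw [D.φL_π]
  show ((φ (Syl.s 9 * Syl.s 10) i : Fin 100) : ℕ) = _
  rw [map_mul, Equiv.Perm.mul_apply, φ_s (by norm_num), φ_s (by norm_num)]
  exact (tab9 i i.2).2.1

/-- **the elements commuting with their conjugates** -/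
theorem mem_EL {x : L} (hx : x ∈ syT D) (hsq : x * x = 1)
    (hc : ∀ t ∈ syT D, x * (t * x * t⁻¹) = t * x * t⁻¹ * x) : ∃ m ∈ EL, Msk D x m := by
  obtain ⟨m, hm, hp, h⟩ := exists_msk_of_mem hx
  have h1 := chk_all m hm
  have hsq' : φ (nf (2 * m) 11) * φ (nf (2 * m) 11) = 1 := by
    have := congrArg D.φL hsq
    rwa [map_mul, map_one, h] at this
  have hco : ∀ t ∈ syT D, φ (nf (2 * m) 11) * (D.φL t * φ (nf (2 * m) 11) * (D.φL t)⁻¹) =
      D.φL t * φ (nf (2 * m) 11) * (D.φL t)⁻¹ * φ (nf (2 * m) 11) := by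
    intro t ht
    have h0 := congrArg D.φL (hc t ht)
    have e1 : D.φL (t * x * t⁻¹) = D.φL t * φ (nf (2 * m) 11) * (D.φL t)⁻¹ := by
      rw [map_mul, map_mul, map_inv, h]
    rwa [map_mul, map_mul _ (t * x * t⁻¹) x, e1, h] at h0
  obtain ⟨t4, ht4, h4⟩ := exists_t4 D
  obtain ⟨t9', ht9, h9⟩ := exists_t9 D
  have e1 := q2_false (p := 0) (by norm_num) hsq'
  have e2 := q2_false (p := 1) (by norm_num) hsq'
  have e3 := nc_false (p := 0) (by norm_num) h4 (inv_val h4 (fun i hi => ⟨tab4 i hi, tab4' i hi⟩)) (hco t4 ht4)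
  have e4 := nc_false (p := 0) (by norm_num) h9 (inv_val h9 (fun i hi => ⟨(tab9 i hi).1, (tab9 i hi).2.2⟩)) (hco t9' ht9)
  unfold chk at h1
  rw [hp, e1, e2, e3, e4] at h1
  simp only [Bool.false_or, Bool.or_false] at h1
  exact ⟨2 * m, by simpa using h1, h⟩

/-- **the centre of the Sylow 2-subgroup** -/
theorem center_eq {x : L} (hx : x ∈ syT D) (hc : ∀ t ∈ syT D, t * x = x * t) : Msk D x 0 ∨ Msk D x 2 := by
  obtain ⟨m, hm, hp, h⟩ := exists_msk_of_mem hx
  have h1 := chk_center m hm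
  have hco : ∀ t ∈ syT D, φ (nf (2 * m) 11) * D.φL t = D.φL t * φ (nf (2 * m) 11) := by
    intro t ht
    have := congrArg D.φL (hc t ht)
    rw [map_mul, map_mul, h] at this
    exact this.symm
  obtain ⟨t7, ht7, h7⟩ := exists_t7 D
  obtain ⟨t9', ht9, h9⟩ := exists_t9 D
  have e1 := ncm_false (p := 0) (by norm_num) h7 (hco t7 ht7)
  have e2 := ncm_false (p := 0) (by norm_num) h9 (hco t9' ht9)
  rw [hp, e1, e2] at h1
  simp only [Bool.false_or, Bool.or_false, List.contains_eq_mem, List.mem_cons, List.not_mem_nil, or_false,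
    decide_eq_true_eq] at h1
  rcases h1 with rfl | rfl
  · exact Or.inl h
  · exact Or.inr h

/-! ### the subgroups `V` and `E` -/

/-- the subgroup of the elements with masks in a list -/
def MS (D : KFacts.HS.Mod L) (l : List ℕ) (h0 : 0 ∈ l) (h1 : ∀ m ∈ l, m ∈ EL) (h2 : ∀ m ∈ l, ∀ m' ∈ l, m ^^^ m' ∈ l) :
    Subgroup L where
  carrier := {x | ∃ m ∈ l, Msk D x m}
  one_mem' := ⟨0, h0, Msk.one⟩
  mul_mem' := by
    rintro x y ⟨m, hm, hx⟩ ⟨m', hm', hy⟩
    exact ⟨_, h2 m hm m' hm', hx.mul (h1 m hm) (h1 m' hm') hy⟩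
  inv_mem' := by
    rintro x ⟨m, hm, hx⟩
    refine ⟨m, hm, ?_⟩
    rwa [inv_eq_of_mul_eq_one_right (hx.sq (h1 m hm))]

/-- `E` -/
def E (D : KFacts.HS.Mod L) : Subgroup L := MS D EL (by decide) (fun m hm => hm) (by decide)

/-- `V` -/
def V (D : KFacts.HS.Mod L) : Subgroup L := MS D [0, 2, 4, 6] (by decide) (by decide) (by decide)

theorem mem_V {x : L} : x ∈ V D ↔ ∃ m ∈ [0, 2, 4, 6], Msk D x m := Iff.rfl

theorem msk_ne {x : L} {m m' : ℕ} (hm : m ∈ EL) (hm' : m' ∈ EL) (hx : Msk D x m) (hx' : Msk D x m') : m = m' := by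
  by_contra hne
  have h : φ (nf m 11) = φ (nf m' 11) := hx.symm.trans hx'
  have h1 : ∀ i : Fin 100, im m 11 i = im m' 11 i := by
    intro i
    rw [← φ_nf m le_rfl, ← φ_nf m' le_rfl, h]
  rcases EL_ne m hm m' hm' hne with h2 | h2 | h2 | h2
  · exact h2 (h1 0)
  · exact h2 (h1 1)
  · exact h2 (h1 2)
  · exact h2 (h1 3)

theorem card_MS {l : List ℕ} (h0 : 0 ∈ l) (h1 : ∀ m ∈ l, m ∈ EL) (h2 : ∀ m ∈ l, ∀ m' ∈ l, m ^^^ m' ∈ l) :
    Nat.card (MS D l h0 h1 h2) = l.toFinset.card := by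
  have hK : ∀ m : {m // m ∈ l.toFinset}, nf m 11 ∈ K := fun m => (mem_K m).2 (EL_par m (h1 m (List.mem_toFinset.1 m.2)))
  let f : {m // m ∈ l.toFinset} → MS D l h0 h1 h2 := fun m =>
    ⟨D.π ⟨nf m 11, hK m⟩, m, List.mem_toFinset.1 m.2, D.φL_π _⟩
  have hf : Function.Bijective f := by
    constructor
    · rintro ⟨m, hm⟩ ⟨m', hm'⟩ h
      have h3 : D.π ⟨nf m 11, hK ⟨m, hm⟩⟩ = D.π ⟨nf m' 11, hK ⟨m', hm'⟩⟩ := congrArg Subtype.val h
      have e1 : Msk D (D.π ⟨nf m 11, hK ⟨m, hm⟩⟩) m := D.φL_π _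
      have e2 : Msk D (D.π ⟨nf m' 11, hK ⟨m', hm'⟩⟩) m' := D.φL_π _
      rw [← h3] at e2
      exact Subtype.ext (msk_ne (h1 m (List.mem_toFinset.1 hm)) (h1 m' (List.mem_toFinset.1 hm')) e1 e2)
    · rintro ⟨x, m, hm, hx⟩
      refine ⟨⟨m, List.mem_toFinset.2 hm⟩, Subtype.ext ?_⟩
      have e1 : Msk D (D.π ⟨nf m 11, hK ⟨m, List.mem_toFinset.2 hm⟩⟩) m := D.φL_π _
      exact e1.eq hx
  rw [← Nat.card_congr (Equiv.ofBijective f hf), Nat.card_eq_fintype_card, Fintype.card_coe]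

theorem card_E : Nat.card (E D) = 8 := by
  rw [E, card_MS]; decide

theorem card_V : Nat.card (V D) = 4 := by
  rw [V, card_MS]; decide

theorem msk_z : Msk D D.z 2 := by
  show D.φL D.z = _
  rw [QTUnique.HS.φL_z]
  refine Equiv.ext fun i => Fin.ext ?_
  rw [φ_nf 2 le_rfl, φ_hw_apply]
  exact z_chk i i.2

/-- **the elementary abelian normal subgroups of the Sylow 2-subgroup** -/
theorem cls (U : Subgroup L) (hUT : U ≤ (syT D : Subgroup L)) (hTU : (syT D : Subgroup L) ≤ normalizer (U : Set L))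
    (hab : ∀ a ∈ U, ∀ b ∈ U, a * b = b * a) (hsq : ∀ a ∈ U, a * a = 1) (hz : D.z ∈ U) : U ≤ V D ∨ U = E D := by
  have hUE : ∀ x ∈ U, ∃ m ∈ EL, Msk D x m := fun x hx => mem_EL (hUT hx) (hsq x hx)
    (fun t ht => hab _ hx _ ((mem_normalizer_iff.1 (hTU ht) x).1 hx))
  by_cases hV : U ≤ V D
  · exact Or.inl hV
  right
  refine le_antisymm hUE ?_
  obtain ⟨u, hu, huV⟩ := SetLike.not_le_iff_exists.1 hV
  obtain ⟨m, hm, hum⟩ := hUE u hu
  have hm' : m ∈ [32, 34, 36, 38] := by
    by_contra h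
    apply huV
    rw [mem_V]
    refine ⟨m, ?_, hum⟩
    have : ∀ m ∈ EL, m ∉ [32, 34, 36, 38] → m ∈ [0, 2, 4, 6] := by decide
    exact this m hm h
  obtain ⟨-, h6, hcj⟩ := EL_conj m hm'
  obtain ⟨t, ht, h9⟩ := exists_t9 D
  have hcu : t * u * t⁻¹ ∈ U := (mem_normalizer_iff.1 (hTU ht) u).1 hu
  have hcm : Msk D (t * u * t⁻¹) (m ^^^ 6) := by
    show D.φL _ = _
    rw [map_mul, map_mul, map_inv, hum]
    refine Equiv.ext fun i => Fin.ext ?_
    rw [Equiv.Perm.mul_apply, Equiv.Perm.mul_apply, h9, φ_nf m le_rfl, φ_nf _ le_rfl,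
      inv_val h9 (fun i hi => ⟨(tab9 i hi).1, (tab9 i hi).2.2⟩)]
    exact hcj i i.2
  -- the masks of the elements of `U`
  have key : ∀ {a b : ℕ}, a ∈ EL → b ∈ EL → (∃ x ∈ U, Msk D x a) → (∃ x ∈ U, Msk D x b) →
      a ^^^ b ∈ EL ∧ ∃ x ∈ U, Msk D x (a ^^^ b) := by
    rintro a b ha hb ⟨x, hx, hxa⟩ ⟨y, hy, hyb⟩
    exact ⟨(EL_mul a ha b hb).1, x * y, mul_mem hx hy, hxa.mul ha hb hyb⟩
  have k2 : ∃ x ∈ U, Msk D x 2 := ⟨_, hz, msk_z⟩
  have km : ∃ x ∈ U, Msk D x m := ⟨_, hu, hum⟩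
  have km6 : ∃ x ∈ U, Msk D x (m ^^^ 6) := ⟨_, hcu, hcm⟩
  have e2 : 2 ∈ EL := by decide
  obtain ⟨-, k6⟩ := key hm h6 km km6
  rw [← Nat.xor_assoc, Nat.xor_self, Nat.zero_xor] at k6
  have e6 : 6 ∈ EL := by decide
  obtain ⟨e4, k4⟩ := key e2 e6 k2 k6
  have k0 : ∃ x ∈ U, Msk D x 0 := ⟨1, one_mem _, Msk.one⟩
  have e0 : 0 ∈ EL := by decide
  obtain ⟨em2, km2⟩ := key hm e2 km k2
  obtain ⟨em4, km4⟩ := key hm e4 km k4
  have hall : ∀ k ∈ EL, ∃ x ∈ U, Msk D x k := by
    have : ∀ m ∈ [32, 34, 36, 38], ∀ k ∈ EL, k = 0 ∨ k = 2 ∨ k = 2 ^^^ 6 ∨ k = 6 ∨ k = m ∨ k = m ^^^ 2 ∨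
        k = m ^^^ (2 ^^^ 6) ∨ k = m ^^^ 6 := by decide
    intro k hk
    rcases this m hm' k hk with rfl | rfl | rfl | rfl | rfl | rfl | rfl | rfl
    · exact k0
    · exact k2
    · exact k4
    · exact k6
    · exact km
    · exact km2
    · exact km4
    · exact km6
  rintro x ⟨k, hk, hx⟩
  obtain ⟨y, hy, hyk⟩ := hall k hk
  rwa [hx.eq hyk]

/-! ### the centralizer of `V` -/

theorem pwd_chk {l : List ℕ} (hl : ∀ k ∈ l, k < 9) : hw (pwd l) ∈ K ∧
    φ (hw (pwd l)) * φ (hw QTUnique.HS.zw) = φ (hw QTUnique.HS.zw) * φ (hw (pwd l)) := by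
  induction l with
  | nil =>
    have e : hw (pwd []) = 1 := hw_nil
    rw [e]
    refine ⟨one_mem _, ?_⟩
    rw [map_one, one_mul, mul_one]
  | cons k l ih =>
    obtain ⟨h1, h2⟩ := ih fun k hk => hl k (List.mem_cons_of_mem _ hk)
    obtain ⟨h3, h4, h5⟩ := cwd_chk k (hl k List.mem_cons_self)
    have e : hw (pwd (k :: l)) = hw (cwd k) * hw (pwd l) := by
      rw [show pwd (k :: l) = cwd k ++ pwd l from rfl, hw_append]
    have h6 : φ (hw (cwd k)) * φ (hw QTUnique.HS.zw) = φ (hw QTUnique.HS.zw) * φ (hw (cwd k)) := by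
      rw [← map_mul, ← map_mul, ← hw_append, ← hw_append]
      exact QTUnique.HS.φ_eq_of h5
    rw [e, map_mul]
    refine ⟨mul_mem (mem_K_of_par h3 h4) h1, ?_⟩
    rw [mul_assoc, h2, ← mul_assoc, h6, mul_assoc]

/-- the element `y` -/
theorem exists_y (D : KFacts.HS.Mod L) : ∃ y ∈ syT D, Msk D y 4 ∧ D.φL y = φ (hw (Syl.sw 2)) := by
  have hK : Syl.s 2 ∈ K := mem_K_of_par (par_s 2 (by norm_num)).1 (par_s 2 (by norm_num)).2
  refine ⟨D.π ⟨Syl.s 2, hK⟩, (mem_syT D).2 (Syl.s_mem_S (by norm_num)), ?_, ?_⟩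
  · show D.φL _ = _
    rw [D.φL_π]
    refine Equiv.ext fun i => Fin.ext ?_
    rw [φ_nf 4 le_rfl, φ_s (by norm_num)]
    exact y_chk i i.2
  · rw [D.φL_π]; rfl

theorem exists_lift {w : List ℕ} (hw' : hw w ∈ K) : ∃ x : L, D.φL x = φ (hw w) := ⟨D.π ⟨_, hw'⟩, D.φL_π _⟩

theorem thirty_le {y : L} (hy : D.φL y = φ (hw (Syl.sw 2))) [Finite L] :
    30 ≤ Nat.card {x : L // ∃ h ∈ centralizer ({D.z} : Set L), h * y * h⁻¹ = x} := by
  classical
  -- the code of an element
  let cd : L → ℕ := fun x => ((D.φL x 0 : Fin 100) : ℕ) * 128 + ((D.φL x 1 : Fin 100) : ℕ)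
  have h1 : ∀ k ∈ codes, ∃ x : {x : L // ∃ h ∈ centralizer ({D.z} : Set L), h * y * h⁻¹ = x}, cd x = k := by
    intro k hk
    rw [← codes_eq, List.mem_map] at hk
    obtain ⟨l, hl, rfl⟩ := hk
    obtain ⟨h2, h3⟩ := pwd_chk (paths_lt l hl)
    obtain ⟨h, hh⟩ := exists_lift (D := D) h2
    have hcy : D.φL (h * y * h⁻¹) = φ (hw (cjw l)) := by
      rw [map_mul, map_mul, map_inv, hh, hy, cjw, hw_append, hw_append, hw_iw, map_mul, map_mul, map_inv, mul_assoc]
    refine ⟨⟨h * y * h⁻¹, h, ?_, rfl⟩, ?_⟩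
    · rw [mem_centralizer_singleton_iff]
      apply D.φL_inj
      rw [map_mul, map_mul, QTUnique.HS.φL_z, hh, h3]
    · show ((D.φL (h * y * h⁻¹) 0 : Fin 100) : ℕ) * 128 + ((D.φL (h * y * h⁻¹) 1 : Fin 100) : ℕ) = _
      rw [hcy, φ_hw_apply, φ_hw_apply]
      rfl
  have : Nonempty {x : L // ∃ h ∈ centralizer ({D.z} : Set L), h * y * h⁻¹ = x} :=
    ⟨⟨1 * y * 1⁻¹, 1, one_mem _, rfl⟩⟩
  choose! f hf using h1
  have h2 : Function.Injective (fun k : {k // k ∈ codes.toFinset} => f k) := by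
    intro a b hab
    have h3 := hf a (List.mem_toFinset.1 a.2)
    have h4 := hf b (List.mem_toFinset.1 b.2)
    have hab' : f a = f b := hab
    rw [hab'] at h3
    exact Subtype.ext (h3.symm.trans h4)
  have h3 := Nat.card_le_card_of_injective _ h2
  rw [Nat.card_eq_fintype_card (α := {k // k ∈ codes.toFinset}), Fintype.card_coe,
    List.toFinset_card_of_nodup codes_nodup] at h3
  exact h3

/-- `C(z) ∩ C(y)` is a 2-group -/
theorem card_cent {y : L} (hy : D.φL y = φ (hw (Syl.sw 2))) [Finite L] :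
    Nat.card (centralizer ({D.z} : Set L) ⊓ centralizer {y} : Subgroup L) = 256 := by
  have hT512 : Nat.card (syT D : Subgroup L) = 512 := by
    have h2 : Fact (Nat.Prime 2) := ⟨Nat.prime_two⟩
    rw [(syT D).card_eq_multiplicity, D.card]
    have h3 : (44352000 : ℕ) = 2 ^ 9 * 86625 := by norm_num
    rw [h3, Nat.factorization_mul (by norm_num) (by norm_num)]
    simp only [Finsupp.coe_add, Pi.add_apply]
    rw [Nat.Prime.factorization_pow Nat.prime_two, Finsupp.single_eq_same,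
      Nat.factorization_eq_zero_of_not_dvd (n := 86625) (by norm_num)]
    rfl
  have h1 := Ru127.Count.card_conj_mul (centralizer ({D.z} : Set L)) y
  rw [D.card_centralizer] at h1
  have h2 := thirty_le hy
  have hle : Nat.card (centralizer ({D.z} : Set L) ⊓ centralizer {y} : Subgroup L) ≤ 256 := by
    by_contra h
    push Not at h
    have h3 := Nat.mul_le_mul h2 (Nat.succ_le_of_lt h)
    rw [h1] at h3
    norm_num at h3
  -- in `T`
  have hT := Ru127.Count.card_conj_mul (syT D : Subgroup L) y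
  rw [hT512] at hT
  have horb : Nat.card {x : L // ∃ h ∈ (syT D : Subgroup L), h * y * h⁻¹ = x} ≤ 2 := by
    classical
    have h3 : ∀ x : {x : L // ∃ h ∈ (syT D : Subgroup L), h * y * h⁻¹ = x}, (x : L) = y ∨ (x : L) = D.z * y := by
      rintro ⟨_, h, hh, rfl⟩
      have h4 : h * y * h⁻¹ ∈ QTUnique.HS.VL D := by
        refine (mem_normalizer_iff.1 (QTUnique.HS.T_le D hh) y).1 ?_
        show D.φL y ∈ QTUnique.HS.V
        rw [hy]
        exact Or.inr (Or.inr (Or.inl rfl))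
      have hzc : h * D.z * h⁻¹ = D.z := by
        rw [syT_comm D hh, mul_inv_cancel_right]
      have h5 : D.φL (h * y * h⁻¹) = 1 ∨ D.φL (h * y * h⁻¹) = φ (hw QTUnique.HS.zw) ∨
          D.φL (h * y * h⁻¹) = φ (hw QTUnique.HS.yw) ∨
          D.φL (h * y * h⁻¹) = φ (hw QTUnique.HS.zw) * φ (hw QTUnique.HS.yw) := h4
      rcases h5 with h5 | h5 | h5 | h5
      · exfalso
        have h6 : h * y * h⁻¹ = 1 := D.φL_inj (by rw [h5, map_one])
        have h7 : y = 1 := by
          calc y = h⁻¹ * (h * y * h⁻¹) * h := by group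
            _ = 1 := by rw [h6]; group
        rw [h7, map_one] at hy
        exact QTUnique.HS.y_ne_one hy.symm
      · exfalso
        have h6 : h * y * h⁻¹ = D.z := D.φL_inj (by rw [h5, QTUnique.HS.φL_z])
        have h7 : y = D.z := by
          calc y = h⁻¹ * (h * y * h⁻¹) * h := by group
            _ = h⁻¹ * (h * D.z * h⁻¹) * h := by rw [h6, hzc]
            _ = D.z := by group
        rw [h7, QTUnique.HS.φL_z] at hy
        exact QTUnique.HS.y_ne_z hy.symm
      · left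
        exact D.φL_inj (h5.trans hy.symm)
      · right
        apply D.φL_inj
        show D.φL (h * y * h⁻¹) = _
        rw [h5, map_mul, QTUnique.HS.φL_z, hy]
        rfl
    have h4 : Function.Injective (fun x : {x : L // ∃ h ∈ (syT D : Subgroup L), h * y * h⁻¹ = x} =>
        decide ((x : L) = y)) := by
      intro a b hab
      have hab' : ((a : L) = y) ↔ ((b : L) = y) := by simpa using hab
      apply Subtype.ext
      by_cases ha : (a : L) = y
      · rw [ha, hab'.1 ha]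
      · have hb : ¬ (b : L) = y := fun h => ha (hab'.2 h)
        rw [(h3 a).resolve_left ha, (h3 b).resolve_left hb]
    have h5 := Nat.card_le_card_of_injective _ h4
    rwa [Nat.card_eq_fintype_card (α := Bool), Fintype.card_bool] at h5
  have h256 : 256 ∣ Nat.card ((syT D : Subgroup L) ⊓ centralizer {y} : Subgroup L) := by
    set a := Nat.card {x : L // ∃ h ∈ (syT D : Subgroup L), h * y * h⁻¹ = x} with ha
    set b := Nat.card ((syT D : Subgroup L) ⊓ centralizer {y} : Subgroup L) with hb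
    clear_value a b
    interval_cases a
    · norm_num at hT
    · exact ⟨2, by omega⟩
    · exact ⟨1, by omega⟩
  have h3 : ((syT D : Subgroup L) ⊓ centralizer {y} : Subgroup L) ≤
      (centralizer ({D.z} : Set L) ⊓ centralizer {y} : Subgroup L) := by
    refine inf_le_inf ?_ le_rfl
    intro x hx
    exact mem_centralizer_singleton_iff.2 (syT_comm D hx)
  have h4 := h256.trans (card_dvd_of_le h3)
  have h5 := Nat.le_of_dvd Nat.card_pos h4
  omega

theorem cent_E [Finite L] : IsPGroup 2 (centralizer (E D : Set L)) := by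
  obtain ⟨y, -, hm, hy⟩ := exists_y D
  have h1 : centralizer (E D : Set L) ≤ (centralizer ({D.z} : Set L) ⊓ centralizer {y} : Subgroup L) := by
    refine le_inf ?_ ?_
    · refine centralizer_le ?_
      rintro _ rfl
      exact ⟨2, by decide, msk_z⟩
    · refine centralizer_le ?_
      rintro _ rfl
      exact ⟨4, by decide, hm⟩
  exact (IsPGroup.of_card (n := 8) (by rw [card_cent hy]; norm_num)).to_le h1

/-- **the configuration** -/
theorem ctx (D : KFacts.HS.Mod L) [Finite L] : Eight.Ctx (syT D : Subgroup L) D.z (V D) (E D) where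
  zz := D.zz
  comm := fun x hx => syT_comm D hx
  cen := by
    intro a ha hc
    rcases center_eq ha hc with h | h
    · exact Or.inl (h.eq Msk.one)
    · exact Or.inr (h.eq msk_z)
  V4 := card_V.le
  E8 := card_E
  Esq := by
    rintro a ⟨m, hm, ha⟩
    exact ha.sq hm
  cls := cls
  cE := cent_E
  c7 := by rw [D.card_centralizer]; norm_num

/-- the configuration for every Sylow 2-subgroup -/
theorem exists_ctx {G : Type*} [Group G] [Finite G] (h : Spor.IsoHS G) (T : Sylow 2 G) :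
    ∃ (z : G) (V E : Subgroup G), Eight.Ctx (T : Subgroup G) z V E := by
  obtain ⟨D⟩ := exists_mod h
  obtain ⟨g, hg⟩ := H4.LfTrans.exists_conj (syT D) T
  rw [hg]
  exact ⟨_, _, _, (ctx D).conj g⟩

/-- **`HS`: the members of `ℒ_f(G, T)`** -/
theorem row_lf {G : Type*} [Group G] [Finite G] (h : Spor.IsoHS G) (hE : IsOfEvenCharacteristic G) (T : Sylow 2 G)
    {L : Subgroup G} (hL : L ∈ calLf (T : Subgroup G)) :
    (T : Subgroup G) ≤ normalizer (L : Set G) ∧
      Nonempty ((L ⧸ pCore 2 L) ≃* Matrix.ProjectiveSpecialLinearGroup (Fin 3) (ZMod 2)) ∧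
      L ∈ calLfMax (T : Subgroup G) := by
  obtain ⟨z, V, E, c⟩ := exists_ctx h T
  obtain ⟨-, h1, -, h2, h3⟩ := Eight.row_lf c hE hL
  exact ⟨le_sup_right.trans h1, h2, h3⟩

end Cfsg.Agent.H5.HS.Row
end

-- part: H4/DWrCent
section
/-!
# The elementary abelian subgroups of order 16 of `D₈ wr 2` (helper4)
-/

set_option autoImplicit false

namespace Cfsg.Agent.H4.DWrCent

open Subgroup Cfsg.Agent.H4.Row128 Cfsg.Agent.LFourA.Model Cfsg.Agent.LFourA.Base

/-! ### the dihedral group of order 8 -/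

/-- commuting elements of square one -/
def Good (S : Finset (DihedralGroup 4)) : Prop := (∀ a ∈ S, ∀ b ∈ S, a * b = b * a) ∧ (∀ a ∈ S, a * a = 1)

instance good_dec (S : Finset (DihedralGroup 4)) : Decidable (Good S) := by unfold Good; infer_instance

private noncomputable def _root_.Cfsg.Agent.LsF.f604dc0_10 : {f // @Cfsg.Agent.H4.DWrCent.good_dec = f} := ⟨_, by first | (delta Cfsg.Agent.H4.DWrCent.good_dec; rewrite [Cfsg.Agent.LsF.dForall_eq, Cfsg.Agent.LsF.dFMem_eq, Cfsg.Agent.LsF.dAnd_eq, Cfsg.Agent.LsF.dAllP_eq]; exact rfl) | exact rfl⟩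
theorem good_card : ∀ S : Finset (DihedralGroup 4), Good S → S.card ≤ 4 := by (refine of_decide_eq_true ?_; (try (rewrite [Cfsg.Agent.LsF.f604dc0_10.2, Cfsg.Agent.LsF.dForall_eq, Cfsg.Agent.LsF.fcard_eq, Cfsg.Agent.LsF.decLe_eq, Cfsg.Agent.LsF.dAllP_eq, Cfsg.Agent.LsF.decide_eq])); decide +kernel)

theorem good_self : ∀ S : Finset (DihedralGroup 4), Good S → S.card = 4 →
    ∀ c, (∀ a ∈ S, c * a = a * c) → c ∈ S := by (refine of_decide_eq_true ?_; (try (rewrite [Cfsg.Agent.LsF.f604dc0_10.2, Cfsg.Agent.LsF.dForall_eq, Cfsg.Agent.LsF.dFMem_eq, Cfsg.Agent.LsF.fcard_eq, Cfsg.Agent.LsF.instDecEq_eq, Cfsg.Agent.LsF.dAllP_eq, Cfsg.Agent.LsF.decide_eq])); decide +kernel)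

theorem good_ex : ∀ S : Finset (DihedralGroup 4), Good S → S.card = 4 →
    ∃ a, a ∉ S ∧ a * a ∈ S ∧ (S.filter (fun c => a * c = c * a)).card = 2 := by (refine of_decide_eq_true ?_; (try (rewrite [Cfsg.Agent.LsF.f604dc0_10.2, Cfsg.Agent.LsF.dForall_eq, Cfsg.Agent.LsF.dExists_eq, Cfsg.Agent.LsF.dFMem_eq, Cfsg.Agent.LsF.fcard_eq, Cfsg.Agent.LsF.ffilter_eq, Cfsg.Agent.LsF.instDecEq_eq, Cfsg.Agent.LsF.dAnd_eq, Cfsg.Agent.LsF.dNot_eq, Cfsg.Agent.LsF.dAllP_eq, Cfsg.Agent.LsF.decide_eq])); decide +kernel)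

theorem good_one : ∀ S : Finset (DihedralGroup 4), Good S → S.card = 4 → (1 : DihedralGroup 4) ∈ S := by
  (refine of_decide_eq_true ?_; (try (rewrite [Cfsg.Agent.LsF.f604dc0_10.2, Cfsg.Agent.LsF.dForall_eq, Cfsg.Agent.LsF.dFMem_eq, Cfsg.Agent.LsF.fcard_eq, Cfsg.Agent.LsF.instDecEq_eq, Cfsg.Agent.LsF.dAllP_eq, Cfsg.Agent.LsF.decide_eq])); decide +kernel)

section

variable {G : Type*} [Group G] [Finite G] {S : Subgroup G} {f : D 0 → D 0 → G} {w : G}

open Classical in
/-- the first coordinates -/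
noncomputable def pr₁ (f : D 0 → D 0 → G) (U : Subgroup G) : Finset (DihedralGroup 4) :=
  Finset.univ.filter fun a => ∃ b : D 0, f a b ∈ U

open Classical in
/-- the second coordinates -/
noncomputable def pr₂ (f : D 0 → D 0 → G) (U : Subgroup G) : Finset (DihedralGroup 4) :=
  Finset.univ.filter fun b => ∃ a : D 0, f a b ∈ U

theorem mem_pr₁ {U : Subgroup G} {a : D 0} : a ∈ pr₁ f U ↔ ∃ b : D 0, f a b ∈ U := by
  simp [pr₁]

theorem mem_pr₂ {U : Subgroup G} {b : D 0} : b ∈ pr₂ f U ↔ ∃ a : D 0, f a b ∈ U := by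
  simp [pr₂]

theorem good_pr₁ (h : DWr S 0 f w) {U : Subgroup G} (hc : ∀ a ∈ U, ∀ b ∈ U, a * b = b * a)
    (hs : ∀ a ∈ U, a * a = 1) : Good (pr₁ f U) := by
  constructor
  · intro a ha a' ha'
    obtain ⟨b, hb⟩ := mem_pr₁.1 ha
    obtain ⟨b', hb'⟩ := mem_pr₁.1 ha'
    exact ((f_comm_iff h).1 (hc _ hb _ hb')).1
  · intro a ha
    obtain ⟨b, hb⟩ := mem_pr₁.1 ha
    have h1 := hs _ hb
    rw [h.f_mul] at h1
    exact (h.f_inj _ _ h1).1

theorem good_pr₂ (h : DWr S 0 f w) {U : Subgroup G} (hc : ∀ a ∈ U, ∀ b ∈ U, a * b = b * a)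
    (hs : ∀ a ∈ U, a * a = 1) : Good (pr₂ f U) := by
  constructor
  · intro a ha a' ha'
    obtain ⟨b, hb⟩ := mem_pr₂.1 ha
    obtain ⟨b', hb'⟩ := mem_pr₂.1 ha'
    exact ((f_comm_iff h).1 (hc _ hb _ hb')).2
  · intro a ha
    obtain ⟨b, hb⟩ := mem_pr₂.1 ha
    have h1 := hs _ hb
    rw [h.f_mul] at h1
    exact (h.f_inj _ _ h1).2

/-- elementary abelian subgroups of order 16 lie in the base -/
theorem not_fw (h : DWr S 0 f w) {U : Subgroup G} (hU : U ≤ S) (hc : ∀ a ∈ U, ∀ b ∈ U, a * b = b * a)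
    (hs : ∀ a ∈ U, a * a = 1) (h16 : Nat.card ↥U = 16) (a b : D 0) : f a b * w ∉ U := by
  intro h0
  have hcard := good_card _ (good_pr₁ h hc hs)
  -- an injection `U → pr₁ × Bool`
  have key : ∀ u : ↥U, ∃ (c : ↥(pr₁ f U)) (e : Bool), ∃ d : D 0, f c.1 d ∈ U ∧
      (u : G) = f c.1 d * (if e then f a b * w else 1) := by
    rintro ⟨u, hu⟩
    rcases mem_cases h (hU hu) with ⟨x, y, rfl⟩ | ⟨x, y, rfl⟩
    · exact ⟨⟨x, mem_pr₁.2 ⟨y, hu⟩⟩, false, y, hu, by simp⟩
    · have h1 : f x y * w * (f a b * w) ∈ U := mul_mem hu h0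
      rw [fw_mul_fw h] at h1
      refine ⟨⟨x * b, mem_pr₁.2 ⟨_, h1⟩⟩, true, y * a, h1, ?_⟩
      have h2 := hs _ h0
      have h3 : f x y * w = f x y * w * (f a b * w) * (f a b * w) := by rw [mul_assoc, h2, mul_one]
      rw [fw_mul_fw h] at h3
      simpa using h3
  choose c e d hd he using key
  have hinj : Function.Injective (fun u : ↥U => (c u, e u)) := by
    intro u v huv
    have h1 : c u = c v := congrArg Prod.fst huv
    have h2 : e u = e v := congrArg Prod.snd huv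
    have h3 := (fw_comm_f_iff h).1 (hc _ h0 _ (hd u))
    have h4 := (fw_comm_f_iff h).1 (hc _ h0 _ (hd v))
    have h5 : d u = d v := by
      have h6 : a * d u = a * d v := by rw [h3.1, h4.1, h1]
      exact mul_left_cancel h6
    apply Subtype.ext
    rw [he u, he v, h1, h2, h5]
  have h1 := Nat.card_le_card_of_injective _ hinj
  rw [h16, Nat.card_prod, Nat.card_eq_fintype_card, Nat.card_eq_fintype_card, Fintype.card_bool,
    Fintype.card_coe] at h1
  omega

/-- **The elementary abelian subgroups of order 16.** -/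
theorem mem_iff (h : DWr S 0 f w) {U : Subgroup G} (hU : U ≤ S) (hc : ∀ a ∈ U, ∀ b ∈ U, a * b = b * a)
    (hs : ∀ a ∈ U, a * a = 1) (h16 : Nat.card ↥U = 16) :
    (pr₁ f U).card = 4 ∧ (pr₂ f U).card = 4 ∧
      ∀ a b : D 0, f a b ∈ U ↔ a ∈ pr₁ f U ∧ b ∈ pr₂ f U := by
  classical
  have c1 := good_card _ (good_pr₁ h hc hs)
  have c2 := good_card _ (good_pr₂ h hc hs)
  set I : Finset G := ((pr₁ f U) ×ˢ (pr₂ f U)).image (fun p => f p.1 p.2) with hI
  have hIc : I.card = (pr₁ f U).card * (pr₂ f U).card := by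
    rw [hI, Finset.card_image_of_injective, Finset.card_product]
    rintro ⟨x, y⟩ ⟨x', y'⟩ hxy
    have := (f_eq_iff h).1 hxy
    exact Prod.ext this.1 this.2
  have hUI : (U : Set G) ⊆ I := by
    intro u hu
    rcases mem_cases h (hU hu) with ⟨x, y, rfl⟩ | ⟨x, y, rfl⟩
    · exact Finset.mem_coe.2 (Finset.mem_image.2 ⟨(x, y), Finset.mem_product.2
        ⟨mem_pr₁.2 ⟨y, hu⟩, mem_pr₂.2 ⟨x, hu⟩⟩, rfl⟩)
    · exact absurd hu (not_fw h hU hc hs h16 x y)
  have h1 : (U : Set G).ncard = 16 := by rw [← h16, ← Nat.card_coe_set_eq]; rfl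
  have h2 : (U : Set G).ncard ≤ I.card := by
    rw [← Set.ncard_coe_finset]
    exact Set.ncard_le_ncard hUI (Finset.finite_toSet _)
  rw [h1, hIc] at h2
  have h3 : (pr₁ f U).card = 4 := by nlinarith
  have h4 : (pr₂ f U).card = 4 := by nlinarith
  have hEq : (U : Set G) = I := by
    apply Set.eq_of_subset_of_ncard_le hUI
    rw [Set.ncard_coe_finset, hIc, h3, h4, h1]
  refine ⟨h3, h4, fun a b => ⟨fun hab => ⟨mem_pr₁.2 ⟨b, hab⟩, mem_pr₂.2 ⟨a, hab⟩⟩, fun hab => ?_⟩⟩
  have h5 : f a b ∈ (U : Set G) := by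
    rw [hEq]
    exact Finset.mem_coe.2 (Finset.mem_image.2 ⟨(a, b), Finset.mem_product.2 hab, rfl⟩)
  exact h5

/-- **self-centralizing** -/
theorem selfCent (h : DWr S 0 f w) : SelfCent S := by
  intro U hU hc hs h16 x hx hxU
  obtain ⟨h1, h2, h3⟩ := mem_iff h hU hc hs h16
  have g1 := good_pr₁ h hc hs
  have g2 := good_pr₂ h hc hs
  have o1 : (1 : D 0) ∈ pr₁ f U := good_one _ g1 h1
  have o2 : (1 : D 0) ∈ pr₂ f U := good_one _ g2 h2
  rcases mem_cases h hx with ⟨a, b, rfl⟩ | ⟨a, b, rfl⟩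
  · refine (h3 a b).2 ⟨good_self _ g1 h1 a fun c hc' => ?_, good_self _ g2 h2 b fun c hc' => ?_⟩
    · exact ((f_comm_iff h).1 (hxU _ ((h3 c 1).2 ⟨hc', o2⟩))).1
    · exact ((f_comm_iff h).1 (hxU _ ((h3 1 c).2 ⟨o1, hc'⟩))).2
  · exfalso
    have h4 : ∀ c ∈ pr₁ f U, c = 1 := by
      intro c hc'
      have h5 := ((fw_comm_f_iff h).1 (hxU _ ((h3 c 1).2 ⟨hc', o2⟩))).1
      have h6 : a * 1 = c * a := h5
      have h7 : 1 * a = c * a := by rw [one_mul, ← h6, mul_one]
      exact (mul_right_cancel h7).symm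
    have h5 : pr₁ f U ⊆ {1} := fun c hc' => Finset.mem_singleton.2 (h4 c hc')
    have h6 := Finset.card_le_card h5
    rw [h1, Finset.card_singleton] at h6
    omega

/-- elements outside `U` with different numbers of fixed points -/
theorem exists_pair (h : DWr S 0 f w) {U : Subgroup G} (hU : U ≤ S) (hc : ∀ a ∈ U, ∀ b ∈ U, a * b = b * a)
    (hs : ∀ a ∈ U, a * a = 1) (h16 : Nat.card ↥U = 16) :
    ∃ x ∈ S, ∃ y ∈ S, x ∉ U ∧ y ∉ U ∧ x * x ∈ U ∧ y * y ∈ U ∧
      Nat.card {u : G // u ∈ U ∧ x * u = u * x} = 8 ∧ Nat.card {u : G // u ∈ U ∧ y * u = u * y} = 4 := by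
  classical
  obtain ⟨h1, h2, h3⟩ := mem_iff h hU hc hs h16
  have g1 := good_pr₁ h hc hs
  have g2 := good_pr₂ h hc hs
  obtain ⟨a, a1, a2, a3⟩ := good_ex _ g1 h1
  obtain ⟨b, b1, b2, b3⟩ := good_ex _ g2 h2
  have o1 : (1 : D 0) ∈ pr₁ f U := good_one _ g1 h1
  have o2 : (1 : D 0) ∈ pr₂ f U := good_one _ g2 h2
  have cnt : ∀ x y : D 0, Nat.card {u : G // u ∈ U ∧ f x y * u = u * f x y} =
      ((pr₁ f U).filter (fun c => x * c = c * x)).card * ((pr₂ f U).filter (fun c => y * c = c * y)).card := by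
    intro x y
    rw [← Finset.card_product]
    have hset : {u : G | u ∈ U ∧ f x y * u = u * f x y} = (((pr₁ f U).filter (fun c => x * c = c * x) ×ˢ
        (pr₂ f U).filter (fun c => y * c = c * y)).image (fun p => f p.1 p.2) : Finset G) := by
      ext u
      rw [Set.mem_setOf_eq, Finset.mem_coe, Finset.mem_image]
      constructor
      · rintro ⟨hu, hcu⟩
        rcases mem_cases h (hU hu) with ⟨p, q, rfl⟩ | ⟨p, q, rfl⟩
        · have h4 := (h3 p q).1 hu
          have h5 := (f_comm_iff h).1 hcu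
          exact ⟨(p, q), Finset.mem_product.2 ⟨Finset.mem_filter.2 ⟨h4.1, h5.1⟩, Finset.mem_filter.2 ⟨h4.2, h5.2⟩⟩, rfl⟩
        · exact absurd hu (not_fw h hU hc hs h16 p q)
      · rintro ⟨⟨p, q⟩, hpq, rfl⟩
        rw [Finset.mem_product, Finset.mem_filter, Finset.mem_filter] at hpq
        exact ⟨(h3 p q).2 ⟨hpq.1.1, hpq.2.1⟩, (f_comm_iff h).2 ⟨hpq.1.2, hpq.2.2⟩⟩
    have h4 : Nat.card {u : G // u ∈ U ∧ f x y * u = u * f x y} =
        ({u : G | u ∈ U ∧ f x y * u = u * f x y} : Set G).ncard := by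
      rw [← Nat.card_coe_set_eq]; rfl
    rw [h4, hset, Set.ncard_coe_finset, Finset.card_image_of_injective]
    rintro ⟨x, y⟩ ⟨x', y'⟩ hxy
    have := (f_eq_iff h).1 hxy
    exact Prod.ext this.1 this.2
  have e1 : ((pr₁ f U).filter (fun c : D 0 => a * c = c * a)).card = 2 := by
    refine Eq.trans ?_ a3
    refine Finset.card_bij (fun c _ => c) (fun c hc' => ?_) (fun _ _ _ _ hh => hh) (fun c hc' => ⟨c, ?_, rfl⟩)
    · exact Finset.mem_filter.2 (Finset.mem_filter.1 hc')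
    · exact Finset.mem_filter.2 (Finset.mem_filter.1 hc')
  have e2 : ((pr₂ f U).filter (fun c : D 0 => b * c = c * b)).card = 2 := by
    refine Eq.trans ?_ b3
    refine Finset.card_bij (fun c _ => c) (fun c hc' => ?_) (fun _ _ _ _ hh => hh) (fun c hc' => ⟨c, ?_, rfl⟩)
    · exact Finset.mem_filter.2 (Finset.mem_filter.1 hc')
    · exact Finset.mem_filter.2 (Finset.mem_filter.1 hc')
  refine ⟨f a 1, f_mem h a 1, f a b, f_mem h a b, ?_, ?_, ?_, ?_, ?_, ?_⟩
  · exact fun hh => a1 ((h3 a 1).1 hh).1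
  · exact fun hh => a1 ((h3 a b).1 hh).1
  · rw [h.f_mul]; exact (h3 _ _).2 ⟨a2, by rw [mul_one]; exact o2⟩
  · rw [h.f_mul]; exact (h3 _ _).2 ⟨a2, b2⟩
  · rw [cnt, e1]
    have h5 : (pr₂ f U).filter (fun c => (1 : D 0) * c = c * 1) = pr₂ f U := by
      apply Finset.filter_true_of_mem
      intro c _
      rw [one_mul, mul_one]
    rw [h5, h2]
  · rw [cnt, e1, e2]

end

end Cfsg.Agent.H4.DWrCent
end

-- part: H4/RowL43
section
/-!
# The row `L₄(3)`: every member `L` of `ℒ_f(G, T)` has `L/O₂(L) ≅ A₅` (helper4)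
-/

set_option autoImplicit false

namespace Cfsg.Agent.H4.RowL43

open Subgroup Cfsg Cfsg.Agent.H4.Lf Cfsg.Agent.H4.LfTrans Cfsg.Agent.H4.Small Cfsg.Agent.H4.Row128
open Cfsg.Agent.H4.DWrCent

universe u

/-- involutions of `A₆` have cycle type `2²` -/
theorem cycleType_alt {σ : Equiv.Perm (Fin 6)} (h2 : σ * σ = 1) (h1 : σ ≠ 1) (hs : Equiv.Perm.sign σ = 1) :
    σ.cycleType = Multiset.replicate 2 2 := by
  have ho : orderOf σ = 2 := orderOf_eq_prime (by rw [pow_two]; exact h2) h1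
  obtain ⟨n, hn⟩ := Equiv.Perm.cycleType_prime_order (σ := σ) (by rw [ho]; exact Nat.prime_two)
  rw [ho] at hn
  have h3 : σ.cycleType.sum ≤ 6 := by
    rw [Equiv.Perm.sum_cycleType]
    calc _ ≤ Fintype.card (Fin 6) := Finset.card_le_univ _
      _ = 6 := Fintype.card_fin 6
  have h4 := Equiv.Perm.sign_of_cycleType σ
  rw [hn, Multiset.sum_replicate, smul_eq_mul] at h3
  rw [hs, hn, Multiset.sum_replicate, Multiset.card_replicate, smul_eq_mul] at h4
  have hn3 : n < 3 := by omega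
  interval_cases n
  · exact absurd h4 (by decide)
  · exact hn
  · exact absurd h4 (by decide)

/-- **`A₆` has one class of involutions.** -/
theorem isConj_alt (σ τ : alternatingGroup (Fin 6)) (hσ : σ * σ = 1) (hσ1 : σ ≠ 1) (hτ : τ * τ = 1) (hτ1 : τ ≠ 1) :
    IsConj σ τ := by
  have a1 := cycleType_alt (σ := (σ : Equiv.Perm (Fin 6))) (congrArg Subtype.val hσ)
    (fun h => hσ1 (Subtype.ext h)) σ.2
  have a2 := cycleType_alt (σ := (τ : Equiv.Perm (Fin 6))) (congrArg Subtype.val hτ)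
    (fun h => hτ1 (Subtype.ext h)) τ.2
  refine alternatingGroup.isConj_of (Equiv.Perm.isConj_iff_cycleType_eq.2 (a1.trans a2.symm)) ?_
  rw [← Equiv.Perm.sum_cycleType, a1]
  decide

variable {G : Type u} [Group G]

/-- the number of fixed points on an abelian subgroup `U` under conjugation modulo `U` -/
theorem card_fix_eq {U : Subgroup G} {x y g v : G} (hc : ∀ a ∈ U, ∀ b ∈ U, a * b = b * a)
    (hg : g ∈ normalizer (U : Set G)) (hv : v ∈ U) (h : g * x * g⁻¹ = y * v) :
    Nat.card {u : G // u ∈ U ∧ x * u = u * x} = Nat.card {u : G // u ∈ U ∧ y * u = u * y} := by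
  have key : ∀ u ∈ U, x * u = u * x ↔ y * (g * u * g⁻¹) = g * u * g⁻¹ * y := by
    intro u hu
    have hu' : g * u * g⁻¹ ∈ U := (mem_normalizer_iff.1 hg u).1 hu
    have h1 := hc v hv _ hu'
    have h2 : x = g⁻¹ * (y * v) * g := by rw [← h]; group
    have h3 : x * u = g⁻¹ * (y * (g * u * g⁻¹) * v) * g := by
      rw [h2]
      calc g⁻¹ * (y * v) * g * u = g⁻¹ * (y * (v * (g * u * g⁻¹))) * g := by group
        _ = g⁻¹ * (y * ((g * u * g⁻¹) * v)) * g := by rw [h1]
        _ = _ := by group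
    have h4 : u * x = g⁻¹ * (g * u * g⁻¹ * y * v) * g := by
      rw [h2]; group
    rw [h3, h4, mul_left_inj, mul_right_inj, mul_left_inj]
  refine Nat.card_congr ⟨fun u => ⟨g * u.1 * g⁻¹, (mem_normalizer_iff.1 hg _).1 u.2.1, (key _ u.2.1).1 u.2.2⟩,
    fun u => ⟨g⁻¹ * u.1 * g, ?_, ?_⟩, ?_, ?_⟩
  · rw [mem_normalizer_iff.1 hg]
    have : g * (g⁻¹ * u.1 * g) * g⁻¹ = u.1 := by group
    rw [this]; exact u.2.1
  · have h5 : g * (g⁻¹ * u.1 * g) * g⁻¹ = u.1 := by group
    have h6 : g⁻¹ * u.1 * g ∈ U := by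
      rw [mem_normalizer_iff.1 hg, h5]; exact u.2.1
    rw [key _ h6, h5]; exact u.2.2
  · intro u; apply Subtype.ext; show g⁻¹ * (g * u.1 * g⁻¹) * g = u.1; group
  · intro u; apply Subtype.ext; show g * (g⁻¹ * u.1 * g) * g⁻¹ = u.1; group

/-- if `L/O₂(L) ≅ A₆`, the involutions of `L/O₂(L)` have the same number of fixed points on the elementary abelian
subgroup `O₂(L)` -/
theorem fix_eq {L U : Subgroup G} (hU : (pCore 2 ↥L).map L.subtype = U) (hc : ∀ a ∈ U, ∀ b ∈ U, a * b = b * a)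
    (e : (↥L ⧸ pCore 2 ↥L) ≃* alternatingGroup (Fin 6)) {x y : G} (hx : x ∈ L) (hy : y ∈ L) (hxU : x ∉ U)
    (hyU : y ∉ U) (hx2 : x * x ∈ U) (hy2 : y * y ∈ U) :
    Nat.card {u : G // u ∈ U ∧ x * u = u * x} = Nat.card {u : G // u ∈ U ∧ y * u = u * y} := by
  have hmem : ∀ (t : G) (ht : t ∈ L), (⟨t, ht⟩ : ↥L) ∈ pCore 2 ↥L ↔ t ∈ U := by
    intro t ht
    rw [← hU]
    constructor
    · exact fun h => ⟨_, h, rfl⟩
    · rintro ⟨s, hs, h⟩
      have : s = ⟨t, ht⟩ := Subtype.ext h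
      rwa [← this]
  set π := QuotientGroup.mk' (pCore 2 ↥L) with hπ
  have h1 : ∀ (t : G) (ht : t ∈ L), π ⟨t, ht⟩ = 1 ↔ t ∈ U := by
    intro t ht
    rw [← hmem t ht, hπ, QuotientGroup.mk'_apply, QuotientGroup.eq_one_iff]
  have hconj := isConj_alt (e (π ⟨x, hx⟩)) (e (π ⟨y, hy⟩))
    (by rw [← map_mul, ← map_mul, ← map_one e]; exact congrArg e ((h1 (x * x) (mul_mem hx hx)).2 hx2))
    (fun h => hxU ((h1 x hx).1 (e.injective (h.trans (map_one e).symm))))
    (by rw [← map_mul, ← map_mul, ← map_one e]; exact congrArg e ((h1 (y * y) (mul_mem hy hy)).2 hy2))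
    (fun h => hyU ((h1 y hy).1 (e.injective (h.trans (map_one e).symm))))
  obtain ⟨c, hc'⟩ := isConj_iff.1 hconj
  obtain ⟨c, rfl⟩ := e.surjective c
  rw [← map_inv, ← map_mul, ← map_mul] at hc'
  have h2 := e.injective hc'
  obtain ⟨⟨g, hg⟩, rfl⟩ := QuotientGroup.mk'_surjective _ c
  change π _ * π _ * (π _)⁻¹ = π _ at h2
  rw [← map_inv, ← map_mul, ← map_mul] at h2
  have h3 := (QuotientGroup.mk'_eq_mk' (pCore 2 ↥L)).1 h2.symm
  obtain ⟨v, hv, h4⟩ := h3
  have hv' : (v : G) ∈ U := (hmem v v.2).1 hv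
  have h5 : y * (v : G) = g * x * g⁻¹ := congrArg Subtype.val h4
  refine card_fix_eq hc ?_ hv' h5.symm
  rw [← hU]
  exact Cfsg.Agent.QTUniq.Local.le_normalizer_map_pCore 2 L hg

/-- a group of even characteristic with Sylow 2-subgroups `D₈ wr 2` -/
theorem not_alt [Finite G] (T : Sylow 2 G) {f w} (h : Cfsg.Agent.LFourA.Model.DWr (T : Subgroup G) 0 f w)
    {L : Subgroup G} (hL : L ∈ calLf (T : Subgroup G)) (h7 : ¬ 7 ∣ Nat.card ↥L)
    (h360 : Nat.card (↥L ⧸ pCore 2 ↥L) = 360) (e : (↥L ⧸ pCore 2 ↥L) ≃* alternatingGroup (Fin 6)) : False := by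
  have hS := selfCent h
  obtain ⟨h1, h2⟩ := core_eq T hS hL h7
  obtain ⟨-, hA⟩ := acts_inner hL
  have h16 := card_core T hS hL h7
  have hm := H5.Top.card_eq_mul (X := ↥L)
  rw [h360, h16] at hm
  have hT : (T : Subgroup G) ≤ L := by
    apply H5.Row64.le_of_dvd T hL.1
    rw [Cfsg.Agent.LFourA.Base.card_S h, hm]
    norm_num
  have hUT : UU L ≤ (T : Subgroup G) := (uu_le_core L).trans (coreOf_le T hL.1)
  obtain ⟨x, hx, y, hy, hxU, hyU, hx2, hy2, hx8, hy4⟩ := exists_pair h hUT hA.comm hA.sq h2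
  have h3 := fix_eq h1 hA.comm e (hT hx) (hT hy) hxU hyU hx2 hy2
  rw [hx8, hy4] at h3
  exact absurd h3 (by norm_num)

theorem card_psl {F : Type*} [Field F] [Fintype F] (hF : Fintype.card F = 3) :
    Nat.card (Matrix.ProjectiveSpecialLinearGroup (Fin 4) F) = 6065280 := by
  have hc := Cfsg.Agent.S0243.result (F := F) rfl 4 (by norm_num)
  rw [hF, Fin.prod_univ_four] at hc
  norm_num at hc
  omega

/-- the row for the matrix group -/
theorem row_psl {F : Type*} [Field F] [Fintype F] (hF : Fintype.card F = 3)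
    (hE : IsOfEvenCharacteristic (Matrix.ProjectiveSpecialLinearGroup (Fin 4) F)) :
    LfIso (Matrix.ProjectiveSpecialLinearGroup (Fin 4) F) (alternatingGroup (Fin 5)) 960 := by
  have hc := card_psl hF
  have : Finite (Matrix.ProjectiveSpecialLinearGroup (Fin 4) F) :=
    Nat.finite_of_card_ne_zero (by rw [hc]; norm_num)
  refine LfIso.of hE fun T L hL => ?_
  obtain ⟨f, w, h⟩ := Cfsg.Agent.LFourA.SylPsl.exists_dwr_psl (F := F) (k := 0) (m := 1) (by rw [hF])
    (by rw [hF]; norm_num) (by decide) T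
  have hLG : Nat.card ↥L ∣ Nat.card (Matrix.ProjectiveSpecialLinearGroup (Fin 4) F) :=
    Subgroup.card_subgroup_dvd_card L
  rw [hc] at hLG
  have h7 : ¬ 7 ∣ Nat.card ↥L := fun h7 => absurd (h7.trans hLG) (by norm_num)
  have h16 := card_core T (selfCent h) hL h7
  have hm := H5.Top.card_eq_mul (X := ↥L)
  rcases row128 hE (by rw [hc]; norm_num) T (selfCent h) hL h7 with ⟨h1, ⟨e⟩⟩ | ⟨h1, ⟨e⟩⟩
  · rw [h1, h16] at hm
    have hs : IsSimpleGroup (↥L ⧸ pCore 2 ↥L) := e.isSimpleGroup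
    exact ⟨le_normalizer T hL.1 (p := 5) (by norm_num) (by norm_num) (by rw [hm]; norm_num)
      (by rw [hc]; norm_num) hs, ⟨e⟩, hm⟩
  · exact (not_alt T h hL h7 h1 e).elim

/-- **The row `L₄(3)`.** -/
theorem l43 [Finite G] (hE : IsOfEvenCharacteristic G) {F : Type*} [Field F] [Fintype F] (hF : Fintype.card F = 3)
    (e : G ≃* Matrix.ProjectiveSpecialLinearGroup (Fin 4) F) : LfIso G (alternatingGroup (Fin 5)) 960 := by
  have hfin : Finite (Matrix.ProjectiveSpecialLinearGroup (Fin 4) F) := Finite.of_equiv G e.toEquiv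
  exact (row_psl hF (Omega.Quasithin.EvenOf.even_of_equiv e.symm hE)).congr e

end Cfsg.Agent.H4.RowL43
end

-- part: H4/Rows1
section
/-!
# Rows with `ℒ_f(G, T) = ∅`: 2-rank two, Bender groups, small orders (helper4)

`psl2_odd`, `psl3_odd`, `psu3_odd`, `psl3_two`, `alt_five`, `alt_six`, `m11`, `m12`, `psl2_even`, `psu3_even`, `sz`,
`bender`.
-/

set_option autoImplicit false

namespace Cfsg.Agent.H4.Rows1

open Cfsg Subgroup Matrix Cfsg.Agent.H4.Lf Cfsg.Agent.H4.LfTrans Cfsg.Agent.H4.Small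

universe u

/-- the odd order theorem -/
abbrev OddOrd : Prop := ∀ (X : Type u) [Group X] [Finite X], Odd (Nat.card X) → Group.IsSolvable X

variable {G : Type u} [Group G] [Finite G]

theorem psl2_odd (F : Type) [Field F] [Fintype F] (hF : Odd (Fintype.card F))
    (e : G ≃* ProjectiveSpecialLinearGroup (Fin 2) F) : NoLf G := by
  have : Finite (ProjectiveSpecialLinearGroup (Fin 2) F) := Finite.of_equiv G e.toEquiv
  exact (noLf_of_rank_two (Cfsg.Agent.NotResT.TwoRank.prank_psl_two hF)).congr e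

theorem psl3_odd (F : Type) [Field F] [Fintype F] (hF : Odd (Fintype.card F))
    (e : G ≃* ProjectiveSpecialLinearGroup (Fin 3) F) : NoLf G := by
  have : Finite (ProjectiveSpecialLinearGroup (Fin 3) F) := Finite.of_equiv G e.toEquiv
  exact (noLf_of_rank_two (Cfsg.Agent.NotResT.TwoRank.prank_psl_three hF)).congr e

theorem psu3_odd (F : Type) [Field F] [Fintype F] {q : ℕ} (hF : Fintype.card F = q ^ 2) (hq : Odd q)
    (e : G ≃* PSU 3 F q) : NoLf G := by
  have : Finite (PSU 3 F q) := Finite.of_equiv G e.toEquiv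
  exact (noLf_of_rank_two (Cfsg.Agent.NotResT.TwoRank.prank_psu_three hF hq)).congr e

theorem alt_five (e : G ≃* alternatingGroup (Fin 5)) : NoLf G := by
  refine (noLf_of_sixteen ?_).congr e
  have h := nat_card_alternatingGroup (α := Fin 5)
  rw [h, Nat.card_fin, show Nat.factorial 5 = 120 by rfl]
  norm_num

theorem alt_six (e : G ≃* alternatingGroup (Fin 6)) : NoLf G := by
  refine (noLf_of_sixteen ?_).congr e
  have h := nat_card_alternatingGroup (α := Fin 6)
  rw [h, Nat.card_fin, show Nat.factorial 6 = 720 by rfl]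
  norm_num

theorem m11 (h : Spor.IsoM11 G) : NoLf G := by
  obtain ⟨e⟩ := h
  have hc := Cfsg.Agent.FooteOdd.SporMEleven.card
  have : Finite Spor.M11 := Nat.finite_of_card_ne_zero (by rw [hc]; norm_num)
  exact (noLf_of_card_sixteen (m := 495) (p := 3) (q := 5) (a := 2) (b := 1) (by rw [hc]) (by decide)
    (by norm_num) (by norm_num) (by norm_num) (by norm_num)).congr e

theorem m12 (h : Spor.IsoM12 G) : NoLf G := by
  refine noLf_of_rank_three (Cfsg.Agent.SevenLow.MTwelve.low h) ?_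
  obtain ⟨e⟩ := h
  rw [Nat.card_congr e.toEquiv, Cfsg.Agent.MTwelveType.SylowModel.card_M12]
  norm_num

theorem psl2_even (hFT : OddOrd.{u}) (hE : IsOfEvenCharacteristic G) (F : Type) [Field F] [Fintype F] [CharP F 2]
    (e : G ≃* ProjectiveSpecialLinearGroup (Fin 2) F) : NoLf G := by
  have : Fact (Nat.Prime 2) := ⟨Nat.prime_two⟩
  obtain ⟨T⟩ : Nonempty (Sylow 2 G) := inferInstance
  have hT := Cfsg.Agent.Classification.PSLTwoEvenSylow.sylow_comm e T
  refine noLf_of_central hFT hE T fun x hx _ y hy => ?_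
  exact congrArg Subtype.val (hT.is_comm.comm (⟨x, hx⟩ : ↥(T : Subgroup G)) ⟨y, hy⟩)

theorem psu3_even (hFT : OddOrd.{u}) (hE : IsOfEvenCharacteristic G) (F : Type) [Field F] [Fintype F] {n : ℕ}
    (hn : 1 ≤ n) (hF : Fintype.card F = (2 ^ n) ^ 2) (e : G ≃* PSU 3 F (2 ^ n)) : NoLf G := by
  have : Fact (Nat.Prime 2) := ⟨Nat.prime_two⟩
  obtain ⟨T⟩ : Nonempty (Sylow 2 G) := inferInstance
  obtain ⟨_, σ, _, -, -, h3⟩ := Cfsg.Agent.LieRecognition.PSUThreeSylow.exists_heis_equiv F hn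
    (by rw [Nat.card_eq_fintype_card]; exact hF)
  have : Finite (PSU 3 F (2 ^ n)) := Finite.of_equiv G e.toEquiv
  obtain ⟨f⟩ := h3 (mapSylow e T)
  have key : ∀ x ∈ (mapSylow e T : Subgroup (PSU 3 F (2 ^ n))), x * x = 1 →
      ∀ y ∈ (mapSylow e T : Subgroup (PSU 3 F (2 ^ n))), x * y = y * x := by
    intro x hx hxx y hy
    obtain ⟨a, ha⟩ := f.surjective ⟨x, hx⟩
    obtain ⟨b, hb⟩ := f.surjective ⟨y, hy⟩
    have h4 : a * a = 1 := f.injective (by rw [map_mul, ha, map_one]; exact Subtype.ext hxx)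
    have h5 := (Cfsg.Agent.LieRecognition.HermHeis.mul_self_eq_one_iff a).1 h4
    have h6 : a * b = b * a := by
      rw [Cfsg.Agent.LieRecognition.HermHeis.commute_iff, h5, zero_mul, map_zero, mul_zero]
    have h7 := congrArg f h6
    rw [map_mul, map_mul, ha, hb] at h7
    exact congrArg Subtype.val h7
  refine noLf_of_central hFT hE T fun x hx hxx y hy => ?_
  apply e.injective
  rw [map_mul, map_mul]
  have h8 : ∀ z ∈ (T : Subgroup G), e z ∈ (mapSylow e T : Subgroup (PSU 3 F (2 ^ n))) := fun z hz => by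
    rw [coe_mapSylow]; exact ⟨z, hz, rfl⟩
  exact key _ (h8 x hx) (by rw [← map_mul, hxx, map_one]) _ (h8 y hy)

theorem sz (hFT : OddOrd.{u}) (hE : IsOfEvenCharacteristic G) (h : Cfsg.Lie.IsoSuzuki G) : NoLf G := by
  have : Fact (Nat.Prime 2) := ⟨Nat.prime_two⟩
  obtain ⟨T⟩ : Nonempty (Sylow 2 G) := inferInstance
  obtain ⟨D, hD⟩ := Cfsg.Agent.ThreePrime.SzRel.exists_szData h T
  exact noLf_of_central hFT hE T fun x hx hxx y hy => (hD.sq_iff x hx).1 hxx y hy

/-- **Bender groups** -/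
theorem bender (hFT : OddOrd.{u}) (hE : IsOfEvenCharacteristic G) (h : IsBenderGroup G) : NoLf G := by
  rcases h with ⟨F, _, _, hF, -, ⟨e⟩⟩ | ⟨F, _, _, n, hn, hF, ⟨e⟩⟩ | h
  · exact psl2_even hFT hE F e
  · exact psu3_even hFT hE F (by omega) hF e
  · exact sz hFT hE h

end Cfsg.Agent.H4.Rows1
end

-- part: H4/Rows2
section
/-!
# The rows `J₂`, `J₃`, `L₃(2)` with `ℒ_f(G, T) = ∅` (helper4)
-/

set_option autoImplicit false

namespace Cfsg.Agent.H4.Rows2

open Cfsg Subgroup Cfsg.Agent.J2Type.Model Cfsg.Agent.J2Type.CStruct Cfsg.Agent.QTNorm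
open Cfsg.Agent.H4.Lf Cfsg.Agent.H4.LfTrans Cfsg.Agent.H4.Small

section model

variable {G : Type*} [Group G] {z : G}
variable {Q : Subgroup (centralizer ({z} : Set G))} {v : Fin 5 → centralizer ({z} : Set G)}
  {ρ : centralizer ({z} : Set G) →* SP} {zc : centralizer ({z} : Set G)}

/-- the centralizer of a 2-central involution is `2^{1+4}_- : A₅` -/
theorem noLf_of_model [Finite G] (hE : IsOfEvenCharacteristic G) (M : IsModel Q zc v ρ) (T : Sylow 2 G)
    (hT : ∀ x ∈ T, x * z = z * x) : NoLf G := by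
  obtain ⟨i0, h0⟩ := exists_fix T hT ρ
  refine noLf_of_normal hE T fun V hVT hVn hVa hVs => ?_
  -- `V` has at most four elements
  let f : V → Option (ZMod 2 ⊕ Unit) := fun x =>
    open Classical in
    if (x : G) = 1 then none
    else if (x : G) = zc then some (Sum.inr ())
    else if h : ∃ a, cc (x : G) (hT x (hVT x.2)) = zp zc a * v i0 then some (Sum.inl h.choose) else none
  have hf : Function.Injective f := by
    intro x y hxy
    have hx := cases_of_mem M T hT h0 hVn hVa hVs (c := cc (x : G) (hT x (hVT x.2))) x.2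
    have hy := cases_of_mem M T hT h0 hVn hVa hVs (c := cc (y : G) (hT y (hVT y.2))) y.2
    have e1 : ∀ w : V, cc (w : G) (hT w (hVT w.2)) = 1 ↔ (w : G) = 1 := fun w =>
      ⟨fun h => congrArg Subtype.val h, fun h => Subtype.ext h⟩
    have e2 : ∀ w : V, cc (w : G) (hT w (hVT w.2)) = zc ↔ (w : G) = zc := fun w =>
      ⟨fun h => congrArg Subtype.val h, fun h => Subtype.ext h⟩
    rw [e1, e2] at hx hy
    simp only [f] at hxy
    by_cases hx1 : (x : G) = 1
    · by_cases hy1 : (y : G) = 1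
      · exact Subtype.ext (hx1.trans hy1.symm)
      · rw [if_pos hx1, if_neg hy1] at hxy
        by_cases hyz : (y : G) = zc
        · rw [if_pos hyz] at hxy; exact absurd hxy (by simp)
        · rcases hy with h | h | h
          · exact absurd h hy1
          · exact absurd h hyz
          · rw [if_neg hyz, dif_pos h] at hxy; exact absurd hxy (by simp)
    by_cases hxz : (x : G) = zc
    · rw [if_neg hx1, if_pos hxz] at hxy
      by_cases hy1 : (y : G) = 1
      · rw [if_pos hy1] at hxy; exact absurd hxy (by simp)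
      by_cases hyz : (y : G) = zc
      · exact Subtype.ext (hxz.trans hyz.symm)
      · rcases hy with h | h | h
        · exact absurd h hy1
        · exact absurd h hyz
        · rw [if_neg hy1, if_neg hyz, dif_pos h] at hxy; exact absurd hxy (by simp)
    rcases hx with h | h | hx
    · exact absurd h hx1
    · exact absurd h hxz
    rw [if_neg hx1, if_neg hxz, dif_pos hx] at hxy
    by_cases hy1 : (y : G) = 1
    · rw [if_pos hy1] at hxy; exact absurd hxy (by simp)
    by_cases hyz : (y : G) = zc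
    · rw [if_neg hy1, if_pos hyz] at hxy; exact absurd hxy (by simp)
    rcases hy with h | h | hy
    · exact absurd h hy1
    · exact absurd h hyz
    rw [if_neg hy1, if_neg hyz, dif_pos hy] at hxy
    have h2 : hx.choose = hy.choose := by simpa using hxy
    have h3 := hx.choose_spec
    have h4 := hy.choose_spec
    rw [h2] at h3
    exact Subtype.ext (congrArg (fun c : centralizer ({z} : Set G) => (c : G)) (h3.trans h4.symm))
  have h1 := Nat.card_le_card_of_injective f hf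
  have h2 : Nat.card (Option (ZMod 2 ⊕ Unit)) = 4 := by
    rw [Nat.card_eq_fintype_card]; rfl
  omega

end model

/-- **`J₂`** -/
theorem j2 {G : Type*} [Group G] [Finite G] (hE : IsOfEvenCharacteristic G) (h : Spor.IsoJ2 G) : NoLf G := by
  obtain ⟨t, u, Q, v, ρ, D⟩ := Cfsg.Agent.KFacts.J2.Facts.exists_dat_of h
  have hodd : Odd (centralizer ({t} : Set G)).index := by rw [D.index]; decide
  obtain ⟨T, hT⟩ := Omega.Quasithin.EvenOf.exists_sylow hodd
  exact noLf_of_model hE D.M T hT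

/-- **`J₃`** -/
theorem j3 {G : Type*} [Group G] [Finite G] (hE : IsOfEvenCharacteristic G) (h : Spor.IsoJ3 G) : NoLf G := by
  obtain ⟨-, z, Q, v, ρ, n, u, F⟩ := Cfsg.Agent.KFacts.J3.exists_facts h
  have hodd : Odd (centralizer ({z} : Set G)).index := by
    have h1 := (centralizer ({z} : Set G)).card_mul_index
    rw [F.card_K, F.card_C] at h1
    have h2 : (centralizer ({z} : Set G)).index = 26163 := by omega
    rw [h2]; decide
  obtain ⟨T, hT⟩ := Omega.Quasithin.EvenOf.exists_sylow hodd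
  exact noLf_of_model hE F.model T hT

/-- **`L₃(2)`** -/
theorem psl3_two {G : Type*} [Group G] [Finite G] {F : Type*} [Field F] [Fintype F] (hF : Fintype.card F = 2)
    (e : G ≃* Matrix.ProjectiveSpecialLinearGroup (Fin 3) F) : NoLf G := by
  have hc := Cfsg.Agent.S0243.result (F := F) rfl 3 (by norm_num)
  rw [hF, Fin.prod_univ_three] at hc
  norm_num at hc
  refine noLf_of_sixteen (G := G) ?_
  rw [Nat.card_congr e.toEquiv, hc]
  norm_num

end Cfsg.Agent.H4.Rows2
end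

-- part: H5/Resid
section
/-!
# The residual case of the quasithin analysis: assembly (helper5)

`Rows G`: `G` is one of the groups of the residual case with `ℒ_f(G, T) ≠ ∅`, together with the description of the members of
`ℒ_f(G, T)`; `main`: every group on the list in the residual case has `ℒ_f(G, T) = ∅` for all `T` or satisfies `Rows`.
The rows `Sp₆(2)`, `U₄(3)`, `³D₄(2)` and the Tits group are hypotheses.
-/

set_option autoImplicit false

namespace Cfsg.Agent.H5.Resid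

open Subgroup Cfsg Cfsg.Agent.H4.LfTrans

universe u

/-- `L/O₂(L) ≅ L₃(2)` -/
def IsL3 {G : Type u} [Group G] (L : Subgroup G) : Prop :=
  Nonempty ((↥L ⧸ pCore 2 ↥L) ≃* Matrix.ProjectiveSpecialLinearGroup (Fin 3) (ZMod 2))

/-- `L/O₂(L) ≅ A_n` -/
def IsAlt {G : Type u} [Group G] (n : ℕ) (L : Subgroup G) : Prop :=
  Nonempty ((↥L ⧸ pCore 2 ↥L) ≃* alternatingGroup (Fin n))

/-- every member of `ℒ_f(G, T)` is `T`-invariant, in `ℒ_f*(G, T)`, and has the property `P` -/
def LfRow (G : Type u) [Group G] (P : Subgroup G → Prop) : Prop :=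
  ∀ (T : Sylow 2 G), ∀ L ∈ calLf (T : Subgroup G), (T : Subgroup G) ≤ normalizer (L : Set G) ∧
    L ∈ calLfMax (T : Subgroup G) ∧ P L

def Sp62 (G : Type u) [Group G] : Prop :=
  ∃ (F : Type) (_ : Field F) (_ : Fintype F), Fintype.card F = 2 ∧ Nonempty (G ≃* Cfsg.PSp 3 F)

def U43 (G : Type u) [Group G] : Prop :=
  ∃ (F : Type) (_ : Field F) (_ : Fintype F), Fintype.card F = 9 ∧ Nonempty (G ≃* Cfsg.PSU 4 F 3)

def U42 (G : Type u) [Group G] : Prop :=
  ∃ (F : Type) (_ : Field F) (_ : Fintype F), Fintype.card F = 4 ∧ Nonempty (G ≃* Cfsg.PSU 4 F 2)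

def L43 (G : Type u) [Group G] : Prop :=
  ∃ (F : Type) (_ : Field F) (_ : Fintype F), Fintype.card F = 3 ∧
    Nonempty (G ≃* Matrix.ProjectiveSpecialLinearGroup (Fin 4) F)

def G23 (G : Type u) [Group G] : Prop :=
  ∃ (F : Type) (_ : Field F) (_ : Fintype F), Fintype.card F = 3 ∧ Nonempty (G ≃* ↥(Cfsg.Lie.chevG2.group F))

def D42 (G : Type u) [Group G] : Prop :=
  ∃ (K : Type) (_ : Field K) (_ : Fintype K), Fintype.card K = 8 ∧ Nonempty (G ≃* ↥(Lie.twistedD4 K 2))

/-- the three conclusions -/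
def Conc {G : Type u} [Group G] (L : Subgroup G) : Prop :=
  (IsAlt 6 L ∧ (Sp62 G ∨ U43 G)) ∨ (IsAlt 5 L ∧ (U42 G ∨ L43 G)) ∨
    (IsL3 L ∧ (Sp62 G ∨ G23 G ∨ Spor.IsoHS G ∨ Spor.IsoRu G))

theorem LfRow.mono {G : Type u} [Group G] {P Q : Subgroup G → Prop} (h : LfRow G P) (hPQ : ∀ L, P L → Q L) :
    LfRow G Q := fun T L hL => by
  obtain ⟨h1, h2, h3⟩ := h T L hL
  exact ⟨h1, h2, hPQ L h3⟩

theorem LfRow.of_noLf {G : Type u} [Group G] {P : Subgroup G → Prop} (h : NoLf G) : LfRow G P := by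
  intro T L hL
  rw [h T] at hL
  exact hL.elim

section rows

variable {G : Type u} [Group G] [Finite G]

theorem card_u42 {F : Type*} [Field F] [Fintype F] (hF : Fintype.card F = 4) : Nat.card (Cfsg.PSU 4 F 2) = 25920 := by
  have h := S0280.result (F := F) (q := 2) (by rw [hF]; norm_num) 4 (by norm_num)
  norm_num [Finset.prod_range_succ, Nat.even_iff] at h
  omega

theorem card_g23 {F : Type*} [Field F] [Fintype F] (hF : Fintype.card F = 3) :
    Nat.card ↥(Cfsg.Lie.chevG2.group F) = 4245696 := by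
  rw [S1059.result hF]; norm_num

theorem row_u42 (hFT : Top.FT.{u}) (hE : IsOfEvenCharacteristic G) {F : Type*} [Field F] [Fintype F]
    (hF : Fintype.card F = 4) (e : G ≃* Cfsg.PSU 4 F 2) : LfRow G (IsAlt 5) := by
  have hc : Nat.card G = 25920 := (Nat.card_congr e.toEquiv).trans (card_u42 hF)
  have h128 : ¬ 128 ∣ Nat.card G := by rw [hc]; norm_num
  intro T L hL
  obtain ⟨h1, h2⟩ := Row64.row64 hFT hE h128 T hL.1
  refine ⟨h1.trans le_normalizer, ⟨Row64.row64_max hFT hE h128 T hL.1, hL.2⟩, ?_⟩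
  rcases h2 with ⟨-, h2, -⟩ | ⟨-, -, h2⟩
  · exfalso
    have h3 := Top.card_eq_mul (X := L)
    rw [h2] at h3
    have h4 : 168 ∣ Nat.card G := (Dvd.intro _ h3.symm).trans (card_subgroup_dvd_card L)
    rw [hc] at h4
    norm_num at h4
  · exact h2

theorem row_g23 (hFT : Top.FT.{u}) (hE : IsOfEvenCharacteristic G) {F : Type*} [Field F] [Fintype F]
    (hF : Fintype.card F = 3) (e : G ≃* ↥(Cfsg.Lie.chevG2.group F)) : LfRow G IsL3 := by
  have hc : Nat.card G = 4245696 := (Nat.card_congr e.toEquiv).trans (card_g23 hF)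
  have h128 : ¬ 128 ∣ Nat.card G := by rw [hc]; norm_num
  intro T L hL
  obtain ⟨h1, h2⟩ := Row64.row64 hFT hE h128 T hL.1
  refine ⟨h1.trans le_normalizer, ⟨Row64.row64_max hFT hE h128 T hL.1, hL.2⟩, ?_⟩
  rcases h2 with ⟨-, -, h2⟩ | ⟨-, h2, -⟩
  · exact h2
  · exfalso
    have h3 := Top.card_eq_mul (X := L)
    rw [h2] at h3
    have h4 : 60 ∣ Nat.card G := (Dvd.intro _ h3.symm).trans (card_subgroup_dvd_card L)
    rw [hc] at h4
    norm_num at h4

theorem row_l43 (hE : IsOfEvenCharacteristic G) {F : Type*} [Field F] [Fintype F]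
    (hF : Fintype.card F = 3) (e : G ≃* Matrix.ProjectiveSpecialLinearGroup (Fin 4) F) : LfRow G (IsAlt 5) := by
  intro T L hL
  obtain ⟨h1, h2, h3, -⟩ := H4.RowL43.l43 hE hF e T L hL
  exact ⟨h1, h2, h3⟩

theorem row_hs (hE : IsOfEvenCharacteristic G) (h : Spor.IsoHS G) : LfRow G IsL3 := by
  intro T L hL
  obtain ⟨h1, h2, h3⟩ := HS.Row.row_lf h hE T hL
  exact ⟨h1, h3, h2⟩

theorem row_ru (hE : IsOfEvenCharacteristic G) (h : Spor.IsoRu G) : LfRow G IsL3 := by
  intro T L hL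
  obtain ⟨h1, h2, h3⟩ := Ru.Row.row_lf h hE T hL
  exact ⟨h1, h3, h2⟩

end rows

theorem odd_of_neighbour {p : ℕ} (h : IsTwoPowerNeighbourPrime p) : Odd p := by
  obtain ⟨hp, ⟨k, hk, rfl⟩ | ⟨k, hk⟩⟩ := h
  · exact (Nat.even_pow.2 ⟨even_two, by omega⟩).add_one
  · rcases hp.eq_two_or_odd' with rfl | h
    · exfalso
      match k, hk with
      | 0, h => norm_num at h
      | 1, h => norm_num at h
      | k + 2, h =>
        rw [pow_add] at h
        omega
    · exact h

/-- the rows which are proved in other files -/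
structure Hyp (G : Type u) [Group G] [Finite G] : Prop where
  sp62 : Sp62 G → LfRow G (fun L => IsAlt 6 L ∨ IsL3 L)
  u43 : U43 G → LfRow G (IsAlt 6)
  d42 : D42 G → NoLf G
  tits : Lie.IsoTits G → NoLf G

/-- **The residual case.** -/
theorem main {G : Type u} [Group G] [Finite G] (hFT : Top.FT.{u}) (hE : IsOfEvenCharacteristic G)
    (hl : IsOnQTKEList G) (hR : InResidualCase G) (H : Hyp G) : LfRow G Conc := by
  obtain ⟨r1, r2, r3, r4, r5⟩ := hR
  rcases hl with h | h | h | h | h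
  · rcases h with h | ⟨F, _, _, hF, h | ⟨h4, h⟩ | ⟨h4, h⟩⟩ | ⟨F, _, _, n, hn, hF, h⟩ | ⟨F, _, _, hF, h⟩ |
      ⟨K, _, _, n, hn, hK, h⟩ | h | h
    · exact .of_noLf (H4.Rows1.bender hFT hE h)
    · by_cases h4 : 4 ≤ Fintype.card F
      · exact (r1 (Or.inl ⟨F, _, _, hF, h4, Or.inl h⟩)).elim
      · obtain ⟨e⟩ := h
        have h2 : Fintype.card F = 2 := by
          obtain ⟨m, -, hm⟩ := FiniteField.card F 2
          have h5 : (m : ℕ) ≠ 0 := m.ne_zero
          rcases Nat.lt_or_ge (m : ℕ) 2 with h6 | h6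
          · rw [hm, show (m : ℕ) = 1 by omega, pow_one]
          · exfalso
            apply h4
            rw [hm]
            calc 4 = 2 ^ 2 := by norm_num
              _ ≤ 2 ^ (m : ℕ) := Nat.pow_le_pow_right (by norm_num) h6
        exact .of_noLf (H4.Rows2.psl3_two h2 e)
    · exact (r1 (Or.inl ⟨F, _, _, hF, h4, Or.inr (Or.inl h)⟩)).elim
    · exact (r1 (Or.inl ⟨F, _, _, hF, h4, Or.inr (Or.inr h)⟩)).elim
    · rcases Nat.lt_or_ge n 2 with h6 | h6
      · obtain rfl : n = 1 := by omega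
        obtain ⟨e⟩ := h
        exact (row_u42 hFT hE (by rw [hF]; norm_num) e).mono fun L hL =>
          Or.inr (Or.inl ⟨hL, Or.inl ⟨F, _, _, by rw [hF]; norm_num, ⟨e⟩⟩⟩)
      · exact (r1 (Or.inr (Or.inl ⟨F, _, _, n, h6, hF, h⟩))).elim
    · exact (r1 (Or.inr (Or.inr (Or.inl ⟨F, _, _, hF, h⟩)))).elim
    · rcases Nat.lt_or_ge n 2 with h6 | h6
      · obtain rfl : n = 1 := by omega
        exact .of_noLf (H.d42 ⟨K, _, _, by rw [hK]; norm_num, h⟩)
      · exact (r1 (Or.inr (Or.inr (Or.inr (Or.inl ⟨K, _, _, n, h6, hK, h⟩))))).elim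
    · exact (r1 (Or.inr (Or.inr (Or.inr (Or.inr h))))).elim
    · exact .of_noLf (H.tits h)
  · obtain ⟨F, _, _, hF, h | h | h⟩ := h
    · exact (r3 ⟨F, _, _, hF, Or.inl h⟩).elim
    · exact (r3 ⟨F, _, _, hF, Or.inr h⟩).elim
    · have h' : Sp62 G := ⟨F, _, _, hF, h⟩
      exact (H.sp62 h').mono fun L hL => hL.elim (fun hL => Or.inl ⟨hL, Or.inl h'⟩)
        (fun hL => Or.inr (Or.inr ⟨hL, Or.inl h'⟩))
  · rcases h with ⟨⟨e⟩⟩ | ⟨⟨e⟩⟩ | ⟨⟨e⟩⟩ | h
    · exact .of_noLf (H4.Rows1.alt_five e)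
    · exact .of_noLf (H4.Rows1.alt_six e)
    · obtain ⟨e'⟩ := S0256.result (F := ZMod 2) (by rw [ZMod.card])
      exact (r3 ⟨ZMod 2, inferInstance, inferInstance, by rw [ZMod.card], Or.inl ⟨e.trans e'.symm⟩⟩).elim
    · exact (r4 h).elim
  · rcases h with ⟨F, _, _, hF, ⟨e⟩⟩ | ⟨F, _, _, hF, ⟨⟨e⟩⟩ | ⟨⟨e⟩⟩ | ⟨⟨e⟩⟩⟩ | ⟨F, _, _, hF, ⟨⟨e⟩⟩ | h⟩
    · exact .of_noLf (H4.Rows1.psl2_odd F (odd_of_neighbour hF) e)
    · exact .of_noLf (H4.Rows1.psl3_odd F (by rw [hF]; decide) e)
    · exact (row_l43 hE hF e).mono fun L hL => Or.inr (Or.inl ⟨hL, Or.inr ⟨F, _, _, hF, ⟨e⟩⟩⟩)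
    · exact (row_g23 hFT hE hF e).mono fun L hL =>
        Or.inr (Or.inr ⟨hL, Or.inr (Or.inl ⟨F, _, _, hF, ⟨e⟩⟩)⟩)
    · exact .of_noLf (H4.Rows1.psu3_odd F (q := 3) (by rw [hF]; norm_num) (by decide) e)
    · have h' : U43 G := ⟨F, _, _, hF, h⟩
      exact (H.u43 h').mono fun L hL => Or.inl ⟨hL, Or.inr h'⟩
  · rcases h with h | h | h | h | h | h | h | h | h | h | h
    · exact .of_noLf (H4.Rows1.m11 h)
    · exact .of_noLf (H4.Rows1.m12 h)
    · exact (r5 (Or.inl h)).elim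
    · exact (r5 (Or.inr (Or.inl h))).elim
    · exact (r5 (Or.inr (Or.inr (Or.inl h)))).elim
    · exact .of_noLf (H4.Rows2.j2 hE h)
    · exact .of_noLf (H4.Rows2.j3 hE h)
    · exact (r5 (Or.inr (Or.inr (Or.inr (Or.inr h))))).elim
    · exact (row_hs hE h).mono fun L hL => Or.inr (Or.inr ⟨hL, Or.inr (Or.inr (Or.inl h))⟩)
    · exact (r5 (Or.inr (Or.inr (Or.inr (Or.inl h))))).elim
    · exact (row_ru hE h).mono fun L hL => Or.inr (Or.inr ⟨hL, Or.inr (Or.inr (Or.inr h))⟩)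

end Cfsg.Agent.H5.Resid
end

-- part: H5/ResidEnd
section
/-!
# The residual case: the conclusions of S1841, S1842, S1843 (helper5)
-/

set_option autoImplicit false

namespace Cfsg.Agent.H5.ResidEnd

open Subgroup Cfsg Cfsg.Agent.H5.Resid

universe u

/-- a simple group whose order is not a prime has trivial centre -/
theorem center_eq_bot {X : Type*} [Group X] [Finite X] [hs : IsSimpleGroup X] (hp : ¬ (Nat.card X).Prime) :
    Subgroup.center X = ⊥ := by
  rcases (inferInstance : (Subgroup.center X).Normal).eq_bot_or_eq_top with h | h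
  · exact h
  · exfalso
    let _ : CommGroup X := Group.commGroupOfCenterEqTop h
    exact hp IsSimpleGroup.prime_card

theorem card_alt_six : Nat.card (alternatingGroup (Fin 6)) = 360 := by
  have h := nat_card_alternatingGroup (α := Fin 6)
  rw [h, Nat.card_fin, show Nat.factorial 6 = 720 by rfl]

theorem card_alt_five : Nat.card (alternatingGroup (Fin 5)) = 60 := by
  have h := nat_card_alternatingGroup (α := Fin 5)
  rw [h, Nat.card_fin, show Nat.factorial 5 = 120 by rfl]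

/-- `O_{2,Z}(L) = O₂(L)` if `L/O₂(L)` has trivial centre -/
theorem twoZCore_eq {L : Type u} [Group L] (h : Subgroup.center (L ⧸ pCore 2 L) = ⊥) : twoZCore L = pCore 2 L := by
  unfold twoZCore
  rw [h, MonoidHom.comap_bot, QuotientGroup.ker_mk']

/-- `L/O_{2,Z}(L) ≅ L/O₂(L)` if `L/O₂(L)` is simple of composite order -/
theorem quot_equiv {L : Type u} [Group L] {Q : Type*} [Group Q] [Finite Q] [IsSimpleGroup Q]
    (hp : ¬ (Nat.card Q).Prime) (e : (L ⧸ pCore 2 L) ≃* Q) : Nonempty ((L ⧸ twoZCore L) ≃* Q) := by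
  have : Finite (L ⧸ pCore 2 L) := Finite.of_equiv Q e.toEquiv.symm
  have : IsSimpleGroup (L ⧸ pCore 2 L) := e.isSimpleGroup
  have h := twoZCore_eq (L := L) (center_eq_bot (by rwa [Nat.card_congr e.toEquiv]))
  exact ⟨(QuotientGroup.quotientMulEquivOfEq h).trans e⟩

theorem alt_six {G : Type u} [Group G] {L : Subgroup G} (h : IsAlt 6 L) :
    Nonempty ((↥L ⧸ twoZCore ↥L) ≃* ↥(alternatingGroup (Fin 6))) := by
  obtain ⟨e⟩ := h
  have : IsSimpleGroup (alternatingGroup (Fin 6)) := alternatingGroup.isSimpleGroup (by simp)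
  exact quot_equiv (by rw [card_alt_six]; norm_num) e

theorem alt_five {G : Type u} [Group G] {L : Subgroup G} (h : IsAlt 5 L) :
    Nonempty ((↥L ⧸ twoZCore ↥L) ≃* ↥(alternatingGroup (Fin 5))) := by
  obtain ⟨e⟩ := h
  have : IsSimpleGroup (alternatingGroup (Fin 5)) := alternatingGroup.isSimpleGroup (by simp)
  exact quot_equiv (by rw [card_alt_five]; norm_num) e

theorem card_l3 : Nat.card (Matrix.ProjectiveSpecialLinearGroup (Fin 3) (ZMod 2)) = 168 := by
  have h := S0243.result (F := ZMod 2) rfl 3 (by norm_num)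
  rw [ZMod.card, Fin.prod_univ_three] at h
  norm_num at h
  rw [Nat.card_eq_fintype_card, h]

theorem l3 {G : Type u} [Group G] [Finite G] {L : Subgroup G} (h : IsL3 L) :
    Nonempty ((↥L ⧸ twoZCore ↥L) ≃* Matrix.ProjectiveSpecialLinearGroup (Fin 3) (ZMod 2)) := by
  obtain ⟨e⟩ := h
  have : Finite (Matrix.ProjectiveSpecialLinearGroup (Fin 3) (ZMod 2)) := Finite.of_equiv _ e.toEquiv
  have : IsSimpleGroup (Matrix.ProjectiveSpecialLinearGroup (Fin 3) (ZMod 2)) :=
    S0249.result 3 le_rfl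
  exact quot_equiv (by rw [card_l3]; norm_num) e

section

variable {G : Type u} [Group G] [Finite G]

/-- **S1842** -/
theorem s1842 (hFT : Top.FT.{u}) (hE : IsOfEvenCharacteristic G) (hl : IsOnQTKEList G) (hR : InResidualCase G)
    (H : Hyp G) (T : Sylow 2 G) (L : Subgroup G) (hL : L ∈ calLf (T : Subgroup G)) :
    (Nonempty ((↥L ⧸ Cfsg.twoZCore ↥L) ≃* ↥(alternatingGroup (Fin 6))) ∧
      ((∃ (F : Type) (_ : Field F) (_ : Fintype F), Fintype.card F = 2 ∧ Nonempty (G ≃* Cfsg.PSp 3 F)) ∨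
        (∃ (F : Type) (_ : Field F) (_ : Fintype F), Fintype.card F = 9 ∧ Nonempty (G ≃* Cfsg.PSU 4 F 3)))) ∨
    (Nonempty ((↥L ⧸ Cfsg.pCore 2 ↥L) ≃* ↥(alternatingGroup (Fin 5))) ∧
      ((∃ (F : Type) (_ : Field F) (_ : Fintype F), Fintype.card F = 4 ∧ Nonempty (G ≃* Cfsg.PSU 4 F 2)) ∨
        (∃ (F : Type) (_ : Field F) (_ : Fintype F), Fintype.card F = 3 ∧
          Nonempty (G ≃* Matrix.ProjectiveSpecialLinearGroup (Fin 4) F)))) ∨
    ((∃ (F : Type) (_ : Field F) (_ : Fintype F), Fintype.card F = 2 ∧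
        Nonempty ((↥L ⧸ Cfsg.pCore 2 ↥L) ≃* Matrix.ProjectiveSpecialLinearGroup (Fin 3) F)) ∧
      ((∃ (F : Type) (_ : Field F) (_ : Fintype F), Fintype.card F = 2 ∧ Nonempty (G ≃* Cfsg.PSp 3 F)) ∨
        (∃ (F : Type) (_ : Field F) (_ : Fintype F), Fintype.card F = 3 ∧
          Nonempty (G ≃* ↥(Cfsg.Lie.chevG2.group F))) ∨
        Cfsg.Spor.IsoHS G ∨ Cfsg.Spor.IsoRu G)) := by
  obtain ⟨-, -, h⟩ := main hFT hE hl hR H T L hL
  rcases h with ⟨h1, h2⟩ | ⟨h1, h2⟩ | ⟨h1, h2⟩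
  · exact Or.inl ⟨alt_six h1, h2⟩
  · exact Or.inr (Or.inl ⟨h1, h2⟩)
  · exact Or.inr (Or.inr ⟨⟨ZMod 2, inferInstance, inferInstance, by rw [ZMod.card], h1⟩, h2⟩)

/-- **S1841** -/
theorem s1841 (hFT : Top.FT.{u}) (hE : IsOfEvenCharacteristic G) (hl : IsOnQTKEList G) (hR : InResidualCase G)
    (H : Hyp G) (T : Sylow 2 G) (L : Subgroup G) (hL : L ∈ calLf (T : Subgroup G))
    (h6 : Nonempty ((↥L ⧸ Cfsg.twoZCore ↥L) ≃* ↥(alternatingGroup (Fin 6)))) :
    (∃ (F : Type) (_ : Field F) (_ : Fintype F), Fintype.card F = 2 ∧ Nonempty (G ≃* Cfsg.PSp 3 F)) ∨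
      (∃ (F : Type) (_ : Field F) (_ : Fintype F), Fintype.card F = 9 ∧ Nonempty (G ≃* Cfsg.PSU 4 F 3)) := by
  obtain ⟨-, -, h⟩ := main hFT hE hl hR H T L hL
  obtain ⟨e6⟩ := h6
  have hc : Nat.card (↥L ⧸ Cfsg.twoZCore ↥L) = 360 := (Nat.card_congr e6.toEquiv).trans card_alt_six
  rcases h with ⟨-, h2⟩ | ⟨h1, -⟩ | ⟨h1, -⟩
  · exact h2
  · exfalso
    obtain ⟨e⟩ := alt_five h1
    rw [Nat.card_congr e.toEquiv, card_alt_five] at hc
    norm_num at hc
  · exfalso
    obtain ⟨e⟩ := l3 h1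
    rw [Nat.card_congr e.toEquiv, card_l3] at hc
    norm_num at hc

/-- **S1843** -/
theorem s1843 (hFT : Top.FT.{u}) (hE : IsOfEvenCharacteristic G) (hl : IsOnQTKEList G) (hR : InResidualCase G)
    (H : Hyp G) (T : Sylow 2 G) (K : Subgroup G) (hK : K ∈ calLf (T : Subgroup G)) :
    (Nonempty ((↥K ⧸ Cfsg.pCore 2 ↥K) ≃* ↥(alternatingGroup (Fin 5))) ∨
      (∃ (F : Type) (_ : Field F) (_ : Fintype F), Fintype.card F = 2 ∧
        Nonempty ((↥K ⧸ Cfsg.pCore 2 ↥K) ≃* Matrix.ProjectiveSpecialLinearGroup (Fin 3) F)) ∨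
      Nonempty ((↥K ⧸ Cfsg.pCore 2 ↥K) ≃* ↥(alternatingGroup (Fin 6))) ∨ Cfsg.IsHatA6 (↥K ⧸ Cfsg.pCore 2 ↥K) ∨
      (∃ (F : Type) (_ : Field F) (_ : Fintype F), Fintype.card F = 9 ∧
        Nonempty ((↥K ⧸ Cfsg.pCore 2 ↥K) ≃* Cfsg.PSU 3 F 3))) ∧
    (T : Subgroup G) ≤ Subgroup.normalizer (K : Set G) ∧ K ∈ Cfsg.calLfMax (T : Subgroup G) := by
  obtain ⟨h1, h2, h⟩ := main hFT hE hl hR H T K hK
  refine ⟨?_, h1, h2⟩
  rcases h with ⟨h3, -⟩ | ⟨h3, -⟩ | ⟨h3, -⟩
  · exact Or.inr (Or.inr (Or.inl h3))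
  · exact Or.inl h3
  · exact Or.inr (Or.inl ⟨ZMod 2, inferInstance, inferInstance, by rw [ZMod.card], h3⟩)

end

end Cfsg.Agent.H5.ResidEnd
end

private theorem dce_7981e319b0b2 : _root_.True := by
  try have : _root_.True := by simp only [_root_.Cfsg.Agent.H4.DWrCent.pr₁.eq_1]
  try have : _root_.True := by simp only [_root_.Cfsg.Agent.H5.HS.Tab.nf.eq_2]
  try have : _root_.True := by simp only [_root_.Cfsg.Agent.H5.HS.Tab.nf.eq_1]
  try have : _root_.True := by simp only [_root_.Cfsg.Agent.H5.HS.Tab.im.eq_1]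
  try have : _root_.True := by simp only [_root_.Cfsg.Agent.H5.HS.Tab.pm.eq_1]
  try have : _root_.True := by simp only [_root_.Cfsg.Agent.H5.HS.Tab.nf.eq_def]
  try have : _root_.True := by simp only [_root_.Cfsg.Agent.H5.HS.Tab.im.eq_2]
  try have : _root_.True := by simp only [_root_.Cfsg.Agent.H5.HS.Row.V.eq_1]
  try have : _root_.True := by simp only [_root_.Cfsg.Agent.H5.HS.Tab.cjw.eq_1]
  try have : _root_.True := by simp only [_root_.Cfsg.Agent.H5.HS.Row.E.eq_1]
  try have : _root_.True := by simp only [_root_.Cfsg.Agent.H5.HS.Tab.im.eq_def]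
  try have : _root_.True := by simp only [_root_.Cfsg.Agent.H4.DWrCent.pr₂.eq_1]
  exact _root_.True.intro
end

-- part: H1/RowChev
section
set_option linter.all false
open scoped Cfsg.Agent.FastGrp

/-!
# Chevalley groups of rank 2 over fields of characteristic 2, `PSp₄(q)`: `ℒ(G, T)` (helper1)
-/

set_option autoImplicit false
set_option linter.unusedSectionVars false

namespace Cfsg.Agent.H1.RowChev

open Cfsg Cfsg.Lie
open CoxeterSystem Cfsg.Agent.ChevalleyStructure.CoxeterGeom Cfsg.Agent.Tits.Roots Cfsg.Agent.Tits.Core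
  Cfsg.Agent.Tits.RootComb Cfsg.Agent.Tits.Exchange Cfsg.Agent.Nodes.Reps Cfsg.Agent.Nodes.BNOf
  Cfsg.Agent.Nodes.StabComb Cfsg.Agent.Nodes.Bruhat Cfsg.Agent.Nodes.OppDec Cfsg.Agent.Nodes.LeviDec
  Cfsg.Agent.KFacts.RgdBorelTits Cfsg.Agent.KFacts.RgdFilt Cfsg.Agent.H1.Over Cfsg.Agent.H1.RgdRow
  Cfsg.Agent.H1.RankTwo Cfsg.Agent.H1.RowExc
open Cfsg.Agent.Nodes.RGDChev Cfsg.Agent.BiChar.RankPar Cfsg.Agent.BiChar
open Cfsg.Agent.BiChar.GTwo (range_psi)
open Cfsg.Agent.ChevalleyStructure Cfsg.Agent.ChevalleyStructure.Elts Cfsg.Agent.ChevalleyStructure.NPerm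
  Cfsg.Agent.Nodes.RGDFoldSL

universe u v w

variable {D : ChevalleyDatum} {l : ℕ} {M : CoxeterMatrix (Fin l)} (hp : IsType D l M) {K : Type u} [Field K]

include hp

/-- the homomorphism `SL₂(K) → D(K)` of a node -/
theorem range_chev (i : Fin l) : ∃ φ : Matrix.SpecialLinearGroup (Fin 2) K →* ↥(D.group K),
    φ.range = (XV D l K (sr i)).subgroupOf (D.group K) ⊔ (XV D l K (-sr i)).subgroupOf (D.group K) := by
  have hs : ∀ j : Fin l, D.simple j < D.nroots := fun j => simple_lt hp.inList (lt_rank hp j)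
  have hle : ∀ j : Fin l, D.rootSubgroup K (D.simple j) ⊔ D.rootSubgroup K (D.neg (D.simple j)) ≤ D.group K := by
    intro j
    rw [← XV_sr hp, ← XV_neg_sr hp]
    exact sup_le (XV_le_group hp _) (XV_le_group hp _)
  have hr : (psi hp.inList K (D.simple i)).range = D.rootSubgroup K (D.simple i) ⊔ D.rootSubgroup K (D.neg (D.simple i)) := by
    apply le_antisymm
    · rintro _ ⟨g, rfl⟩
      exact psi_mem hp.inList (hs i) g
    · refine sup_le ?_ ?_
      · intro g hg
        obtain ⟨t, rfl⟩ := (mem_rootSubgroup_iff hp.inList _ g).1 hg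
        exact ⟨ChevalleyStructure.SL2Hom.up t, psi_up hp.inList (hs i) t⟩
      · intro g hg
        obtain ⟨t, rfl⟩ := (mem_rootSubgroup_iff hp.inList _ g).1 hg
        exact ⟨ChevalleyStructure.SL2Hom.lo t, psi_lo hp.inList (hs i) t⟩
  refine ⟨(psi hp.inList K (D.simple i)).codRestrict (D.group K) fun g => hle i (psi_mem hp.inList (hs i) g), ?_⟩
  rw [← Subgroup.subgroupOf_sup (XV_le_group hp _) (XV_le_group hp _), XV_sr hp, XV_neg_sr hp, ← hr]
  ext g
  rw [Subgroup.mem_subgroupOf]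
  constructor
  · rintro ⟨x, rfl⟩
    exact ⟨x, rfl⟩
  · rintro ⟨x, hx⟩
    exact ⟨x, Subtype.ext hx⟩

theorem solvable_diag : Group.IsSolvable ↥((D.diagonalSubgroup K).subgroupOf (D.group K)) := by
  refine Group.isSolvable_of_comm fun a b => ?_
  apply Subtype.ext
  apply Subtype.ext
  refine ChevalleyStructure.HDiag.mul_comm_of_mem D ?_ (Subgroup.mem_subgroupOf.1 a.2) (Subgroup.mem_subgroupOf.1 b.2)
  have := hp.inList
  exact this

end Cfsg.Agent.H1.RowChev

namespace Cfsg.Agent.H1.RowChev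

open Cfsg Cfsg.Lie
open CoxeterSystem Cfsg.Agent.Tits.Roots Cfsg.Agent.H1.RgdRow Cfsg.Agent.H1.RankTwo Cfsg.Agent.H1.RowExc
open Cfsg.Agent.Nodes.RGDChev

universe u v w

variable {D : ChevalleyDatum} {M : CoxeterMatrix (Fin 2)} {K : Type u} [Field K] [Fintype K] [CharP K 2]

theorem rowL_chev (hp : IsType D 2 M) : RowL (fun _ : Fin 2 => Matrix.SpecialLinearGroup (Fin 2) K) ↥(D.group K) := by
  have : Finite M.Group := finite_W hp M.toCoxeterSystem
  choose φ hφ using range_chev hp (K := K)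
  exact rowL_sl (F := fun _ => K) (Cfsg.Agent.KFacts.RgdFiltChev.filt (K := K) hp M.toCoxeterSystem 2)
    (G1_eq_top hp M.toCoxeterSystem) (solvable_diag hp) φ hφ

/-- **row `PSp₄(q)`, `q` even** -/
theorem row_pSp {G : Type v} [Group G] [Finite G] (e : G ≃* PSp 2 K) :
    RowL (fun _ : Fin 2 => Matrix.SpecialLinearGroup (Fin 2) K) G := by
  obtain ⟨f⟩ := ChevalleyStructure.B2Sp4.chevB2_equiv_PSp K
  exact RowL.congr (e.trans f.symm) (rowL_chev (D := chevB2) (M := CoxeterMatrix.B 2) (by simp [IsType, typeList]))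

end Cfsg.Agent.H1.RowChev
end

-- part: H1/RowU
section
prune_inst 0x313041304522120000000586310004623e0000900063000041a000440688ed61800227600c0011101802a20000010060004c0010004000000400000000050000000042068348a000040008001884400000000000000000000000000000000000000000000
set_option linter.all false
open scoped Cfsg.Agent.FastGrp

-- part: H1/WittRow
section
/-!
# Models of Witt frames of index 2, characteristic 2: `ℒ(G, T)` (helper1)
-/

set_option autoImplicit false
set_option linter.unusedSectionVars false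

namespace Cfsg.Agent.H1.WittRow

open Cfsg.Agent.ChevalleyStructure.CoxeterGeom Cfsg.Agent.Tits.Roots Cfsg.Agent.Nodes.TypeC
open Cfsg.Agent.Nodes.Comb Cfsg.Agent.Nodes.Reps Cfsg.Agent.Nodes.WittRoot Cfsg.Agent.Nodes.BNOf
open Cfsg.Agent.TitsThree Cfsg.Agent.TitsThree.Siegel Cfsg.Agent.TitsThree.WittFrame Cfsg.Agent.TitsThree.WittWeyl
open Cfsg.Agent.TitsThree.FrameCN
open Cfsg.Agent.Nodes.WittRGD (Tor nn nn_mem_sup)
open Cfsg.Agent.Nodes.WittAll (AmbT nn_mem)
open Cfsg.Agent.KFacts.Mult.WittW Cfsg.Agent.KFacts.Mult.WittT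
open Cfsg.Agent.H1.WittPerf Cfsg.Agent.H1.QsNode Cfsg.Agent.H1.RgdRow
open scoped commutatorElement

universe u v w

variable {F : Type*} [Field F] {V : Type*} [AddCommGroup V] [Module F V] {H : HForm F V}
  {Fr : Frame H (Fin 2)} {K : Type v} [Group K] (M : Model Fr K)

theorem fin_two_cases {J : Set (Fin 2)} (hJ : J ≠ Set.univ) : J = ∅ ∨ ∃ i, J = {i} := by
  by_cases h0 : J = ∅
  · exact Or.inl h0
  right
  obtain ⟨k, hk⟩ : ∃ k, k ∉ J := by
    by_contra h4
    push Not at h4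
    exact hJ (Set.eq_univ_iff_forall.2 h4)
  obtain ⟨j, hj⟩ := Set.nonempty_iff_ne_empty.2 h0
  refine ⟨j, Set.eq_singleton_iff_unique_mem.2 ⟨hj, fun l hl => ?_⟩⟩
  have h1 : j ≠ k := fun h5 => hk (h5 ▸ hj)
  have h2 : l ≠ k := fun h5 => hk (h5 ▸ hl)
  revert h1 h2
  clear hj hk hl
  revert j k l
  decide

/-- the preimage of a subgroup of `K` -/
def pre (D : Subgroup K) : Subgroup (V ≃ₗ[F] V) := (D.comap M.φ).map M.I.subtype

theorem mem_pre {D : Subgroup K} {g : V ≃ₗ[F] V} (hg : g ∈ M.I) : g ∈ pre M D ↔ M.φ ⟨g, hg⟩ ∈ D := by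
  constructor
  · rintro ⟨⟨g', hg'⟩, h1, h2⟩
    have : g' = g := h2
    subst this
    exact h1
  · intro h1
    exact ⟨⟨g, hg⟩, h1, rfl⟩

theorem le_pre_iff {D : Subgroup K} {x : Fin 2 → ℤ} (hx : rg Fr x ≤ M.I) :
    rg Fr x ≤ pre M D ↔ Cfsg.Agent.Nodes.WittModel.X M x ≤ D := by
  constructor
  · rintro h _ ⟨g, hg, rfl⟩
    exact (mem_pre M g.2).1 (h (Subgroup.mem_subgroupOf.1 hg))
  · intro h g hg
    exact (mem_pre M (hx hg)).2 (h (Cfsg.Agent.Nodes.WittModel.mem_X_of M (hx hg) hg))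

theorem pre_comm {D : Subgroup K} : ⁅pre M D, pre M D⁆ ≤ pre M ⁅D, D⁆ := by
  unfold pre
  rw [← Subgroup.map_commutator]
  refine Subgroup.map_mono ?_
  rw [← Subgroup.map_le_iff_le_comap, Subgroup.map_commutator]
  exact Subgroup.commutator_mono (Subgroup.map_comap_le _ _) (Subgroup.map_comap_le _ _)

theorem X_le_comm {D : Subgroup K} {x : Fin 2 → ℤ} (hx : rg Fr x ≤ M.I) (h : rg Fr x ≤ ⁅pre M D, pre M D⁆) :
    Cfsg.Agent.Nodes.WittModel.X M x ≤ ⁅D, D⁆ :=
  (le_pre_iff M hx).1 (h.trans (pre_comm M))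

variable [Finite V] [CharP F 2]

/-- the node `i` : the root groups lie in the commutator subgroup -/
theorem self_comm (hA : AmbT Fr 2 M.I) {q : Fr.Adm} (hq : q.c ≠ 0) {t : F} (ht : t ≠ 0) (ht1 : t ≠ 1) (hσ : H.σ t = t)
    (i : Fin 2) {D : Subgroup K} (h1 : Cfsg.Agent.Nodes.WittModel.X M (sr i) ≤ D)
    (h2 : Cfsg.Agent.Nodes.WittModel.X M (-sr i) ≤ D) :
    Cfsg.Agent.Nodes.WittModel.X M (sr i) ≤ ⁅D, D⁆ ∧ Cfsg.Agent.Nodes.WittModel.X M (-sr i) ≤ ⁅D, D⁆ := by
  have k1 := (le_pre_iff M (hA.rg_le _)).2 h1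
  have k2 := (le_pre_iff M (hA.rg_le _)).2 h2
  suffices hs : rg Fr (sr i) ≤ ⁅pre M D, pre M D⁆ ∧ rg Fr (-sr i) ≤ ⁅pre M D, pre M D⁆ from
    ⟨X_le_comm M (hA.rg_le _) hs.1, X_le_comm M (hA.rg_le _) hs.2⟩
  fin_cases i
  · rw [Fin.zero_eta, rg_sr_zero] at k1
    rw [Fin.zero_eta, rg_neg_sr_zero] at k2
    rw [Fin.zero_eta, rg_sr_zero, rg_neg_sr_zero]
    exact zero_self k1 k2 ht ht1 hσ
  · rw [Fin.mk_one, rg_sr_one] at k1
    rw [Fin.mk_one, rg_neg_sr_one] at k2
    rw [Fin.mk_one, rg_sr_one, rg_neg_sr_one]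
    exact one_comm hA k1 k2 hq ht (by rw [hσ]; exact sq_ne ht1)

/-- the root `e₀ + e₁` -/
theorem rg_sum : rg Fr ![1, 1] = XG Fr p0 p1 := by
  rw [rg_eq Fr (a := p0) (b := p1) (by unfold Ok; simp)]
  · exact PG_ne Fr (a := p0) (b := p1) (by decide)
  · ext k
    (revert k; simp only [ee, Fin.sum_univ_two, bt_apply, wt_apply, _root_.Fin.forall_fin_succ, _root_.zsmul_eq_mul, _root_.Finset.sum_apply, _root_.Pi.mul_apply, _root_.Pi.intCast_apply, _root_.Int.cast_eq, _root_.Order.lt_two_iff, _root_.add_le_iff_nonpos_left, _root_.nonpos_iff_eq_zero, _root_.Fin.val_eq_zero_iff, Fin.isValue, Int.reduceNeg, _root_.mul_ite, _root_.mul_one, _root_.mul_neg, _root_.MulZeroClass.mul_zero, ↓reduceIte, _root_.Fin.coe_ofNat_eq_mod, _root_.Nat.zero_mod, _root_.Matrix.cons_val_zero, _root_.zero_add, _root_.one_ne_zero, _root_.Nat.mod_succ, _root_.Matrix.cons_val_one, _root_.Matrix.cons_val_fin_one, _root_.one_mul, _root_.Pi.add_apply, _root_.zero_ne_one, _root_.add_zero,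 _root_.Fin.succ_ne_zero, _root_.Fin.val_succ, _root_.Fin.val_eq_zero, Int.reduceAdd, _root_.left_eq_ite_iff, _root_.imp_false, _root_.Decidable.not_not, _root_.Fin.succ_zero_eq_one, _root_.IsEmpty.forall_iff, _root_.and_self])

/-- the root `2e₀` -/
theorem rg_two : rg Fr ![2, 1] = ZG Fr p0 := by
  rw [rg_eq Fr (a := p0) (b := p0) (by unfold Ok; simp)]
  · exact PG_self Fr p0
  · ext k
    (revert k; simp only [ee, Fin.sum_univ_two, bt_apply, wt_apply, _root_.Fin.forall_fin_succ, _root_.zsmul_eq_mul, _root_.Finset.sum_apply, _root_.Pi.mul_apply, _root_.Pi.intCast_apply, _root_.Int.cast_eq, _root_.Order.lt_two_iff, _root_.add_le_iff_nonpos_left, _root_.nonpos_iff_eq_zero, _root_.Fin.val_eq_zero_iff, Fin.isValue, Int.reduceNeg, _root_.mul_ite, _root_.mul_one, _root_.mul_neg, _root_.MulZeroClass.mul_zero, ↓reduceIte, _root_.Fin.coe_ofNat_eq_mod, _root_.Nat.zero_mod, _root_.Matrix.cons_val_zero, _root_.zero_add, _root_.one_ne_zero, _root_.Nat.mod_succ,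 _root_.Matrix.cons_val_one, _root_.Matrix.cons_val_fin_one, _root_.one_mul, _root_.Pi.add_apply, _root_.zero_ne_one, _root_.add_zero, Int.reduceAdd, _root_.Fin.succ_ne_zero, _root_.Fin.val_succ, _root_.Fin.val_eq_zero, _root_.neg_add_cancel, _root_.implies_true, _root_.and_self])

theorem pos_sum {W : Type*} [Group W] (cs : CoxeterSystem (CoxeterMatrix.B 2) W) :
    (![1, 1] : Fin 2 → ℤ) ∈ RGD.Pos cs (isCartan 2) := by
  refine ⟨(isRoot_iff (cs := cs)).2 ⟨p0, p1, by unfold Ok; simp, ?_⟩, ?_⟩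
  · ext k
    (revert k; simp only [ee, Fin.sum_univ_two, bt_apply, wt_apply, _root_.Fin.forall_fin_succ, _root_.zsmul_eq_mul, _root_.Finset.sum_apply, _root_.Pi.mul_apply, _root_.Pi.intCast_apply, _root_.Int.cast_eq, _root_.Order.lt_two_iff, _root_.add_le_iff_nonpos_left, _root_.nonpos_iff_eq_zero, _root_.Fin.val_eq_zero_iff, Fin.isValue, Int.reduceNeg, _root_.mul_ite, _root_.mul_one, _root_.mul_neg, _root_.MulZeroClass.mul_zero, ↓reduceIte, _root_.Fin.coe_ofNat_eq_mod, _root_.Nat.zero_mod, _root_.Matrix.cons_val_zero, _root_.zero_add, _root_.one_ne_zero, _root_.Nat.mod_succ, _root_.Matrix.cons_val_one, _root_.Matrix.cons_val_fin_one, _root_.one_mul, _root_.Pi.add_apply, _root_.zero_ne_one, _root_.add_zero, _root_.Fin.succ_ne_zero, _root_.Fin.val_succ, _root_.Fin.val_eq_zero, Int.reduceAdd, _root_.left_eq_ite_iff, _root_.imp_false, _root_.Decidable.not_not, _root_.Fin.succ_zero_eq_one, _root_.IsEmpty.forall_iff, _root_.and_self])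
  · intro k
    (revert k; simp only [_root_.Fin.forall_fin_succ, _root_.Pi.zero_apply, Fin.isValue, _root_.Matrix.cons_val_zero, _root_.zero_le_one, _root_.Matrix.cons_val_succ, _root_.Matrix.cons_val_fin_one, _root_.implies_true, _root_.and_self])

theorem pos_two {W : Type*} [Group W] (cs : CoxeterSystem (CoxeterMatrix.B 2) W) :
    (![2, 1] : Fin 2 → ℤ) ∈ RGD.Pos cs (isCartan 2) := by
  refine ⟨(isRoot_iff (cs := cs)).2 ⟨p0, p0, by unfold Ok; simp, ?_⟩, ?_⟩
  · ext k
    (revert k; simp only [ee, Fin.sum_univ_two, bt_apply, wt_apply, _root_.Fin.forall_fin_succ, _root_.zsmul_eq_mul, _root_.Finset.sum_apply, _root_.Pi.mul_apply, _root_.Pi.intCast_apply, _root_.Int.cast_eq, _root_.Order.lt_two_iff, _root_.add_le_iff_nonpos_left, _root_.nonpos_iff_eq_zero, _root_.Fin.val_eq_zero_iff, Fin.isValue, Int.reduceNeg, _root_.mul_ite, _root_.mul_one, _root_.mul_neg, _root_.MulZeroClass.mul_zero, ↓reduceIte, _root_.Fin.coe_ofNat_eq_mod, _root_.Nat.zero_mod,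 _root_.Matrix.cons_val_zero, _root_.zero_add, _root_.one_ne_zero, _root_.Nat.mod_succ, _root_.Matrix.cons_val_one, _root_.Matrix.cons_val_fin_one, _root_.one_mul, _root_.Pi.add_apply, _root_.zero_ne_one, _root_.add_zero, Int.reduceAdd, _root_.Fin.succ_ne_zero, _root_.Fin.val_succ, _root_.Fin.val_eq_zero, _root_.neg_add_cancel, _root_.implies_true, _root_.and_self])
  · intro k
    (revert k; simp only [_root_.Fin.forall_fin_succ, _root_.Pi.zero_apply, Fin.isValue, _root_.Matrix.cons_val_zero, _root_.Nat.ofNat_nonneg, _root_.Matrix.cons_val_succ, _root_.Matrix.cons_val_fin_one, _root_.zero_le_one, _root_.implies_true, _root_.and_self])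

theorem pos_sr {W : Type*} [Group W] (cs : CoxeterSystem (CoxeterMatrix.B 2) W) (i : Fin 2) :
    sr i ∈ RGD.Pos cs (isCartan 2) := ⟨isRoot_sr cs _ i, by
  intro k
  by_cases h : k = i
  · rw [h, sr_self]; exact zero_le_one
  · rw [sr_ne h]; exact le_rfl⟩

/-- everything lies in the commutator subgroup -/
theorem all_comm {W : Type*} [Group W] (cs : CoxeterSystem (CoxeterMatrix.B 2) W) (hA : AmbT Fr 2 M.I) {q : Fr.Adm}
    (hq : q.c ≠ 0) {t : F} (ht : t ≠ 0) (ht1 : t ≠ 1) (hσ : H.σ t = t) (i : Fin 2) {D : Subgroup K}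
    (h1 : RGD.Sup (Cfsg.Agent.Nodes.WittModel.X M) (RGD.Pos cs (isCartan 2)) ≤ D)
    (h2 : Cfsg.Agent.Nodes.WittModel.X M (-sr i) ≤ D) :
    RGD.Sup (Cfsg.Agent.Nodes.WittModel.X M) (RGD.Pos cs (isCartan 2)) ≤ ⁅D, D⁆ := by
  have hpre : ∀ x ∈ RGD.Pos cs (isCartan 2), rg Fr x ≤ pre M D := fun x hx =>
    (le_pre_iff M (hA.rg_le _)).2 ((RGD.le_Sup hx).trans h1)
  have a1 := hpre _ (pos_sr cs 0)
  have a2 := hpre _ (pos_sr cs 1)
  have a3 := hpre _ (pos_sum cs)
  have a4 := hpre _ (pos_two cs)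
  rw [rg_sr_zero] at a1
  rw [rg_sr_one] at a2
  rw [rg_sum] at a3
  rw [rg_two] at a4
  have k2 := (le_pre_iff M (hA.rg_le _)).2 h2
  have key : XG Fr p0 n1 ≤ ⁅pre M D, pre M D⁆ ∧ ZG Fr p1 ≤ ⁅pre M D, pre M D⁆ ∧ XG Fr p0 p1 ≤ ⁅pre M D, pre M D⁆ ∧
      ZG Fr p0 ≤ ⁅pre M D, pre M D⁆ := by
    fin_cases i
    · rw [Fin.zero_eta, rg_neg_sr_zero] at k2
      obtain ⟨b1, b2, b3⟩ := zero_all a1 k2 a2 a3 a4 ht ht1 hσ hq
      exact ⟨(zero_self a1 k2 ht ht1 hσ).1, b1, b2, b3⟩
    · rw [Fin.mk_one, rg_neg_sr_one] at k2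
      have ha1 : t * H.σ t ≠ 1 := by rw [hσ]; exact sq_ne ht1
      obtain ⟨b1, b2, b3⟩ := one_all hA a2 k2 a1 a3 hq ht ha1
      exact ⟨b1, (one_comm hA a2 k2 hq ht ha1).1, b2, b3⟩
  refine RGD.Sup_le fun x hx => X_le_comm M (hA.rg_le _) ?_
  rcases pos_cases (Fr := Fr) cs hx.1 hx.2 with e | e | e | e
  · rw [e]; exact key.1
  · rw [e]; exact key.2.1
  · rw [e]; exact key.2.2.1
  · rw [e]; exact key.2.2.2

theorem nn_mem_sup' (hA : AmbT Fr 2 M.I) (q : Fr.Adm) (i : Fin 2) :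
    M.φ ⟨_root_.Cfsg.Agent.Nodes.WittRGD.nn Fr q i, nn_mem hA q i⟩ ∈ Cfsg.Agent.Nodes.WittModel.X M (sr i) ⊔ Cfsg.Agent.Nodes.WittModel.X M (-sr i) := by
  unfold Cfsg.Agent.Nodes.WittModel.X
  rw [← Subgroup.map_sup, ← Subgroup.subgroupOf_sup (hA.rg_le _) (hA.rg_le _)]
  exact Subgroup.mem_map_of_mem _ (Subgroup.mem_subgroupOf.2 (nn_mem_sup q i))

open Cfsg.Agent.KFacts.RgdBorelTits Cfsg.Agent.Nodes.RGDLib Cfsg.Agent.KFacts.RgdFilt Cfsg.Agent.KFacts.RgdFiltWitt Cfsg.Agent.Nodes.WittAll in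
/-- **The row of a model of a Witt frame of index two.** -/
theorem row_model (hA : AmbT Fr 2 M.I) {q : Fr.Adm} (hq : q.c ≠ 0) {t : F} (ht : t ≠ 0) (ht1 : t ≠ 1)
    (hσ : H.σ t = t) (hFT : ∀ (T : Subgroup K), Odd (Nat.card T) → Group.IsSolvable T) [Finite K] :
    RowL (fun i : Fin 2 => ↥(Cfsg.Agent.Nodes.WittModel.X M (sr i) ⊔ Cfsg.Agent.Nodes.WittModel.X M (-sr i))) K ∧
      RowT K := by
  have h2p : Fact (Nat.Prime 2) := ⟨Nat.prime_two⟩
  have : Finite (V ≃ₗ[F] V) := Finite.of_injective (fun g : V ≃ₗ[F] V => (g : V → V)) DFunLike.coe_injective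
  have hF : Filt (rgdC hA hq (CoxeterMatrix.B 2).toCoxeterSystem) (F2 (zr Fr) (rg Fr)) :=
    (two hA (T := Nodes.WittRGD.Tor Fr M.I) (fun i => ⟨nn_mem hA q i, Nodes.WittRGD.mono_nn hq i⟩)
      (fun _ ht => ⟨ht.1, ht.2⟩) _).filt
  have hF1 := filt_restrict hF M.I (fun x _ => hA.rg_le x)
    (n' := fun i => (⟨Nodes.WittRGD.nn Fr q i, nn_mem hA q i⟩ : M.I)) (fun _ => rfl)
    (rgd_restrict (rgdC hA hq _) M.I (fun x _ => hA.rg_le x) (fun i => nn_mem hA q i))
  have hF2 := filt_map hF1 M.φ (rgdC_model M hA hq (CoxeterMatrix.B 2).toCoxeterSystem)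
  have hW : Finite (CoxeterMatrix.B 2).Group := finite_W (CoxeterMatrix.B 2).toCoxeterSystem
  have R := rgdC_model M hA hq (CoxeterMatrix.B 2).toCoxeterSystem
  have hG := Nodes.WittModel.G1_eq_top M (by norm_num) (CoxeterMatrix.B 2).toCoxeterSystem
  have hT : Group.IsSolvable (Nodes.WittModel.T M) := hFT _ (by
    have := R.tcop
    exact Nat.coprime_two_right.1 this)
  have hL : RowL (fun i : Fin 2 => ↥(Cfsg.Agent.Nodes.WittModel.X M (sr i) ⊔ Cfsg.Agent.Nodes.WittModel.X M (-sr i))) K := by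
    refine rowL_of_rgd hF2 hG fun J hJ => ?_
    rcases fin_two_cases hJ with rfl | ⟨i, rfl⟩
    · left
      rw [RankTwo.LJ_empty]
      exact hT
    · right
      obtain ⟨k1, k2⟩ := self_comm M hA hq ht ht1 hσ i (D := Nodes.WittModel.X M (sr i) ⊔ Nodes.WittModel.X M (-sr i))
        le_sup_left le_sup_right
      exact ⟨_, nodeD_qs R hT i (nn_mem_sup' M hA q i) k1 k2, i, ⟨MulEquiv.refl _⟩⟩
  refine ⟨hL, rowT_of_rgd hF2 hG hL fun J _ => perfJ_of_nodes hT (fun i => ⟨?_, ?_⟩) J⟩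
  · exact all_comm M _ hA hq ht ht1 hσ i le_sup_left le_sup_right
  · exact (self_comm M hA hq ht ht1 hσ i ((RGD.le_Sup (pos_sr _ i)).trans le_sup_left) le_sup_right).2

end Cfsg.Agent.H1.WittRow
end

-- part: H1/RowU
section
/-!
# `U₄(q)`, `U₅(q)`, `PSp₄(q)`, `q ≥ 4` even: `ℒ(G, T)` (helper1)
-/

set_option autoImplicit false
set_option linter.unusedSectionVars false

namespace Cfsg.Agent.H1.RowU

open Cfsg
open Cfsg.Agent.ChevalleyStructure.CoxeterGeom Cfsg.Agent.Tits.Roots Cfsg.Agent.Nodes.TypeC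
open Cfsg.Agent.Nodes.Comb Cfsg.Agent.Nodes.Reps Cfsg.Agent.Nodes.WittRoot Cfsg.Agent.Nodes.BNOf
open Cfsg.Agent.TitsThree Cfsg.Agent.TitsThree.Siegel Cfsg.Agent.TitsThree.WittFrame Cfsg.Agent.TitsThree.WittWeyl
open Cfsg.Agent.TitsThree.FrameCN
open Cfsg.Agent.Nodes.WittU Cfsg.Agent.Nodes.WittInst
open Cfsg.Agent.Nodes.WittAll (AmbT nn_mem)
open Cfsg.Agent.H1.WittPerf Cfsg.Agent.H1.QsNode Cfsg.Agent.H1.RgdRow Cfsg.Agent.H1.WittRow

universe u v w

/-- a scalar fixed by `x ↦ x ^ q`, different from 0 and 1 -/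
theorem exists_fixed {F : Type*} [Field F] [Fintype F] {q : ℕ} (hF : Fintype.card F = q ^ 2) (hq : 3 ≤ q) :
    ∃ t : F, t ≠ 0 ∧ t ≠ 1 ∧ t ^ q = t := by
  classical
  obtain ⟨g, hg⟩ := IsCyclic.exists_generator (α := Fˣ)
  have ho : orderOf g = q ^ 2 - 1 := by
    rw [orderOf_eq_card_of_forall_mem_zpowers hg, Nat.card_units, Nat.card_eq_fintype_card, hF]
  have e : (q + 1) * (q - 1) = q ^ 2 - 1 := by
    obtain ⟨k, rfl⟩ : ∃ k, q = k + 1 := ⟨q - 1, by omega⟩
    simp only [Nat.add_sub_cancel]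
    have : (k + 1) ^ 2 = (k + 1 + 1) * k + 1 := by ring
    rw [this, Nat.add_sub_cancel]
  refine ⟨((g ^ (q + 1) : Fˣ) : F), Units.ne_zero _, ?_, ?_⟩
  · intro h
    have h1 : g ^ (q + 1) = 1 := Units.ext h
    have h2 := orderOf_dvd_of_pow_eq_one h1
    rw [ho, ← e] at h2
    have h3 := Nat.le_of_dvd (by omega) h2
    have h4 : (q + 1) * 2 ≤ (q + 1) * (q - 1) := Nat.mul_le_mul_left _ (by omega)
    omega
  · rw [← Units.val_pow_eq_pow_val]
    congr 1
    have h1 : (g ^ (q + 1)) ^ (q - 1) = 1 := by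
      rw [← pow_mul, e, ← ho, pow_orderOf_eq_one]
    obtain ⟨k, rfl⟩ : ∃ k, q = k + 1 := ⟨q - 1, by omega⟩
    rw [Nat.add_sub_cancel] at h1
    rw [pow_succ, h1, one_mul]

/-- the elements of 2-power order of `G` have order at most 2 -/
def SqOne (G : Type*) [Group G] : Prop := ∀ x : G, (∃ k : ℕ, x ^ 2 ^ k = 1) → x ^ 2 = 1

section sq

open CoxeterSystem Cfsg.Agent.Tits.Core Cfsg.Agent.Tits.RootComb Cfsg.Agent.Tits.Exchange
  Cfsg.Agent.Nodes.StabComb Cfsg.Agent.Nodes.Bruhat Cfsg.Agent.Nodes.OppDec Cfsg.Agent.Nodes.LeviDec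
  Cfsg.Agent.H1.RankTwo Cfsg.Agent.GenExc Cfsg.Agent.Nodes.Sub Cfsg.Agent.Nodes.SubComb

variable {I W Y : Type*} [Fintype I] [DecidableEq I] [Group W] [Group Y] {M : CoxeterMatrix I}
  {cs : CoxeterSystem M W} {A : I → I → ℤ} {h : IsCartan M A} {T : Subgroup Y} {n : I → Y}
  {X : (I → ℤ) → Subgroup Y}

theorem sqOne_node [Finite W] [Finite Y] (R : RGD cs h 2 T n X) (i : I) (hn : n i ∈ X (sr i) ⊔ X (-sr i))
    (hsq : ∀ x ∈ X (sr i), x ^ 2 = 1) : SqOne ↥(X (sr i) ⊔ X (-sr i)) := by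
  have h2p : Fact (Nat.Prime 2) := ⟨Nat.prime_two⟩
  have hfin : Finite (leviMatrix (one i) M).Group := finite_WL (cs := cs) (h := h) (one i)
  have hn' : ∀ j, n ((one i) j) ∈ HL cs h X (one i) := fun _ => by rw [HL_one]; exact hn
  have hR := rgd_HL (one i) R hn'
  obtain ⟨S, hS⟩ := exists_sylow hR (Cfsg.Agent.KFacts.RgdFilt.GG_eq_top (G1_HL_top (one i)))
  have hle : (S : Subgroup ↥(HL cs h X (one i))) ≤ (X (sr i)).subgroupOf (HL cs h X (one i)) := by
    rw [hS]
    refine RGD.Sup_le fun c hc => ?_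
    have h1 := iota_mem_LR (cs := cs) (h := h) (one i) hc.1
    have h2 : iota (fun j => sr ((one i) j)) c ∈ RootsJ cs h {i} :=
      ⟨h1.1, fun k hk => h1.2 k fun _ he => hk he.symm⟩
    rcases rootsJ_single i h2 with e | e
    · rw [e]
    · exfalso
      have h3 : iota (fun j => sr ((one i) j)) c i = c () := iota_levi_apply (one i) c ()
      have h4 : 0 ≤ c () := hc.2 ()
      rw [e, Pi.neg_apply, sr_self] at h3
      omega
  have key : SqOne ↥(HL cs h X (one i)) := by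
    rintro x ⟨k, hk⟩
    have hxp : IsPGroup 2 (Subgroup.zpowers x) := by
      rintro ⟨y, hy⟩
      obtain ⟨m, rfl⟩ := Subgroup.mem_zpowers_iff.1 hy
      refine ⟨k, Subtype.ext ?_⟩
      change (x ^ m) ^ 2 ^ k = 1
      rw [← zpow_natCast, ← zpow_mul, mul_comm, zpow_mul, zpow_natCast, hk, one_zpow]
    obtain ⟨P, hP⟩ := hxp.exists_le_sylow
    obtain ⟨g, hg⟩ := MulAction.exists_smul_eq ↥(HL cs h X (one i)) P S
    have h1 : g * x * g⁻¹ ∈ (S : Subgroup ↥(HL cs h X (one i))) := by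
      rw [← hg, Sylow.coe_subgroup_smul]
      exact ⟨x, hP (Subgroup.mem_zpowers x), rfl⟩
    have h2 : (g * x * g⁻¹) ^ 2 = 1 := by
      apply Subtype.ext
      exact hsq _ (Subgroup.mem_subgroupOf.1 (hle h1))
    have h3 : (g * x * g⁻¹) ^ 2 = g * x ^ 2 * g⁻¹ := conj_pow
    rw [h3] at h2
    have h4 : x ^ 2 = g⁻¹ * (g * x ^ 2 * g⁻¹) * g := by group
    rw [h4, h2]
    group
  rw [HL_one] at key
  exact key

end sq

section U

open Cfsg.Agent.TitsThree.WBridge Cfsg.Agent.TitsThree.KSideU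

variable {F : Type w} [Field F] [Fintype F] [CharP F 2] {q : ℕ} (hF : Fintype.card F = q ^ 2) (hq : 3 ≤ q)

include hF hq in
/-- **row `U₄(q)`** -/
theorem row_model_four (hFT : ∀ (T : Subgroup (PSU 4 F q)), Odd (Nat.card T) → Group.IsSolvable T) :
    ∃ (Q : Fin 2 → Subgroup (PSU 4 F q)), (∀ i, SqOne (Q i)) ∧ RowL (fun i : Fin 2 => ↥(Q i)) (PSU 4 F q) ∧
      RowT (PSU 4 F q) := by
  have h2p : Fact (Nat.Prime 2) := ⟨Nat.prime_two⟩
  obtain ⟨W, hW⟩ := exists_wframe_even hF (m := 2) (N := 4) rfl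
  obtain ⟨p0, hp0, -⟩ := exists_adm hF W
  obtain ⟨t, ht0, ht1, ht⟩ := exists_fixed hF hq
  have : Finite (PSU 4 F q) := Quotient.finite _
  have hA := AmbT.of_amb (amb_U hF W) 2
  set M := KInstU.model hF (by norm_num : 3 ≤ 4) W with hM
  obtain ⟨h1, h2⟩ := row_model M hA hp0 ht0 ht1 (by rw [HU_σ]; exact ht) hFT
  refine ⟨fun i => Nodes.WittModel.X M (sr i) ⊔ Nodes.WittModel.X M (-sr i), fun i => ?_, h1, h2⟩
  have hWf : Finite (CoxeterMatrix.B 2).Group := finite_W (CoxeterMatrix.B 2).toCoxeterSystem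
  refine sqOne_node (Nodes.WittAll.rgdC_model M hA hp0 (CoxeterMatrix.B 2).toCoxeterSystem) i (nn_mem_sup' M hA p0 i) ?_
  rintro _ ⟨g, hg, rfl⟩
  rw [← map_pow]
  have h3 : g ^ 2 = 1 := by
    apply Subtype.ext
    have hg' : (g : (Fin 4 → F) ≃ₗ[F] (Fin 4 → F)) ∈ rg (toFrame W) (sr i) := Subgroup.mem_subgroupOf.1 hg
    change (g : (Fin 4 → F) ≃ₗ[F] (Fin 4 → F)) ^ 2 = 1
    fin_cases i
    · rw [Fin.zero_eta, rg_sr_zero] at hg'
      obtain ⟨t, ht⟩ := hg'
      rw [ht, pow_two, ← Frame.X_add, CharTwo.add_self_eq_zero, Frame.X_zero]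
    · rw [Fin.mk_one, rg_sr_one] at hg'
      obtain ⟨p, hp⟩ := hg'
      have hw : p.w = 0 := by
        have h4 : p.w ∈ W.V0 := (toFrame W).ok_mem p.ok
        rw [hW] at h4
        exact (Submodule.mem_bot F).1 h4
      have hpp : p * p = 1 := by
        ext1
        · rw [Frame.Adm.mul_w, hw, add_zero, Frame.Adm.one_w]
        · rw [Frame.Adm.mul_c, hw, HForm.zero_left, mul_zero, sub_zero, CharTwo.add_self_eq_zero, Frame.Adm.one_c]
      rw [hp, pow_two, ← Frame.Z_mul, hpp, Frame.Z_one]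
  rw [h3, map_one]

include hF hq in
/-- **row `U₅(q)`** -/
theorem row_model_five (hFT : ∀ (T : Subgroup (PSU 5 F q)), Odd (Nat.card T) → Group.IsSolvable T) :
    ∃ (Q : Fin 2 → Subgroup (PSU 5 F q)), RowL (fun i : Fin 2 => ↥(Q i)) (PSU 5 F q) ∧ RowT (PSU 5 F q) := by
  have h2p : Fact (Nat.Prime 2) := ⟨Nat.prime_two⟩
  obtain ⟨W, -⟩ := exists_wframe hF (m := 2) (N := 5) (Or.inr rfl)
  obtain ⟨p0, hp0, -⟩ := exists_adm hF W
  obtain ⟨t, ht0, ht1, ht⟩ := exists_fixed hF hq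
  have : Finite (PSU 5 F q) := Quotient.finite _
  have hA := AmbT.of_amb (amb_U hF W) 2
  obtain ⟨h1, h2⟩ := row_model (KInstU.model hF (by norm_num : 3 ≤ 5) W) hA hp0 ht0 ht1 (by rw [HU_σ]; exact ht) hFT
  exact ⟨_, h1, h2⟩

end U

section Sp

variable {F : Type w} [Field F] [Fintype F] [CharP F 2]

/-- `T ≤ L` for `PSp₄(q)` -/
theorem rowT_pSp (h4 : 4 ≤ Fintype.card F) (hFT : ∀ (T : Subgroup (PSp 2 F)), Odd (Nat.card T) → Group.IsSolvable T) :
    RowT (PSp 2 F) := by
  classical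
  have h2p : Fact (Nat.Prime 2) := ⟨Nat.prime_two⟩
  have : Finite (PSp 2 F) := Quotient.finite _
  obtain ⟨t, ht⟩ : ∃ t : F, t ≠ 0 ∧ t ≠ 1 := by
    by_contra h
    push Not at h
    have h1 : (Finset.univ : Finset F) ⊆ {0, 1} := by
      intro x _
      by_cases hx : x = 0
      · simp only [hx, _root_.Finset.mem_insert, _root_.Finset.mem_singleton, _root_.zero_ne_one, _root_.or_false]
      · simp only [h x hx, _root_.Finset.mem_insert, _root_.one_ne_zero, _root_.Finset.mem_singleton, _root_.or_true]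
    have h2 := Finset.card_le_card h1
    rw [Finset.card_univ] at h2
    have h3 : ({0, 1} : Finset F).card ≤ 2 := Finset.card_le_two
    omega
  exact (row_model (KInstSp.model 2 F) (AmbT.of_amb amb_Sp 2) (q := SpIdent.adm 1) one_ne_zero ht.1 ht.2 rfl hFT).2

end Sp

end Cfsg.Agent.H1.RowU
end
end

-- part: H1/RowPSLFive
section
set_option linter.all false
open scoped Cfsg.Agent.FastGrp

/-!
# `L₄(2)`, `L₅(2)`: `ℒ(G, T)` (helper1)
-/

set_option autoImplicit false
set_option linter.unusedSectionVars false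

namespace Cfsg.Agent.H1.RowPSLFive

open Cfsg Matrix
open CoxeterSystem Cfsg.Agent.ChevalleyStructure.CoxeterGeom Cfsg.Agent.Tits.Roots Cfsg.Agent.Tits.Core
  Cfsg.Agent.Tits.RootComb Cfsg.Agent.Tits.Exchange Cfsg.Agent.Nodes.Reps Cfsg.Agent.Nodes.BNOf
  Cfsg.Agent.Nodes.StabComb Cfsg.Agent.Nodes.Bruhat Cfsg.Agent.Nodes.OppDec Cfsg.Agent.Nodes.LeviDec
  Cfsg.Agent.KFacts.RgdBorelTits Cfsg.Agent.KFacts.RgdFilt Cfsg.Agent.H1.Over Cfsg.Agent.H1.RgdRow
  Cfsg.Agent.H1.RankTwo Cfsg.Agent.H1.RowExc Cfsg.Agent.H1.EmbSL Cfsg.Agent.H1.RowPSL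
open Cfsg.Agent.Nodes.RGDTypeA Cfsg.Agent.TitsThree.KSideA Cfsg.Agent.LieClassical.SLGen Cfsg.Agent.Nodes.RootsA
open Cfsg.Agent.LieRecognition.BNCox (cA)

universe u v w

/-- the roots `rtA a b` with support in `J` -/
def Adj {n : ℕ} (J : Finset (Fin n)) (a b : Fin (n + 1)) : Prop := ∀ k, k ∉ J → rtA a b k = 0

instance {n : ℕ} (J : Finset (Fin n)) (a b : Fin (n + 1)) : Decidable (Adj J a b) :=
  inferInstanceAs (Decidable (∀ k, k ∉ J → rtA a b k = 0))

/-- `{a, b} = {i, i + 1}` -/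
def Pr {n : ℕ} (i : Fin n) (a b : Fin (n + 1)) : Prop :=
  (a = i.castSucc ∧ b = i.succ) ∨ (a = i.succ ∧ b = i.castSucc)

instance {n : ℕ} (i : Fin n) (a b : Fin (n + 1)) : Decidable (Pr i a b) :=
  inferInstanceAs (Decidable (_ ∨ _))

/-- the block `s, …, s + m - 1` -/
def Blk {n : ℕ} (s m : ℕ) (a : Fin (n + 1)) : Prop := s ≤ a.val ∧ a.val < s + m

instance {n : ℕ} (s m : ℕ) (a : Fin (n + 1)) : Decidable (Blk s m a) := inferInstanceAs (Decidable (_ ∧ _))

/-- nodes at distance at least 2 -/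
def Far {n : ℕ} (i j : Fin n) : Prop := i.val + 2 ≤ j.val ∨ j.val + 2 ≤ i.val

instance {n : ℕ} (i j : Fin n) : Decidable (Far i j) := inferInstanceAs (Decidable (_ ∨ _))

/-- `J` is solvable -/
def Solv {n : ℕ} (J : Finset (Fin n)) : Prop :=
  ∃ i j : Fin n, (i = j ∨ Far i j) ∧ ∀ a b, a ≠ b → Adj J a b → Pr i a b ∨ Pr j a b

/-- `J` has the block `s, …, s + m - 1` of size at least 3 and otherwise at most one node -/
def Good {n : ℕ} (J : Finset (Fin n)) (s m : ℕ) : Prop :=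
  s + m ≤ n + 1 ∧ (∀ a b, Blk s m a → Blk s m b → Adj J a b) ∧
    ((∀ a b, a ≠ b → Adj J a b → Blk s m a ∧ Blk s m b) ∨
      ∃ i ∈ J, (i.val + 2 ≤ s ∨ s + m ≤ i.val) ∧
        ∀ a b, a ≠ b → Adj J a b → (Blk s m a ∧ Blk s m b) ∨ Pr i a b)

instance {n : ℕ} (J : Finset (Fin n)) : Decidable (Solv J) := by
  unfold Solv
  infer_instance

instance {n : ℕ} (J : Finset (Fin n)) (s m : ℕ) : Decidable (Good J s m) := by
  unfold Good
  infer_instance

theorem comb_four : ∀ J : Finset (Fin 3), J ≠ Finset.univ → Solv J ∨ ∃ s < 2, Good J s 3 := by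
  decide +kernel

theorem comb_five : ∀ J : Finset (Fin 4), J ≠ Finset.univ → Solv J ∨ (∃ s < 3, Good J s 3) ∨ ∃ s < 2, Good J s 4 := by
  decide +kernel

variable {F : Type w} [Field F] [Fintype F] [CharP F 2]

section sl

variable {n : ℕ} {κ κ' : Type} [Fintype κ] [DecidableEq κ] [Nontrivial κ] [Fintype κ'] [DecidableEq κ'] [Nontrivial κ']

theorem T_le_norm (f : κ ↪ Fin (n + 1)) :
    T (Fin (n + 1)) F ≤ Subgroup.normalizer ((emb (F := F) f).range : Set (SpecialLinearGroup (Fin (n + 1)) F)) := by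
  intro t ht
  rw [mem_normalizer_iff_cj, range_emb]
  unfold cj
  rw [Subgroup.map_iSup]
  refine iSup_congr fun p => ?_
  exact (mem_T.1 ht).cj_XX fun h => p.2 (f.injective h)

theorem range_comm (f : κ ↪ Fin (n + 1)) (g : κ' ↪ Fin (n + 1)) (hfg : ∀ a b, f a ≠ g b) :
    (emb (F := F) f).range ≤ Subgroup.centralizer ((emb (F := F) g).range : Set (SpecialLinearGroup (Fin (n + 1)) F)) := by
  rw [range_emb, iSup_le_iff]
  intro p
  rw [Subgroup.le_centralizer_iff, range_emb, iSup_le_iff]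
  intro q x hx
  rw [Subgroup.mem_centralizer_iff]
  intro y hy
  obtain ⟨s, rfl⟩ := hx
  obtain ⟨t, rfl⟩ := hy
  exact tv_commute (hfg _ _) (hfg _ _) t s

/-- the embedding of the block `s, …, s + m - 1` -/
def blkEmb {s m : ℕ} (h : s + m ≤ n + 1) : Fin m ↪ Fin (n + 1) where
  toFun t := ⟨s + t.val, by omega⟩
  inj' a b hab := by
    have := congrArg Fin.val hab
    simp only [add_right_inj] at this
    exact Fin.ext this

theorem blk_blkEmb {s m : ℕ} (h : s + m ≤ n + 1) (t : Fin m) : Blk s m (blkEmb h t) :=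
  ⟨Nat.le_add_right _ _, Nat.add_lt_add_left t.2 s⟩

theorem exists_blkEmb {s m : ℕ} (h : s + m ≤ n + 1) {a : Fin (n + 1)} (ha : Blk s m a) : ∃ t, blkEmb h t = a :=
  ⟨⟨a.val - s, by have := ha.1; have := ha.2; omega⟩, Fin.ext (by
    change s + (a.val - s) = a.val
    have := ha.1
    omega)⟩

theorem XX_le_of_blk {s m : ℕ} (h : s + m ≤ n + 1) [Nontrivial (Fin m)] {a b : Fin (n + 1)} (hab : a ≠ b) (ha : Blk s m a)
    (hb : Blk s m b) : XX F a b ≤ (emb (F := F) (blkEmb h)).range := by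
  obtain ⟨a, rfl⟩ := exists_blkEmb h ha
  obtain ⟨b, rfl⟩ := exists_blkEmb h hb
  rw [range_emb]
  exact le_iSup (fun p : {p : Fin m × Fin m // p.1 ≠ p.2} => XX F (blkEmb h p.1.1) (blkEmb h p.1.2))
    ⟨(a, b), fun e => hab (congrArg _ e)⟩

theorem XX_le_of_pr {i : Fin n} {a b : Fin (n + 1)} (h : Pr i a b) : XX F a b ≤ (emb (F := F) (pairEmb i)).range := by
  rw [range_emb]
  rcases h with ⟨rfl, rfl⟩ | ⟨rfl, rfl⟩
  · exact le_iSup (fun p : {p : Fin 2 × Fin 2 // p.1 ≠ p.2} => XX F (pairEmb i p.1.1) (pairEmb i p.1.2))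
      ⟨(0, 1), by decide⟩
  · exact le_iSup (fun p : {p : Fin 2 × Fin 2 // p.1 ≠ p.2} => XX F (pairEmb i p.1.1) (pairEmb i p.1.2))
      ⟨(1, 0), by decide⟩

end sl

section levi

variable {n : ℕ}

/-- the root groups of `L_{n+1}(F)` -/
abbrev XP (n : ℕ) (F : Type w) [Field F] (x : Fin n → ℤ) : Subgroup (ProjectiveSpecialLinearGroup (Fin (n + 1)) F) :=
  (X F x).map (pr n F)

/-- the torus -/
abbrev TP (n : ℕ) (F : Type w) [Field F] : Subgroup (ProjectiveSpecialLinearGroup (Fin (n + 1)) F) :=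
  (T (Fin (n + 1)) F).map (pr n F)

abbrev LP (F : Type w) [Field F] (J : Finset (Fin n)) : Subgroup (ProjectiveSpecialLinearGroup (Fin (n + 1)) F) :=
  LJ (cA n).toCoxeterSystem (isCartan n) (TP n F) (XP n F) (J : Set (Fin n))

theorem LP_le {J : Finset (Fin n)} {H : Subgroup (SpecialLinearGroup (Fin (n + 1)) F)}
    (hT : T (Fin (n + 1)) F ≤ H) (hH : ∀ a b, a ≠ b → Adj J a b → XX F a b ≤ H) : LP F J ≤ H.map (pr n F) := by
  refine sup_le (Subgroup.map_mono hT) (RGD.Sup_le ?_)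
  rintro x ⟨hx, h0⟩
  obtain ⟨a, b, hab, rfl⟩ := exists_of_isRoot _ _ hx
  rw [XP, X_rtA hab]
  exact Subgroup.map_mono (hH a b hab fun k hk => h0 k (by simpa using hk))

theorem XX_map_le {J : Finset (Fin n)} {a b : Fin (n + 1)} (hab : a ≠ b) (h : Adj J a b) :
    (XX F a b).map (pr n F) ≤ RGD.Sup (XP n F) (RootsJ (cA n).toCoxeterSystem (isCartan n) (J : Set (Fin n))) := by
  rw [← X_rtA hab]
  exact RGD.le_Sup (X := XP n F) ⟨isRoot_rtA _ _ hab, fun k hk => h k (by simpa using hk)⟩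

theorem solvable_T' : Group.IsSolvable ↥(T (Fin (n + 1)) F) :=
  Group.isSolvable_of_comm fun a b => Subtype.ext (mul_comm_T a.2 b.2)

theorem solvable_map {G H : Type*} [Group G] [Group H] (f : G →* H) {K : Subgroup G} (hK : Group.IsSolvable K) :
    Group.IsSolvable ↥(K.map f) :=
  Group.isSolvable_of_surjective (f := f.subgroupMap K) (f.subgroupMap_surjective K)

theorem solvable_le {G : Type*} [Group G] {H K : Subgroup G} (hK : Group.IsSolvable K) (h : H ≤ K) :
    Group.IsSolvable H :=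
  Group.isSolvable_of_isSolvable_injective (f := Subgroup.inclusion h) (Subgroup.inclusion_injective h)

variable (h2 : Fintype.card F = 2)

include h2 in
theorem solvable_range (i : Fin n) : Group.IsSolvable ↥(emb (F := F) (pairEmb i)).range := by
  have h1 : Group.IsSolvable (SpecialLinearGroup (Fin 2) F) := solvable_sl F (by omega)
  exact Group.isSolvable_of_surjective (f := (emb (F := F) (pairEmb i)).rangeRestrict)
    (emb (F := F) (pairEmb i)).rangeRestrict_surjective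

include h2 in
theorem solvable_T_sup (i : Fin n) : Group.IsSolvable ↥(T (Fin (n + 1)) F ⊔ (emb (F := F) (pairEmb i)).range) :=
  isSolvable_sup solvable_T' (solvable_range h2 i) (T_le_norm _)

theorem pairEmb_val (i : Fin n) (a : Fin 2) : (pairEmb i a).val = i.val + a.val := by
  fin_cases a <;> rfl

theorem pair_ne_of_far {i j : Fin n} (h : Far i j) (a b : Fin 2) : pairEmb i a ≠ pairEmb j b := by
  intro e
  have h1 := congrArg Fin.val e
  rw [pairEmb_val, pairEmb_val] at h1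
  have := a.2
  have := b.2
  rcases h with h | h <;> omega

include h2 in
theorem solvable_LP {J : Finset (Fin n)} (hJ : Solv J) : Group.IsSolvable ↥(LP F J) := by
  obtain ⟨i, j, hij, hc⟩ := hJ
  have h1 : LP F J ≤ ((T (Fin (n + 1)) F ⊔ (emb (F := F) (pairEmb i)).range) ⊔
      (emb (F := F) (pairEmb j)).range).map (pr n F) := by
    refine LP_le (le_sup_left.trans le_sup_left) fun a b hab h => ?_
    rcases hc a b hab h with h1 | h1
    · exact ((XX_le_of_pr h1).trans le_sup_right).trans le_sup_left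
    · exact (XX_le_of_pr h1).trans le_sup_right
  refine solvable_le (solvable_map _ (isSolvable_sup (solvable_T_sup h2 i) (solvable_range h2 j) ?_)) h1
  refine sup_le (T_le_norm _) ?_
  rcases hij with rfl | hij
  · exact Subgroup.le_normalizer
  · refine (range_comm _ _ fun a b => pair_ne_of_far hij a b).trans ?_
    exact Subgroup.centralizer_le_normalizer _

include h2 in
theorem eq_one_of_ne {c : F} (hc : c ≠ 0) : c = 1 := by
  classical
  by_contra h1
  have h3 : ({0, 1, c} : Finset F).card ≤ Fintype.card F := Finset.card_le_univ _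
  rw [h2, Finset.card_eq_three.2 ⟨0, 1, c, zero_ne_one, hc.symm, fun h => h1 h.symm, rfl⟩] at h3
  omega

include h2 in
theorem center_sl {m : ℕ} : Subgroup.center (SpecialLinearGroup (Fin (m + 1)) F) = ⊥ := by
  rw [eq_bot_iff]
  intro x hx
  obtain ⟨r, hr, hx⟩ := Matrix.SpecialLinearGroup.mem_center_iff.1 hx
  have h3 : r = 1 := by
    apply eq_one_of_ne h2
    rintro rfl
    rw [Fintype.card_fin, zero_pow (Nat.succ_ne_zero _)] at hr
    exact zero_ne_one hr
  rw [Subgroup.mem_bot]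
  apply Subtype.ext
  rw [← hx, h3, map_one]
  rfl

include h2 in
theorem pr_injective {m : ℕ} : Function.Injective (pr m F) := by
  rw [← MonoidHom.ker_eq_bot_iff, ker_pr]
  exact center_sl h2

/-- `SL_{m+3}(2)` is simple -/
theorem simple_psl (m : ℕ) : IsSimpleGroup (ProjectiveSpecialLinearGroup (Fin (m + 3)) F) :=
  psl_isSimpleGroup (by rw [Fintype.card_fin]; omega)

theorem not_comm_psl (m : ℕ) : ¬ IsMulCommutative (ProjectiveSpecialLinearGroup (Fin (m + 3)) F) := by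
  intro h
  have h1 : Nontrivial (ProjectiveSpecialLinearGroup (Fin (m + 3)) F) := (simple_psl m).toNontrivial
  have h3 : commutator (SpecialLinearGroup (Fin (m + 3)) F) = ⊤ :=
    Cfsg.Agent.LieClassical.SLGen.commutator_eq_top (by rw [Fintype.card_fin]; omega)
  have h4 : commutator (ProjectiveSpecialLinearGroup (Fin (m + 3)) F) = ⊤ := by
    have h5 : (commutator (SpecialLinearGroup (Fin (m + 3)) F)).map (pr (m + 2) F) =
        commutator (ProjectiveSpecialLinearGroup (Fin (m + 3)) F) := by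
      rw [commutator_def, Subgroup.map_commutator, Subgroup.map_top_of_surjective _ pr_surjective]
      rfl
    rw [← h5, h3, Subgroup.map_top_of_surjective _ pr_surjective]
  have h6 : commutator (ProjectiveSpecialLinearGroup (Fin (m + 3)) F) = ⊥ := by
    rw [commutator_eq_bot_iff_center_eq_top, Subgroup.center_eq_top_iff]
    exact h
  rw [h6] at h4
  exact (bot_ne_top h4).elim

include h2 in
theorem nodeD_blk {J : Finset (Fin n)} {s m : ℕ} (hg : Good J s (m + 3)) :
    ∃ N, NodeD (cA n).toCoxeterSystem (isCartan n) (TP n F) (XP n F) (J : Set (Fin n)) N ∧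
      Nonempty (N ≃* ProjectiveSpecialLinearGroup (Fin (m + 3)) F) := by
  obtain ⟨hle, hadj, hc⟩ := hg
  have hfin : Finite (ProjectiveSpecialLinearGroup (Fin (m + 3)) F) := Quotient.finite _
  have hsimple := simple_psl (F := F) m
  have h2p : Fact (Nat.Prime 2) := ⟨Nat.prime_two⟩
  set f := blkEmb hle with hf
  let φ : SpecialLinearGroup (Fin (m + 3)) F →* ProjectiveSpecialLinearGroup (Fin (n + 1)) F := (pr n F).comp (emb f)
  have hφi : Function.Injective φ := (pr_injective h2).comp (emb_injective f)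
  let e1 : SpecialLinearGroup (Fin (m + 3)) F ≃* ProjectiveSpecialLinearGroup (Fin (m + 3)) F :=
    MulEquiv.ofBijective (pr (m + 2) F) ⟨pr_injective h2, pr_surjective⟩
  let e2 : SpecialLinearGroup (Fin (m + 3)) F ≃* φ.range := MonoidHom.ofInjective hφi
  let e : ProjectiveSpecialLinearGroup (Fin (m + 3)) F ≃* φ.range := e1.symm.trans e2
  have hN : φ.range = ((emb (F := F) f).range).map (pr n F) := MonoidHom.range_comp _ _
  have hTN : TP n F ≤ Subgroup.normalizer (φ.range : Set (ProjectiveSpecialLinearGroup (Fin (n + 1)) F)) := by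
    rw [hN]
    exact (Subgroup.map_mono (T_le_norm f)).trans (Subgroup.le_normalizer_map _)
  have hle' : φ.range ≤ RGD.Sup (XP n F) (RootsJ (cA n).toCoxeterSystem (isCartan n) (J : Set (Fin n))) := by
    rw [hN, range_emb, Subgroup.map_iSup]
    refine iSup_le fun p => ?_
    exact XX_map_le (fun h => p.2 (f.injective h)) (hadj _ _ (blk_blkEmb hle _) (blk_blkEmb hle _))
  refine ⟨φ.range, ⟨hle', ?_, ?_, ?_⟩, ⟨e.symm⟩⟩
  · exact QTKE.isQuasisimple_congr e (isQuasisimple_of_simple _ (not_comm_psl m))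
  · rw [← Lib.Cores.map_equiv_pCore e 2, pCore_of_simple 2 _ (not_comm_psl m), Subgroup.map_bot]
  · rcases hc with hc | ⟨i, hi, hd, hc⟩
    · refine ⟨TP n F, solvable_map _ solvable_T', T_le_LJ, hTN, ?_⟩
      rw [hN, ← Subgroup.map_sup]
      exact LP_le le_sup_left fun a b hab h => (XX_le_of_blk hle hab (hc a b hab h).1 (hc a b hab h).2).trans le_sup_right
    · refine ⟨(T (Fin (n + 1)) F ⊔ (emb (F := F) (pairEmb i)).range).map (pr n F),
        solvable_map _ (solvable_T_sup h2 i), ?_, ?_, ?_⟩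
      · rw [Subgroup.map_sup]
        refine sup_le T_le_LJ ?_
        rw [← MonoidHom.range_comp, range_pair]
        refine sup_le ?_ ?_
        · exact X_le_LJ (X := XP n F) (PosJ_subset _ (sr_mem_PosJ (by simpa using hi)))
        · exact X_le_LJ (X := XP n F) (RootsJ.neg (PosJ_subset _ (sr_mem_PosJ (by simpa using hi))))
      · rw [Subgroup.map_sup]
        refine sup_le hTN ?_
        rw [hN]
        refine (Subgroup.map_mono ?_).trans (Subgroup.le_normalizer_map _)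
        refine (range_comm _ _ fun a b e => ?_).trans (Subgroup.centralizer_le_normalizer _)
        have h3 := congrArg Fin.val e
        rw [pairEmb_val, hf] at h3
        have h4 := (blk_blkEmb hle b).1
        have h5 := (blk_blkEmb hle b).2
        have h6 := a.2
        omega
      · rw [hN, ← Subgroup.map_sup]
        refine LP_le (le_sup_left.trans le_sup_left) fun a b hab h => ?_
        rcases hc a b hab h with h3 | h3
        · exact (XX_le_of_blk hle hab h3.1 h3.2).trans le_sup_right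
        · exact ((XX_le_of_pr h3).trans le_sup_right).trans le_sup_left

end levi

section rows

variable (h2 : Fintype.card F = 2)

include h2 in
theorem rowL_psl_five : RowL (fun i : Fin 2 => ProjectiveSpecialLinearGroup (Fin (i.val + 3)) F)
    (ProjectiveSpecialLinearGroup (Fin 5) F) := by
  obtain ⟨Φ, _, R, hF⟩ := exists_filt (F := F) 4
  have : Finite (ProjectiveSpecialLinearGroup (Fin (4 + 1)) F) := Quotient.finite _
  refine rowL_of_rgd hF (Nodes.RGDTypeA.G1_psl_eq_top _ _) fun J hJ => ?_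
  classical
  obtain ⟨J, rfl⟩ : ∃ J' : Finset (Fin 4), (J' : Set (Fin 4)) = J := ⟨J.toFinset, by simp⟩
  rcases comb_five J (fun h => hJ (by rw [h, Finset.coe_univ])) with h1 | ⟨s, -, h1⟩ | ⟨s, -, h1⟩
  · exact Or.inl (solvable_LP h2 h1)
  · obtain ⟨N, hN, e⟩ := nodeD_blk (m := 0) h2 h1
    exact Or.inr ⟨N, hN, 0, e⟩
  · obtain ⟨N, hN, e⟩ := nodeD_blk (m := 1) h2 h1
    exact Or.inr ⟨N, hN, 1, e⟩

include h2 in
theorem rowL_psl_four : RowL (fun _ : Unit => ProjectiveSpecialLinearGroup (Fin 3) F)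
    (ProjectiveSpecialLinearGroup (Fin 4) F) := by
  obtain ⟨Φ, _, R, hF⟩ := exists_filt (F := F) 3
  have : Finite (ProjectiveSpecialLinearGroup (Fin (3 + 1)) F) := Quotient.finite _
  refine rowL_of_rgd hF (Nodes.RGDTypeA.G1_psl_eq_top _ _) fun J hJ => ?_
  classical
  obtain ⟨J, rfl⟩ : ∃ J' : Finset (Fin 3), (J' : Set (Fin 3)) = J := ⟨J.toFinset, by simp⟩
  rcases comb_four J (fun h => hJ (by rw [h, Finset.coe_univ])) with h1 | ⟨s, -, h1⟩
  · exact Or.inl (solvable_LP h2 h1)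
  · obtain ⟨N, hN, e⟩ := nodeD_blk (m := 0) h2 h1
    exact Or.inr ⟨N, hN, (), e⟩

include h2 in
/-- **row `L₅(2)`** -/
theorem row_psl_five {G : Type v} [Group G] [Finite G] (e : G ≃* ProjectiveSpecialLinearGroup (Fin 5) F) :
    RowL (fun i : Fin 2 => ProjectiveSpecialLinearGroup (Fin (i.val + 3)) F) G :=
  RowL.congr e (rowL_psl_five h2)

include h2 in
/-- **row `L₄(2)`** -/
theorem row_psl_four {G : Type v} [Group G] [Finite G] (e : G ≃* ProjectiveSpecialLinearGroup (Fin 4) F) :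
    RowL (fun _ : Unit => ProjectiveSpecialLinearGroup (Fin 3) F) G :=
  RowL.congr e (rowL_psl_four h2)

end rows

end Cfsg.Agent.H1.RowPSLFive

private theorem dce_0ed4c973a4fa : _root_.True := by
  try have : _root_.True := by simp only [_root_.Cfsg.Agent.H1.RowPSLFive.XP.eq_1]
  exact _root_.True.intro
end

-- part: H1/SpSix
section
prune_inst 0x11005130152212000000051630001c02ba000002004b800081c0000004c0cc6000022e6000200110182084000031004813080010026000000400000000000000000002049148a004040008000080000000000000000000000000000000000000000000000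
set_option linter.all false
open scoped Cfsg.Agent.FastGrp

-- part: H1/SpEmb
section
/-!
# The embedding `Sp_{2m}(F) → Sp_{2m+2}(F)` on Witt frames (helper1)

* `extHom`, `ext_X`, `ext_Z` : extension of isometries by the identity; images of the root elements.
-/

set_option autoImplicit false
set_option linter.unusedSectionVars false

namespace Cfsg.Agent.H1.SpEmb

open Cfsg Cfsg.Agent.ClassicalGeometry.SympBasic
open Cfsg.Agent.TitsThree.Siegel Cfsg.Agent.TitsThree.SpIdent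
open Cfsg.Agent.TitsThree.WittFrame

variable {m : ℕ} {F : Type*} [Field F]

/-- restriction of coordinates -/
def res : (Fin (m + 1) ⊕ Fin (m + 1) → F) →ₗ[F] (Fin m ⊕ Fin m → F) where
  toFun v := fun i => v (Sum.map Fin.succ Fin.succ i)
  map_add' _ _ := rfl
  map_smul' _ _ := rfl

/-- extension by zero -/
def inj : (Fin m ⊕ Fin m → F) →ₗ[F] (Fin (m + 1) ⊕ Fin (m + 1) → F) where
  toFun v := Sum.elim (Fin.cons (0 : F) (fun i => v (Sum.inl i)) : Fin (m + 1) → F)
    (Fin.cons (0 : F) (fun i => v (Sum.inr i)) : Fin (m + 1) → F)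
  map_add' v w := by
    funext i
    rcases i with i | i <;> refine Fin.cases ?_ (fun i => ?_) i <;> simp
  map_smul' c v := by
    funext i
    rcases i with i | i <;> refine Fin.cases ?_ (fun i => ?_) i <;> simp

@[simp] theorem res_apply (v : Fin (m + 1) ⊕ Fin (m + 1) → F) (i : Fin m ⊕ Fin m) :
    res v i = v (Sum.map Fin.succ Fin.succ i) := rfl

theorem res_inj (v : Fin m ⊕ Fin m → F) : res (inj v) = v := by
  funext i
  rcases i with i | i <;> rfl

theorem inj_apply (v : Fin m ⊕ Fin m → F) (i : Fin (m + 1) ⊕ Fin (m + 1)) :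
    inj v i = Sum.elim (Fin.cons (0 : F) (fun i => v (Sum.inl i)) : Fin (m + 1) → F)
    (Fin.cons (0 : F) (fun i => v (Sum.inr i)) : Fin (m + 1) → F) i := rfl

theorem form_inj_left (a : Fin m ⊕ Fin m → F) (w : Fin (m + 1) ⊕ Fin (m + 1) → F) :
    sympForm (m + 1) F (inj a) w = sympForm m F a (res w) := by
  rw [sympForm_eq_sum, sympForm_eq_sum, Fin.sum_univ_succ]
  simp only [inj_apply, _root_.Sum.elim_inr, _root_.Fin.cons_zero, _root_.MulZeroClass.zero_mul, _root_.Sum.elim_inl, _root_.sub_self, _root_.Fin.cons_succ, _root_.Finset.sum_sub_distrib, _root_.zero_add, _root_.Cfsg.Agent.H1.SpEmb.res_apply, _root_.Sum.map_inl, _root_.Sum.map_inr]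

theorem form_inj_right (a : Fin m ⊕ Fin m → F) (w : Fin (m + 1) ⊕ Fin (m + 1) → F) :
    sympForm (m + 1) F w (inj a) = sympForm m F (res w) a := by
  rw [sympForm_eq_sum, sympForm_eq_sum, Fin.sum_univ_succ]
  simp only [inj_apply, _root_.Sum.elim_inl, _root_.Fin.cons_zero, _root_.MulZeroClass.mul_zero, _root_.Sum.elim_inr, _root_.sub_self, _root_.Fin.cons_succ, _root_.Finset.sum_sub_distrib, _root_.zero_add, _root_.Cfsg.Agent.H1.SpEmb.res_apply, _root_.Sum.map_inr, _root_.Sum.map_inl]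

/-- the extension of a linear automorphism by the identity -/
def ext (g : (Fin m ⊕ Fin m → F) ≃ₗ[F] (Fin m ⊕ Fin m → F)) :
    (Fin (m + 1) ⊕ Fin (m + 1) → F) ≃ₗ[F] (Fin (m + 1) ⊕ Fin (m + 1) → F) where
  toFun v := v + inj (g (res v) - res v)
  map_add' v w := by
    simp only [map_add, map_sub]
    abel
  map_smul' c v := by
    simp only [map_smul, map_sub, RingHom.id_apply, smul_add, smul_sub]
  invFun v := v + inj (g.symm (res v) - res v)
  left_inv v := by
    simp only [map_add, map_sub, res_inj, LinearEquiv.symm_apply_apply]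
    abel
  right_inv v := by
    simp only [map_add, map_sub, res_inj, LinearEquiv.apply_symm_apply]
    abel

theorem ext_apply (g : (Fin m ⊕ Fin m → F) ≃ₗ[F] (Fin m ⊕ Fin m → F)) (v : Fin (m + 1) ⊕ Fin (m + 1) → F) :
    ext g v = v + inj (g (res v) - res v) := rfl

theorem res_ext (g : (Fin m ⊕ Fin m → F) ≃ₗ[F] (Fin m ⊕ Fin m → F)) (v : Fin (m + 1) ⊕ Fin (m + 1) → F) :
    res (ext g v) = g (res v) := by
  rw [ext_apply, map_add, res_inj]
  abel

theorem ext_mem {g : (Fin m ⊕ Fin m → F) ≃ₗ[F] (Fin m ⊕ Fin m → F)} (hg : g ∈ isos (form m F)) :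
    ext g ∈ isos (form (m + 1) F) := by
  intro v w
  change sympForm (m + 1) F (ext g v) (ext g w) = sympForm (m + 1) F v w
  have h1 : sympForm m F (g (res v)) (g (res w)) = sympForm m F (res v) (res w) := hg _ _
  rw [ext_apply g v, sympForm_add_left, form_inj_left, res_ext, sympForm_sub_left, h1, ext_apply g w,
    sympForm_add_right, form_inj_right, sympForm_sub_right]
  ring

/-- the homomorphism of isometry groups -/
def extHom (m : ℕ) (F : Type*) [Field F] : isos (form m F) →* isos (form (m + 1) F) where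
  toFun g := ⟨ext g.1, ext_mem g.2⟩
  map_one' := by
    apply Subtype.ext
    ext1 v
    change v + inj (res v - res v) = v
    rw [sub_self, map_zero, add_zero]
  map_mul' g k := by
    apply Subtype.ext
    ext1 v
    change v + inj (g.1 (k.1 (res v)) - res v) = ext g.1 (ext k.1 v)
    rw [ext_apply, ext_apply]
    simp only [map_add, map_sub, res_inj]
    abel

theorem extHom_injective : Function.Injective (extHom m F) := by
  intro g k h
  apply Subtype.ext
  ext1 v
  have h1 : ext g.1 (inj v) = ext k.1 (inj v) := congrArg (fun z : isos (form (m + 1) F) => z.1 (inj v)) h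
  rw [ext_apply, ext_apply, res_inj, add_right_inj] at h1
  have h2 := congrArg res h1
  rw [res_inj, res_inj] at h2
  exact sub_left_injective h2

theorem ext_sie (u w : Fin m ⊕ Fin m → F) (c : F) (hu : (form m F).h u u = 0) (hw : (form m F).h u w = 0)
    (hu' : (form (m + 1) F).h (inj u) (inj u) = 0) (hw' : (form (m + 1) F).h (inj u) (inj w) = 0) :
    ext ((form m F).sie u w c hu hw) = (form (m + 1) F).sie (inj u) (inj w) c hu' hw' := by
  ext1 v
  rw [ext_apply, HForm.sie_apply, HForm.sie_apply]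
  simp only [form_h, form_ε, form_inj_right, map_add, map_sub, map_smul]
  abel

/-- the shift of signed indices -/
def sx (x : Fin m × Bool) : Fin (m + 1) × Bool := (x.1.succ, x.2)

theorem inj_b (x : Fin m × Bool) : inj ((frame m F).b x) = (frame (m + 1) F).b (sx x) := by
  obtain ⟨i, s⟩ := x
  cases s
  · change inj (f m F i) = f (m + 1) F i.succ
    funext j
    unfold f
    rcases j with j | j
    · refine Fin.cases ?_ (fun j => ?_) j
      · simp [inj_apply]
      · simp [inj_apply, Pi.single_apply]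
    · refine Fin.cases ?_ (fun j => ?_) j
      · simp [inj_apply]
      · simp [inj_apply, Pi.single_apply]
  · change inj (e m F i) = e (m + 1) F i.succ
    funext j
    unfold e
    rcases j with j | j
    · refine Fin.cases ?_ (fun j => ?_) j
      · simp [inj_apply]
      · simp [inj_apply, Pi.single_apply]
    · refine Fin.cases ?_ (fun j => ?_) j
      · simp [inj_apply]
      · simp [inj_apply, Pi.single_apply]

theorem ext_X (x y : Fin m × Bool) (t : F) :
    ext ((frame m F).X x y t) = (frame (m + 1) F).X (sx x) (sx y) t := by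
  by_cases h : x.1 ≠ y.1
  · have h' : (sx x).1 ≠ (sx y).1 := fun e => h (Fin.succ_injective _ e)
    rw [Frame.X_eq _ h, Frame.X_eq _ h', ext_sie]
    · refine HForm.sie_congr _ _ _ _ _ (inj_b x) ?_ rfl
      rw [map_smul, inj_b]
      rfl
    · exact sympForm_self _
    · change sympForm (m + 1) F _ _ = 0
      rw [form_inj_left, res_inj]
      exact (frame m F).h_smul_b h _
  · have h' : ¬ (sx x).1 ≠ (sx y).1 := fun e => h fun e' => e (by rw [sx, sx, e'])
    rw [Frame.X, Frame.X, dif_neg h, dif_neg h']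
    exact congrArg Subtype.val (extHom m F).map_one

theorem ext_Z (x : Fin m × Bool) (c : F) :
    ext ((frame m F).Z x (adm c)) = (frame (m + 1) F).Z (sx x) (adm c) := by
  rw [Frame.Z, Frame.Z, ext_sie]
  · exact HForm.sie_congr _ _ _ _ _ (inj_b x) (map_zero _) rfl
  · exact sympForm_self _
  · change sympForm (m + 1) F _ (inj 0) = 0
    rw [map_zero]
    exact sympForm_zero_right _

end Cfsg.Agent.H1.SpEmb
end

-- part: H1/SpSix
section
/-!
# `Sp₆(2)`: `ℒ(G, T)` (helper1)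
-/

set_option autoImplicit false
set_option linter.unusedSectionVars false

namespace Cfsg.Agent.H1.SpSix

open Cfsg Cfsg.Agent.ClassicalGeometry.SympBasic
open Matrix (SpecialLinearGroup ProjectiveSpecialLinearGroup GeneralLinearGroup)
open Cfsg.Agent.ChevalleyStructure.CoxeterGeom Cfsg.Agent.Tits.Roots Cfsg.Agent.Nodes.TypeC
open Cfsg.Agent.Nodes.Comb Cfsg.Agent.Nodes.Reps Cfsg.Agent.Nodes.WittRoot Cfsg.Agent.Nodes.BNOf
open Cfsg.Agent.TitsThree Cfsg.Agent.TitsThree.Siegel Cfsg.Agent.TitsThree.WittFrame Cfsg.Agent.TitsThree.WittWeyl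
open Cfsg.Agent.TitsThree.FrameCN
open Cfsg.Agent.TitsThree.SpIdent (form frame adm isos toPSp toSp ofSp eq_adm toPSp_surjective exists_smul_of_toPSp_eq_one span_ef form_h)
open Cfsg.Agent.Nodes.WittRGD (Tor rg_sr rg_neg_sr)
open Cfsg.Agent.Nodes.WittAll (AmbT)
open Cfsg.Agent.H1.RgdRow Cfsg.Agent.H1.RankTwo Cfsg.Agent.H1.RowPSLFive Cfsg.Agent.H1.SpEmb
open Cfsg.Agent.Tits.Core Cfsg.Agent.Tits.RootComb Cfsg.Agent.Tits.Exchange Cfsg.Agent.Nodes.StabComb
  Cfsg.Agent.Nodes.Bruhat Cfsg.Agent.Nodes.OppDec Cfsg.Agent.Nodes.LeviDec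

universe u v w

section dihedral

/-- two groups of order at most two generate a solvable group -/
theorem solvable_pair {Y : Type*} [Group Y] {A B : Subgroup Y} {a b : Y} (ha : a * a = 1) (hb : b * b = 1)
    (hA : ∀ x ∈ A, x = 1 ∨ x = a) (hB : ∀ x ∈ B, x = 1 ∨ x = b) : Group.IsSolvable ↥(A ⊔ B) := by
  have hai : a⁻¹ = a := inv_eq_of_mul_eq_one_right ha
  have hbi : b⁻¹ = b := inv_eq_of_mul_eq_one_right hb
  have key : a * (a * b) * a⁻¹ = (a * b)⁻¹ := by
    rw [_root_.mul_inv_rev, hai, hbi, ← mul_assoc a a b, ha, one_mul]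
  have hn : Subgroup.zpowers a ≤ Subgroup.normalizer ((Subgroup.zpowers (a * b) : Subgroup Y) : Set Y) := by
    rw [Subgroup.zpowers_le]
    rw [mem_normalizer_iff_cj]
    unfold cj
    rw [MonoidHom.map_zpowers]
    change Subgroup.zpowers (a * (a * b) * a⁻¹) = _
    rw [key, Subgroup.zpowers_inv]
  have hz : ∀ c : Y, Group.IsSolvable ↥(Subgroup.zpowers c) := fun c =>
    Group.isSolvable_of_comm fun x y => IsMulCommutative.is_comm.comm x y
  have h1 : Group.IsSolvable ↥(Subgroup.zpowers a ⊔ Subgroup.zpowers (a * b)) :=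
    isSolvable_sup (hz _) (hz _) hn
  refine solvable_le h1 (sup_le ?_ ?_)
  · intro x hx
    rcases hA x hx with rfl | rfl
    · exact one_mem _
    · exact Subgroup.mem_sup_left (Subgroup.mem_zpowers x)
  · intro x hx
    rcases hB x hx with rfl | rfl
    · exact one_mem _
    · have e : x = a⁻¹ * (a * x) := by group
      have h3 : a⁻¹ * (a * x) ∈ Subgroup.zpowers a ⊔ Subgroup.zpowers (a * x) :=
        mul_mem (inv_mem (Subgroup.mem_sup_left (Subgroup.mem_zpowers a)))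
          (Subgroup.mem_sup_right (Subgroup.mem_zpowers _))
      rwa [← e] at h3

end dihedral

variable {F : Type} [Field F] [Fintype F] [CharP F 2] (h2 : Fintype.card F = 2)

/-- the model -/
noncomputable abbrev MM (F : Type) [Field F] : Model (frame 3 F) (PSp 3 F) := KInstSp.model 3 F

/-- its root groups -/
noncomputable abbrev XS (F : Type) [Field F] (x : Fin 3 → ℤ) : Subgroup (PSp 3 F) := Nodes.WittModel.X (MM F) x

noncomputable abbrev TS (F : Type) [Field F] : Subgroup (PSp 3 F) := Nodes.WittModel.T (MM F)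

abbrev cs : CoxeterSystem (CoxeterMatrix.B 3) (CoxeterMatrix.B 3).Group := (CoxeterMatrix.B 3).toCoxeterSystem

theorem mem_XS_of_X {x : Fin 3 → ℤ} {a b : Fin 3 × Bool} (hab : a.1 ≠ b.1) (e : ee x = wt a + wt b) (t : F) :
    toPSp (SpGen.Xi a b t) ∈ XS F x := by
  refine Nodes.WittModel.mem_X_of (MM F) (SpGen.Xi a b t).2 ?_
  rw [rg_eq _ (Or.inl hab) e, PG_ne _ hab]
  exact ⟨t, rfl⟩

theorem mem_XS_of_Z {x : Fin 3 → ℤ} {a : Fin 3 × Bool} (e : ee x = wt a + wt a) (c : F) :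
    toPSp (SpGen.Zi a (adm c)) ∈ XS F x := by
  refine Nodes.WittModel.mem_X_of (MM F) (SpGen.Zi a (adm c)).2 ?_
  rw [rg_eq _ (Or.inr rfl) e, PG_self]
  exact ⟨_, rfl⟩

/-- the elements of the root groups -/
theorem mem_XS {x : Fin 3 → ℤ} (hx : IsRoot cs (isCartan 3) x) {k : PSp 3 F} (hk : k ∈ XS F x) :
    ∃ a b : Fin 3 × Bool, Ok a b ∧ ee x = wt a + wt b ∧
      ((a.1 ≠ b.1 ∧ ∃ t, k = toPSp (SpGen.Xi a b t)) ∨ (a = b ∧ ∃ c, k = toPSp (SpGen.Zi a (adm c)))) := by
  obtain ⟨a, b, hab, e⟩ := exists_of_isRoot cs hx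
  refine ⟨a, b, hab, e, ?_⟩
  obtain ⟨g, hg, hgx, rfl⟩ := (Nodes.WittModel.mem_X (MM F)).1 hk
  rw [rg_eq _ hab e] at hgx
  rcases hab with h | rfl
  · rw [PG_ne _ h] at hgx
    obtain ⟨t, rfl⟩ := hgx
    exact Or.inl ⟨h, t, rfl⟩
  · rw [PG_self] at hgx
    obtain ⟨p, rfl⟩ := hgx
    refine Or.inr ⟨rfl, p.c, ?_⟩
    change toPSp ⟨(frame 3 F).Z a p, hg⟩ = _
    congr 1
    apply Subtype.ext
    change (frame 3 F).Z a p = (frame 3 F).Z a (adm p.c)
    rw [← eq_adm]

/-! ### `ε`-coordinates -/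

theorem ee_zero (x : Fin 3 → ℤ) : ee x 0 = x 0 := by
  simp [ee, Fin.sum_univ_three, bt_apply]

theorem ee_one (x : Fin 3 → ℤ) : ee x 1 = x 1 - x 0 := by
  simp only [ee, Fin.sum_univ_three, bt_apply, _root_.zsmul_eq_mul, _root_.Fin.isValue, _root_.Finset.sum_apply, _root_.Pi.mul_apply, _root_.Pi.intCast_apply, _root_.Int.cast_eq, _root_.Fin.coe_ofNat_eq_mod, _root_.Nat.one_mod, _root_.Nat.right_eq_add, _root_.Fin.val_eq_zero_iff, _root_.Int.reduceNeg, _root_.mul_ite, _root_.mul_one, _root_.mul_neg, _root_.MulZeroClass.mul_zero, _root_.Nat.zero_mod, _root_.zero_add, _root_.Nat.one_lt_ofNat, ↓ _root_.reduceIte, _root_.one_ne_zero, _root_.Nat.reduceAdd, _root_.Nat.lt_add_one, _root_.Nat.mod_succ, _root_.lt_self_iff_false, _root_.OfNat.one_ne_ofNat, _root_.add_zero]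
  ring

theorem ee_two (x : Fin 3 → ℤ) : ee x 2 = 2 * x 2 - x 1 := by
  simp only [ee, Fin.sum_univ_three, bt_apply, _root_.zsmul_eq_mul, _root_.Fin.isValue, _root_.Finset.sum_apply, _root_.Pi.mul_apply, _root_.Pi.intCast_apply, _root_.Int.cast_eq, _root_.Fin.coe_ofNat_eq_mod, _root_.Nat.mod_succ, _root_.Nat.reduceEqDiff, _root_.Int.reduceNeg, _root_.mul_ite, _root_.mul_one, _root_.mul_neg, _root_.MulZeroClass.mul_zero, _root_.Nat.zero_mod, _root_.zero_add, _root_.Nat.one_lt_ofNat, ↓ _root_.reduceIte, _root_.OfNat.ofNat_ne_zero, _root_.zero_ne_one, _root_.Nat.one_mod, _root_.Nat.reduceAdd, _root_.Nat.lt_add_one, _root_.OfNat.ofNat_ne_one, _root_.lt_self_iff_false]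
  ring

theorem wt0_of {a b : Fin 3 × Bool} (hab : Ok a b) (h : (wt a + wt b) 0 = 0) : a.1 ≠ 0 ∧ b.1 ≠ 0 := by
  revert hab h
  revert a b
  unfold Ok
  decide +kernel

theorem sgn_of {a b : Fin 3 × Bool} (hab : Ok a b)
    (h : (wt a + wt b) 0 + (wt a + wt b) 1 + (wt a + wt b) 2 = 0) : a.1 ≠ b.1 ∧ a.2 ≠ b.2 := by
  revert hab h
  revert a b
  unfold Ok
  decide +kernel

/-! ### The node set `{1, 2}` -/

/-- `Sp₄(F) → PSp₆(F)` -/
noncomputable def phiB (F : Type) [Field F] : isos (_root_.Cfsg.Agent.TitsThree.SpIdent.form 2 F) →* PSp 3 F := toPSp.comp (extHom 2 F)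

theorem phiB_X (a b : Fin 2 × Bool) (t : F) : phiB F (SpGen.Xi a b t) = toPSp (SpGen.Xi (sx a) (sx b) t) := by
  change toPSp (extHom 2 F _) = _
  congr 1
  exact Subtype.ext (ext_X a b t)

theorem phiB_Z (a : Fin 2 × Bool) (c : F) : phiB F (SpGen.Zi a (adm c)) = toPSp (SpGen.Zi (sx a) (adm c)) := by
  change toPSp (extHom 2 F _) = _
  congr 1
  exact Subtype.ext (ext_Z a c)

theorem exists_sx {a : Fin 3 × Bool} (ha : a.1 ≠ 0) : ∃ a' : Fin 2 × Bool, a = sx a' := by
  revert ha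
  revert a
  unfold sx
  decide +kernel

theorem sx_ok : ∀ a b : Fin 2 × Bool, Ok a b → Ok (sx a) (sx b) := by
  unfold sx Ok
  decide +kernel

theorem wt_sx_zero : ∀ a b : Fin 2 × Bool, (wt (sx a) + wt (sx b)) 0 = 0 := by
  unfold sx
  decide +kernel

theorem exists_root_B (a b : Fin 2 × Bool) (hab : Ok a b) :
    ∃ x ∈ RootsJ cs (isCartan 3) {1, 2}, ee x = wt (sx a) + wt (sx b) := by
  obtain ⟨x, hx, e⟩ := rt_of_ok (cs := cs) (sx_ok a b hab)
  refine ⟨x, ⟨hx, fun k hk => ?_⟩, e⟩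
  have h0 : x 0 = 0 := by
    rw [← ee_zero x, e]
    exact wt_sx_zero a b
  fin_cases k
  · exact h0
  · exact absurd (by simp) hk
  · exact absurd (by simp) hk

theorem phiB_X_mem (a b : Fin 2 × Bool) (hab : a.1 ≠ b.1) (t : F) :
    phiB F (SpGen.Xi a b t) ∈ RGD.Sup (XS F) (RootsJ cs (isCartan 3) {1, 2}) := by
  obtain ⟨x, hx, e⟩ := exists_root_B a b (Or.inl hab)
  rw [phiB_X]
  exact RGD.le_Sup (X := XS F) hx (mem_XS_of_X (fun e => hab (Fin.succ_injective _ e)) e t)

theorem phiB_Z_mem (a : Fin 2 × Bool) (c : F) :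
    phiB F (SpGen.Zi a (adm c)) ∈ RGD.Sup (XS F) (RootsJ cs (isCartan 3) {1, 2}) := by
  obtain ⟨x, hx, e⟩ := exists_root_B a a (Or.inr rfl)
  rw [phiB_Z]
  exact RGD.le_Sup (X := XS F) hx (mem_XS_of_Z e c)

theorem range_phiB : (phiB F).range = RGD.Sup (XS F) (RootsJ cs (isCartan 3) {1, 2}) := by
  apply le_antisymm
  · have h := SpGen.isos_eq_of_simple (F := F) (1 : Fin 2)
      ((RGD.Sup (XS F) (RootsJ cs (isCartan 3) {1, 2})).comap (phiB F))
      (fun i j hij t => ⟨phiB_X_mem _ _ (fun e => by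
          have : i = j := e
          rw [this] at hij
          omega) t, phiB_X_mem _ _ (fun e => by
          have : j = i := e
          rw [this] at hij
          omega) t⟩)
      (fun c => ⟨phiB_Z_mem _ c, phiB_Z_mem _ c⟩)
    rintro _ ⟨g, rfl⟩
    have h1 : g ∈ (RGD.Sup (XS F) (RootsJ cs (isCartan 3) {1, 2})).comap (phiB F) := by
      rw [h]
      exact Subgroup.mem_top _
    exact h1
  · refine RGD.Sup_le fun x hx k hk => ?_
    obtain ⟨a, b, hab, e, h⟩ := mem_XS hx.1 hk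
    have h0 : (wt a + wt b) 0 = 0 := by
      rw [← e, ee_zero]
      exact hx.2 0 (by simp)
    obtain ⟨ha, hb⟩ := wt0_of hab h0
    obtain ⟨a', rfl⟩ := exists_sx ha
    obtain ⟨b', rfl⟩ := exists_sx hb
    rcases h with ⟨-, t, rfl⟩ | ⟨-, c, rfl⟩
    · exact ⟨SpGen.Xi a' b' t, phiB_X a' b' t⟩
    · exact ⟨SpGen.Zi a' (adm c), phiB_Z a' c⟩

include h2 in
theorem toPSp_injective {m : ℕ} : Function.Injective (toPSp (m := m) (F := F)) := by
  rw [← MonoidHom.ker_eq_bot_iff, eq_bot_iff]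
  intro g hg
  obtain ⟨a, ha, h⟩ := exists_smul_of_toPSp_eq_one (MonoidHom.mem_ker.1 hg)
  have h1 : a = 1 := by
    apply eq_one_of_ne h2
    rintro rfl
    rw [zero_pow (by norm_num)] at ha
    exact zero_ne_one ha
  rw [Subgroup.mem_bot]
  apply Subtype.ext
  ext1 v
  rw [h v, h1, one_smul]
  rfl

include h2 in
theorem exists_equiv_B : Nonempty (↥(RGD.Sup (XS F) (RootsJ cs (isCartan 3) {1, 2})) ≃* Equiv.Perm (Fin 6)) := by
  rw [← range_phiB]
  have e1 : isos (_root_.Cfsg.Agent.TitsThree.SpIdent.form 2 F) ≃* (phiB F).range :=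
    MonoidHom.ofInjective ((toPSp_injective h2).comp extHom_injective)
  have e2 : isos (_root_.Cfsg.Agent.TitsThree.SpIdent.form 2 F) ≃* PSp 2 F := MulEquiv.ofBijective toPSp ⟨toPSp_injective h2, toPSp_surjective⟩
  obtain ⟨e3⟩ := ChevalleyStructure.B2Sp4.chevB2_equiv_PSp F
  obtain ⟨e4⟩ := Cfsg.Agent.S1058.result (F := F) h2
  exact ⟨(e1.symm.trans e2).trans (e3.symm.trans e4)⟩

/-! ### The node set `{0, 1}` -/

open Cfsg.Agent.Nodes.RGDTypeA Cfsg.Agent.TitsThree.KSideA Cfsg.Agent.LieClassical.SLGen in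
/-- the transvections in the symplectic group -/
theorem toSp_X {a b : Fin 3} (hab : a ≠ b) (t : F) :
    toSp (SpGen.Xi (b, true) (a, false) (-t)) = S0778.blkHom 3 (SpecialLinearGroup.toGL (tv a b t)) := by
  apply Subtype.ext
  rw [← Matrix.mulVec_injective.eq_iff]
  funext v
  rw [SpIdent.toSp_mulVec]
  have h1 : ((b, true) : Fin 3 × Bool).1 ≠ ((a, false) : Fin 3 × Bool).1 := hab.symm
  change (frame 3 F).X (b, true) (a, false) (-t) v = _
  rw [Frame.X_eq _ h1, HForm.sie_apply]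
  have e1 : ((S0778.blkHom 3 (SpecialLinearGroup.toGL (tv a b t)) : Matrix.symplecticGroup (Fin 3) F) :
      Matrix (Fin 3 ⊕ Fin 3) (Fin 3 ⊕ Fin 3) F) = Matrix.fromBlocks (1 + Matrix.single a b t) 0 0
        ((1 + Matrix.single a b (-t)).transpose) := by
    change Matrix.fromBlocks (tv a b t).1 0 0 ((((SpecialLinearGroup.toGL (tv a b t))⁻¹ : GL (Fin 3) F) :
      Matrix (Fin 3) (Fin 3) F).transpose) = _
    rw [← map_inv, ← tv_neg]
    change Matrix.fromBlocks (tv a b t).1 0 0 ((tv a b (-t)).1.transpose) = _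
    rw [tv_val hab, tv_val hab]
  rw [e1, Matrix.fromBlocks_mulVec]
  have hs : (frame 3 F).sc (a, false) (-t) = -t := by
    simp only [Frame.sc, Frame.η, _root_.Cfsg.Agent.TitsThree.SpIdent.form_ε, _root_.inv_neg, _root_.inv_one, _root_.Bool.false_eq_true, ↓ _root_.reduceIte, _root_.mul_one, _root_.Cfsg.Agent.TitsThree.SpIdent.form_σ, _root_.mul_neg, _root_.neg_mul, _root_.one_mul, _root_.neg_neg]
  have hb : (_root_.Cfsg.Agent.TitsThree.SpIdent.form 3 F).h v ((frame 3 F).b (b, true)) = -v (Sum.inl b) := by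
    change sympForm 3 F v (Pi.single (Sum.inr b) 1) = _
    rw [sympForm_single_inr_right]
  have ha : (_root_.Cfsg.Agent.TitsThree.SpIdent.form 3 F).h v ((frame 3 F).sc (a, false) (-t) • (frame 3 F).b (a, false)) = -t * v (Sum.inr a) := by
    rw [hs]
    change sympForm 3 F v ((-t) • Pi.single (Sum.inl a) 1) = _
    rw [sympForm_smul_right, sympForm_single_inl_right]
  rw [hb, ha, hs]
  funext j
  rcases j with j | j
  · change v (Sum.inl j) + (-v (Sum.inl b)) * (-t * (Pi.single (Sum.inl a) 1 : Fin 3 ⊕ Fin 3 → F) (Sum.inl j)) -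
      ((_root_.Cfsg.Agent.TitsThree.SpIdent.form 3 F).ε⁻¹ * (-t * v (Sum.inr a))) * (Pi.single (Sum.inr b) 1 : Fin 3 ⊕ Fin 3 → F) (Sum.inl j) +
      (0 * (-v (Sum.inl b))) * (Pi.single (Sum.inr b) 1 : Fin 3 ⊕ Fin 3 → F) (Sum.inl j) = _
    simp only [Sum.elim_inl, Matrix.add_mulVec, Matrix.one_mulVec, Matrix.zero_mulVec, add_zero, Pi.add_apply,
      Function.comp_apply, Matrix.single_mulVec]
    simp only [Pi.single_apply, Function.update_apply, Sum.inl.injEq, reduceCtorEq, if_false, mul_zero, sub_zero,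
      add_zero, Pi.zero_apply]
    split_ifs <;> ring
  · change v (Sum.inr j) + (-v (Sum.inl b)) * (-t * (Pi.single (Sum.inl a) 1 : Fin 3 ⊕ Fin 3 → F) (Sum.inr j)) -
      ((_root_.Cfsg.Agent.TitsThree.SpIdent.form 3 F).ε⁻¹ * (-t * v (Sum.inr a))) * (Pi.single (Sum.inr b) 1 : Fin 3 ⊕ Fin 3 → F) (Sum.inr j) +
      (0 * (-v (Sum.inl b))) * (Pi.single (Sum.inr b) 1 : Fin 3 ⊕ Fin 3 → F) (Sum.inr j) = _
    simp only [Sum.elim_inr, Matrix.transpose_add, Matrix.transpose_one, Matrix.transpose_single, Matrix.add_mulVec,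
      Matrix.one_mulVec, Matrix.zero_mulVec, zero_add, Pi.add_apply,
      Function.comp_apply, Matrix.single_mulVec]
    simp only [Pi.single_apply, Function.update_apply, Sum.inr.injEq, reduceCtorEq, if_false, mul_zero,
      add_zero, Pi.zero_apply, SpIdent.form_ε]
    split_ifs <;> ring

/-- the isometry group is the symplectic group -/
noncomputable def isoSp (F : Type) [Field F] : isos (_root_.Cfsg.Agent.TitsThree.SpIdent.form 3 F) ≃* Matrix.symplecticGroup (Fin 3) F :=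
  MulEquiv.ofBijective toSp ⟨SpIdent.toSp_injective, SpIdent.toSp_surjective⟩

/-- `SL₃(F) → isometries` -/
noncomputable def lin (F : Type) [Field F] : _root_.Matrix.SpecialLinearGroup (Fin 3) F →* isos (_root_.Cfsg.Agent.TitsThree.SpIdent.form 3 F) :=
  ((isoSp F).symm.toMonoidHom).comp ((S0778.blkHom 3).comp SpecialLinearGroup.toGL)

theorem lin_injective : Function.Injective (lin F) := by
  refine (isoSp F).symm.injective.comp ((S0778.blkHom_injective 3).comp ?_)
  exact SpecialLinearGroup.toGL_injective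

open Cfsg.Agent.Nodes.RGDTypeA Cfsg.Agent.TitsThree.KSideA Cfsg.Agent.LieClassical.SLGen in
theorem lin_tv {a b : Fin 3} (hab : a ≠ b) (t : F) : lin F (tv a b t) = SpGen.Xi (b, true) (a, false) (-t) := by
  change (isoSp F).symm (S0778.blkHom 3 (SpecialLinearGroup.toGL (tv a b t))) = _
  rw [MulEquiv.symm_apply_eq]
  exact (toSp_X hab t).symm

/-- `SL₃(F) → PSp₆(F)` -/
noncomputable def phiA (F : Type) [Field F] : _root_.Matrix.SpecialLinearGroup (Fin 3) F →* PSp 3 F := toPSp.comp (lin F)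

theorem wt_sum : ∀ a b : Fin 3 × Bool, a.2 ≠ b.2 → (wt a + wt b) 0 + (wt a + wt b) 1 + (wt a + wt b) 2 = 0 := by
  decide +kernel

theorem exists_root_A {a b : Fin 3 × Bool} (hab : a.1 ≠ b.1) (hs : a.2 ≠ b.2) :
    ∃ x ∈ RootsJ cs (isCartan 3) {0, 1}, ee x = wt a + wt b := by
  obtain ⟨x, hx, e⟩ := rt_of_ok (cs := cs) (Or.inl hab : Ok a b)
  refine ⟨x, ⟨hx, fun k hk => ?_⟩, e⟩
  have h0 : x 2 = 0 := by
    have h1 := wt_sum a b hs
    rw [← e, ee_zero, ee_one, ee_two] at h1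
    omega
  fin_cases k
  · exact absurd (by simp) hk
  · exact absurd (by simp) hk
  · exact h0

open Cfsg.Agent.Nodes.RGDTypeA Cfsg.Agent.TitsThree.KSideA Cfsg.Agent.LieClassical.SLGen in
theorem range_phiA : (phiA F).range = RGD.Sup (XS F) (RootsJ cs (isCartan 3) {0, 1}) := by
  apply le_antisymm
  · rw [MonoidHom.range_eq_map, ← closure_transvections (ι := Fin 3) (F := F), MonoidHom.map_closure,
      Subgroup.closure_le]
    rintro _ ⟨_, ⟨a, b, hab, t, rfl⟩, rfl⟩
    obtain ⟨x, hx, e⟩ := exists_root_A (a := (b, true)) (b := (a, false)) hab.symm (by simp)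
    rw [← tv_of_ne hab]
    change toPSp (lin F (tv a b t)) ∈ _
    rw [lin_tv hab]
    exact RGD.le_Sup (X := XS F) hx (mem_XS_of_X hab.symm e _)
  · refine RGD.Sup_le fun x hx k hk => ?_
    obtain ⟨a, b, hab, e, h⟩ := mem_XS hx.1 hk
    have h0 : (wt a + wt b) 0 + (wt a + wt b) 1 + (wt a + wt b) 2 = 0 := by
      rw [← e, ee_zero, ee_one, ee_two]
      have := hx.2 2 (by simp)
      omega
    obtain ⟨h1, h2⟩ := sgn_of hab h0
    rcases h with ⟨-, t, rfl⟩ | ⟨he, -⟩
    · obtain ⟨i, s⟩ := a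
      obtain ⟨j, u⟩ := b
      have h1' : i ≠ j := h1
      cases s <;> cases u
      · exact absurd rfl h2
      · refine ⟨tv i j (-(-((_root_.Cfsg.Agent.TitsThree.SpIdent.form 3 F).ε⁻¹ * (frame 3 F).η (i, false) * (frame 3 F).η (j, true) * (_root_.Cfsg.Agent.TitsThree.SpIdent.form 3 F).σ t))), ?_⟩
        change toPSp (lin F (tv i j _)) = _
        rw [lin_tv h1', _root_.neg_neg]
        congr 1
        apply Subtype.ext
        exact ((frame 3 F).X_swap (x := (i, false)) (y := (j, true)) h1 t).symm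
      · refine ⟨tv j i (-t), ?_⟩
        change toPSp (lin F (tv j i _)) = _
        rw [lin_tv h1'.symm, _root_.neg_neg]
      · exact absurd rfl h2
    · exact absurd (congrArg Prod.fst he) h1

/-! ### The torus and the solvable node sets -/

include h2 in
theorem TS_eq_bot : TS F = ⊥ := by
  rw [eq_bot_iff]
  rintro _ ⟨⟨g, hg⟩, hgT, rfl⟩
  obtain ⟨-, hm⟩ := Subgroup.mem_subgroupOf.1 hgT
  have h1 : g = 1 := by
    apply LinearEquiv.toLinearMap_injective
    apply LinearMap.ext_on_range (v := fun j => (Pi.single j 1 : Fin 3 ⊕ Fin 3 → F))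
    · exact (Pi.basisFun F (Fin 3 ⊕ Fin 3)).span_eq ▸ (by congr 1; ext; simp)
    · intro j
      rcases j with j | j
      · obtain ⟨l, hl, e⟩ := hm (j, false)
        rw [eq_one_of_ne h2 hl, one_smul] at e
        exact e
      · obtain ⟨l, hl, e⟩ := hm (j, true)
        rw [eq_one_of_ne h2 hl, one_smul] at e
        exact e
  subst h1
  rw [Subgroup.mem_bot]
  exact map_one _

include h2 in
theorem LJ_eq (J : Set (Fin 3)) : LJ cs (isCartan 3) (TS F) (XS F) J = RGD.Sup (XS F) (RootsJ cs (isCartan 3) J) := by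
  unfold LJ
  rw [TS_eq_bot h2, bot_sup_eq]

/-- a root group has order at most two -/
theorem exists_two (h2 : Fintype.card F = 2) {x : Fin 3 → ℤ} (hx : IsRoot cs (isCartan 3) x) :
    ∃ a : PSp 3 F, a * a = 1 ∧ ∀ y ∈ XS F x, y = 1 ∨ y = a := by
  obtain ⟨a, b, hab, e⟩ := exists_of_isRoot cs hx
  rcases hab with h | rfl
  · refine ⟨toPSp (SpGen.Xi a b 1), ?_, ?_⟩
    · rw [← map_mul]
      have h3 : SpGen.Xi a b (1 : F) * SpGen.Xi a b 1 = 1 := by
        apply Subtype.ext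
        change (frame 3 F).X a b 1 * (frame 3 F).X a b 1 = 1
        rw [← Frame.X_add, CharTwo.add_self_eq_zero, Frame.X_zero]
      rw [h3, map_one]
    · intro y hy
      obtain ⟨g, hg, hgx, rfl⟩ := (Nodes.WittModel.mem_X (MM F)).1 hy
      rw [rg_eq _ (Or.inl h) e, PG_ne _ h] at hgx
      obtain ⟨t, rfl⟩ := hgx
      rcases eq_or_ne t 0 with rfl | ht
      · left
        have h3 : (⟨(frame 3 F).X a b 0, hg⟩ : (MM F).I) = 1 := Subtype.ext (Frame.X_zero _ _ _)
        rw [h3, map_one]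
      · right
        obtain rfl : t = 1 := eq_one_of_ne h2 ht
        rfl
  · refine ⟨toPSp (SpGen.Zi a (adm 1)), ?_, ?_⟩
    · rw [← map_mul]
      have h3 : SpGen.Zi a (adm (1 : F)) * SpGen.Zi a (adm 1) = 1 := by
        apply Subtype.ext
        change (frame 3 F).Z a (adm 1) * (frame 3 F).Z a (adm 1) = 1
        rw [← Frame.Z_mul, ← SpIdent.adm_add, CharTwo.add_self_eq_zero]
        exact Frame.Z_one _ _
      rw [h3, map_one]
    · intro y hy
      obtain ⟨g, hg, hgx, rfl⟩ := (Nodes.WittModel.mem_X (MM F)).1 hy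
      rw [rg_eq _ (Or.inr rfl) e, PG_self] at hgx
      obtain ⟨p, rfl⟩ := hgx
      rcases eq_or_ne p.c 0 with h0 | h0
      · left
        have hp : p = 1 := by
          rw [eq_adm p, h0]
          rfl
        subst hp
        have h3 : (⟨(frame 3 F).Z a 1, hg⟩ : (MM F).I) = 1 := Subtype.ext (Frame.Z_one _ _)
        rw [h3, map_one]
      · right
        have hp : p = adm 1 := by
          rw [eq_adm p, eq_one_of_ne h2 h0]
        subst hp
        rfl

theorem solvable_node (h2 : Fintype.card F = 2) (i : Fin 3) : Group.IsSolvable ↥(XS F (sr i) ⊔ XS F (-sr i)) := by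
  obtain ⟨a, ha, hA⟩ := exists_two h2 (isRoot_sr cs (isCartan 3) i)
  obtain ⟨b, hb, hB⟩ := exists_two h2 (isRoot_sr cs (isCartan 3) i).neg
  exact solvable_pair ha hb hA hB

theorem wt_support : ∀ a b : Fin 3 × Bool, ¬ ((wt a + wt b) 0 ≠ 0 ∧ (wt a + wt b) 1 ≠ 0 ∧ (wt a + wt b) 2 ≠ 0) := by
  decide +kernel

theorem not_both {z : Fin 3 → ℤ} (hz : IsRoot cs (isCartan 3) z) (h1 : z 1 = 0) : z 0 = 0 ∨ z 2 = 0 := by
  obtain ⟨a, b, hab, e⟩ := exists_of_isRoot cs hz
  by_contra h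
  push Not at h
  refine wt_support a b ?_
  rw [← e, ee_zero, ee_one, ee_two, h1]
  refine ⟨h.1, ?_, ?_⟩
  · have := h.1
    omega
  · have := h.2
    omega

theorem btw_eq_bot {x y : Fin 3 → ℤ} (hx : x = sr 0 ∨ x = -sr 0) (hy : y = sr 2 ∨ y = -sr 2) :
    _root_.Cfsg.Agent.Nodes.Reps.btw cs (isCartan 3) (XS F) x y = ⊥ := by
  rw [eq_bot_iff]
  refine iSup_le ?_
  rintro ⟨z, hz, m, a, b, hm, ha, hb, e⟩
  exfalso
  have e0 := congrFun e 0
  have e1 := congrFun e 1
  have e2 := congrFun e 2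
  simp only [Pi.smul_apply, Pi.add_apply, smul_eq_mul] at e0 e1 e2
  have s00 : sr (0 : Fin 3) 0 = 1 := by decide +kernel
  have s01 : sr (0 : Fin 3) 1 = 0 := by decide +kernel
  have s02 : sr (0 : Fin 3) 2 = 0 := by decide +kernel
  have s20 : sr (2 : Fin 3) 0 = 0 := by decide +kernel
  have s21 : sr (2 : Fin 3) 1 = 0 := by decide +kernel
  have s22 : sr (2 : Fin 3) 2 = 1 := by decide +kernel
  have h1 : z 1 = 0 := by
    rcases hx with rfl | rfl <;> rcases hy with rfl | rfl <;>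
      simp only [Pi.neg_apply, s01, s21, neg_zero, mul_zero, add_zero] at e1 <;>
      exact (mul_eq_zero.1 e1).resolve_left hm.ne'
  rcases not_both hz h1 with h | h
  · rw [h, mul_zero] at e0
    rcases hx with rfl | rfl <;> rcases hy with rfl | rfl <;>
      simp only [Pi.neg_apply, s00, s20] at e0 <;> (clear * - ha e0; omega)
  · rw [h, mul_zero] at e2
    rcases hx with rfl | rfl <;> rcases hy with rfl | rfl <;>
      simp only [Pi.neg_apply, s02, s22] at e2 <;> (clear * - hb e2; omega)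

theorem hA : AmbT (frame 3 F) 2 (MM F).I := by
  have h2p : Fact (Nat.Prime 2) := ⟨Nat.prime_two⟩
  exact AmbT.of_amb Nodes.WittU.amb_Sp 2

/-- the reflections -/
noncomputable def nS (F : Type) [Field F] [Fintype F] [CharP F 2] (i : Fin 3) : PSp 3 F :=
  (MM F).φ ⟨Nodes.WittRGD.nn (frame 3 F) (adm 1) i, Nodes.WittAll.nn_mem hA (adm 1) i⟩

theorem rgdS : RGD cs (isCartan 3) 2 (TS F) (nS F) (XS F) := by
  have h2p : Fact (Nat.Prime 2) := ⟨Nat.prime_two⟩
  exact Nodes.WittAll.rgdC_model (MM F) hA (p0 := adm 1) one_ne_zero cs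

theorem G1S : Nodes.RGDLib.G1 cs (isCartan 3) (XS F) = ⊤ := Nodes.WittModel.G1_eq_top (MM F) (by norm_num) cs

open Cfsg.Agent.KFacts.RgdBorelTits Cfsg.Agent.Nodes.RGDLib Cfsg.Agent.KFacts.RgdFilt Cfsg.Agent.KFacts.RgdFiltWitt Cfsg.Agent.Nodes.WittAll in
theorem exists_filtS : ∃ Φ : (Fin 3 → ℤ) → ℝ → Subgroup (PSp 3 F), Cfsg.Agent.KFacts.RgdBorelTits.Filt (rgdS (F := F)) Φ := by
  have h2p : Fact (Nat.Prime 2) := ⟨Nat.prime_two⟩
  have hq : (adm (1 : F) : (frame 3 F).Adm).c ≠ 0 := one_ne_zero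
  have hA := hA (F := F)
  have : Finite ((Fin 3 ⊕ Fin 3 → F) ≃ₗ[F] (Fin 3 ⊕ Fin 3 → F)) :=
    Finite.of_injective (fun g : (Fin 3 ⊕ Fin 3 → F) ≃ₗ[F] (Fin 3 ⊕ Fin 3 → F) => (g : _ → _)) DFunLike.coe_injective
  have : Finite (CoxeterMatrix.B 3).Group := finite_W cs
  have hF : Filt (rgdC hA hq cs) (F2 (zr (frame 3 F)) (rg (frame 3 F))) :=
    (two hA (T := Nodes.WittRGD.Tor (frame 3 F) (MM F).I) (fun i => ⟨Nodes.WittAll.nn_mem hA (adm 1) i,
      Nodes.WittRGD.mono_nn hq i⟩) (fun _ ht => ⟨ht.1, ht.2⟩) _).filt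
  have hF1 := filt_restrict hF (MM F).I (fun x _ => hA.rg_le x)
    (n' := fun i => (⟨Nodes.WittRGD.nn (frame 3 F) (adm 1) i, Nodes.WittAll.nn_mem hA (adm 1) i⟩ : (MM F).I)) (fun _ => rfl)
    (rgd_restrict (rgdC hA hq _) (MM F).I (fun x _ => hA.rg_le x) (fun i => Nodes.WittAll.nn_mem hA (adm 1) i))
  exact ⟨_, filt_map hF1 (MM F).φ rgdS⟩

theorem solvable_02 (h2 : Fintype.card F = 2) :
    Group.IsSolvable ↥(LJ cs (isCartan 3) (TS F) (XS F) ({0, 2} : Set (Fin 3))) := by
  rw [LJ_eq h2]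
  have hcomm : ∀ x y : Fin 3 → ℤ, (x = sr 0 ∨ x = -sr 0) → (y = sr 2 ∨ y = -sr 2) →
      XS F x ≤ Subgroup.centralizer (XS F y : Set (PSp 3 F)) := by
    intro x y hx hy u hu
    rw [Subgroup.mem_centralizer_iff]
    intro v hv
    have hxr : IsRoot cs (isCartan 3) x := by
      rcases hx with rfl | rfl
      · exact isRoot_sr _ _ _
      · exact (isRoot_sr _ _ _).neg
    have hyr : IsRoot cs (isCartan 3) y := by
      rcases hy with rfl | rfl
      · exact isRoot_sr _ _ _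
      · exact (isRoot_sr _ _ _).neg
    have s00 : sr (0 : Fin 3) 0 = 1 := by decide +kernel
    have s20 : sr (2 : Fin 3) 0 = 0 := by decide +kernel
    have hne : x ≠ y ∧ x ≠ -y := by
      constructor <;> intro e <;> have e0 := congrFun e 0 <;>
        rcases hx with rfl | rfl <;> rcases hy with rfl | rfl <;>
        simp only [Pi.neg_apply, s00, s20] at e0 <;> omega
    have h1 := (rgdS (F := F)).comm x y hxr hyr hne.1 hne.2 u hu v hv
    rw [btw_eq_bot hx hy, Subgroup.mem_bot, commutatorElement_eq_one_iff_mul_comm] at h1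
    exact h1.symm
  have h0 : XS F (sr 0) ⊔ XS F (-sr 0) ≤ Subgroup.normalizer ((XS F (sr 2) ⊔ XS F (-sr 2) : Subgroup (PSp 3 F)) : Set (PSp 3 F)) := by
    refine le_trans ?_ (Subgroup.centralizer_le_normalizer _)
    rw [Subgroup.le_centralizer_iff]
    refine sup_le ?_ ?_ <;> rw [Subgroup.le_centralizer_iff] <;> refine sup_le ?_ ?_
    · exact hcomm _ _ (Or.inl rfl) (Or.inl rfl)
    · exact hcomm _ _ (Or.inr rfl) (Or.inl rfl)
    · exact hcomm _ _ (Or.inl rfl) (Or.inr rfl)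
    · exact hcomm _ _ (Or.inr rfl) (Or.inr rfl)
  refine solvable_le (isSolvable_sup (solvable_node h2 0) (solvable_node h2 2) h0) (RGD.Sup_le fun x hx => ?_)
  have hx1 : x 1 = 0 := hx.2 1 (by simp)
  rcases not_both hx.1 hx1 with h | h
  · have h3 : x ∈ RootsJ cs (isCartan 3) {2} := ⟨hx.1, fun k hk => by
      fin_cases k
      · exact h
      · exact hx1
      · exact absurd rfl hk⟩
    rcases rootsJ_single 2 h3 with rfl | rfl
    · exact le_sup_left.trans le_sup_right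
    · exact le_sup_right.trans le_sup_right
  · have h3 : x ∈ RootsJ cs (isCartan 3) {0} := ⟨hx.1, fun k hk => by
      fin_cases k
      · exact absurd rfl hk
      · exact hx1
      · exact h⟩
    rcases rootsJ_single 0 h3 with rfl | rfl
    · exact le_sup_left.trans le_sup_left
    · exact le_sup_right.trans le_sup_left

theorem solvable_single (h2 : Fintype.card F = 2) (i : Fin 3) :
    Group.IsSolvable ↥(LJ cs (isCartan 3) (TS F) (XS F) ({i} : Set (Fin 3))) := by
  rw [LJ_eq h2, Sup_single]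
  exact solvable_node h2 i

/-! ### The quasisimple node sets -/

theorem nodeD_A (h2 : Fintype.card F = 2) : ∃ N, NodeD cs (isCartan 3) (TS F) (XS F) ({0, 1} : Set (Fin 3)) N ∧
    Nonempty (N ≃* ProjectiveSpecialLinearGroup (Fin 3) F) := by
  have h2p : Fact (Nat.Prime 2) := ⟨Nat.prime_two⟩
  have hfin : Finite (ProjectiveSpecialLinearGroup (Fin 3) F) := Quotient.finite _
  have hsimple : IsSimpleGroup (ProjectiveSpecialLinearGroup (Fin 3) F) := simple_psl (F := F) 0
  have hnc : ¬ IsMulCommutative (ProjectiveSpecialLinearGroup (Fin 3) F) := not_comm_psl (F := F) 0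
  have hφi : Function.Injective (phiA F) := (toPSp_injective h2).comp lin_injective
  let e1 : _root_.Matrix.SpecialLinearGroup (Fin 3) F ≃* ProjectiveSpecialLinearGroup (Fin 3) F :=
    MulEquiv.ofBijective (Nodes.RGDTypeA.pr 2 F) ⟨pr_injective h2, Nodes.RGDTypeA.pr_surjective⟩
  let e2 : _root_.Matrix.SpecialLinearGroup (Fin 3) F ≃* (phiA F).range := MonoidHom.ofInjective hφi
  let e : ProjectiveSpecialLinearGroup (Fin 3) F ≃* (phiA F).range := e1.symm.trans e2
  refine ⟨(phiA F).range, ⟨range_phiA.le, ?_, ?_, ⊥, ?_, bot_le, bot_le, ?_⟩, ⟨e.symm⟩⟩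
  · exact QTKE.isQuasisimple_congr e (isQuasisimple_of_simple _ hnc)
  · rw [← Lib.Cores.map_equiv_pCore e 2, pCore_of_simple 2 _ hnc, Subgroup.map_bot]
  · infer_instance
  · rw [LJ_eq h2, bot_sup_eq]
    exact range_phiA.ge

theorem nodeD_B (h2 : Fintype.card F = 2) : ∃ N, NodeD cs (isCartan 3) (TS F) (XS F) ({1, 2} : Set (Fin 3)) N ∧
    Nonempty (N ≃* alternatingGroup (Fin 6)) := by
  have h2p : Fact (Nat.Prime 2) := ⟨Nat.prime_two⟩
  obtain ⟨e⟩ := exists_equiv_B h2
  set H := RGD.Sup (XS F) (RootsJ cs (isCartan 3) {1, 2}) with hH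
  have hsimple : IsSimpleGroup (alternatingGroup (Fin 6)) := alternatingGroup.isSimpleGroup (by simp)
  have hnc : ¬ IsMulCommutative (alternatingGroup (Fin 6)) := by
    intro h
    have h1 : (1 : ℕ) = 1 := rfl
    have key : ¬ ∀ a b : alternatingGroup (Fin 6), a * b = b * a := by
      intro hc
      have h3 := hc ⟨Equiv.swap (0 : Fin 6) 1 * Equiv.swap (1 : Fin 6) 2, by
          rw [Equiv.Perm.mem_alternatingGroup]; decide +kernel⟩ ⟨Equiv.swap (0 : Fin 6) 1 * Equiv.swap (1 : Fin 6) 3, by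
          rw [Equiv.Perm.mem_alternatingGroup]; decide +kernel⟩
      have h4 : (Equiv.swap (0 : Fin 6) 1 * Equiv.swap (1 : Fin 6) 2 : Equiv.Perm (Fin 6)) * (Equiv.swap (0 : Fin 6) 1 * Equiv.swap (1 : Fin 6) 3) =
        (Equiv.swap (0 : Fin 6) 1 * Equiv.swap (1 : Fin 6) 3) * (Equiv.swap (0 : Fin 6) 1 * Equiv.swap (1 : Fin 6) 2) := congrArg Subtype.val h3
      revert h4
      decide +kernel
    exact key h.is_comm.comm
  set N' : Subgroup H := (alternatingGroup (Fin 6)).map e.symm.toMonoidHom with hN'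
  set N : Subgroup (PSp 3 F) := N'.map H.subtype with hN
  let f1 : alternatingGroup (Fin 6) ≃* N' := e.symm.subgroupMap (alternatingGroup (Fin 6))
  let f2 : N' ≃* N := N'.equivMapOfInjective H.subtype H.subtype_injective
  let f : alternatingGroup (Fin 6) ≃* N := f1.trans f2
  have hNH : N ≤ H := Subgroup.map_subtype_le N'
  have hN'n : N'.Normal := Subgroup.Normal.map inferInstance _ e.symm.surjective
  have hnorm : H ≤ Subgroup.normalizer (N : Set (PSp 3 F)) := by
    refine Subgroup.normal_subgroupOf_iff_le_normalizer hNH |>.1 ?_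
    have h5 : N.subgroupOf H = N' := by
      rw [hN, Subgroup.subgroupOf, Subgroup.comap_map_eq_self_of_injective H.subtype_injective]
    rw [h5]
    exact hN'n
  set s : H := e.symm (Equiv.swap (0 : Fin 6) 1) with hs
  have hle : Subgroup.zpowers (s : PSp 3 F) ≤ H := by
    rw [Subgroup.zpowers_le]
    exact s.2
  refine ⟨N, ⟨hNH, ?_, ?_, Subgroup.zpowers (s : PSp 3 F), ?_, ?_, ?_, ?_⟩, ⟨f.symm⟩⟩
  · exact QTKE.isQuasisimple_congr f (isQuasisimple_of_simple _ hnc)
  · rw [← Lib.Cores.map_equiv_pCore f 2, pCore_of_simple 2 _ hnc, Subgroup.map_bot]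
  · exact Group.isSolvable_of_comm fun x y => IsMulCommutative.is_comm.comm x y
  · rw [LJ_eq h2]
    exact hle
  · exact hle.trans hnorm
  · rw [LJ_eq h2]
    intro x hx
    by_cases h : e ⟨x, hx⟩ ∈ alternatingGroup (Fin 6)
    · refine Subgroup.mem_sup_right ⟨⟨x, hx⟩, ⟨e ⟨x, hx⟩, h, ?_⟩, rfl⟩
      exact e.symm_apply_apply _
    · have h3 : Equiv.swap (0 : Fin 6) 1 * e ⟨x, hx⟩ ∈ alternatingGroup (Fin 6) := by
        rw [Equiv.Perm.mem_alternatingGroup] at h ⊢
        rw [Equiv.Perm.sign_mul, Equiv.Perm.sign_swap (by decide)]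
        rcases Int.units_eq_one_or (Equiv.Perm.sign (e ⟨x, hx⟩)) with h4 | h4
        · exact absurd h4 h
        · rw [h4]
          rfl
      have h4 : (s * ⟨x, hx⟩ : H) ∈ N' := ⟨_, h3, by
        change e.symm (Equiv.swap (0 : Fin 6) 1 * e ⟨x, hx⟩) = _
        rw [map_mul, e.symm_apply_apply]⟩
      have h5 : (s : PSp 3 F) * x ∈ N := ⟨_, h4, rfl⟩
      have e3 : x = (s : PSp 3 F)⁻¹ * ((s : PSp 3 F) * x) := by group
      rw [e3]
      exact mul_mem (Subgroup.mem_sup_left (inv_mem (Subgroup.mem_zpowers _))) (Subgroup.mem_sup_right h5)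

/-- the types of the row -/
def QS (F : Type) [Field F] : Bool → Type
  | true => ProjectiveSpecialLinearGroup (Fin 3) F
  | false => alternatingGroup (Fin 6)

noncomputable instance instGroupQS (F : Type) [Field F] : ∀ b, Group (QS F b)
  | true => inferInstanceAs (Group (ProjectiveSpecialLinearGroup (Fin 3) F))
  | false => inferInstanceAs (Group (alternatingGroup (Fin 6)))

theorem rowL_spSix (h2 : Fintype.card F = 2) : RowL (QS F) (PSp 3 F) := by
  obtain ⟨Φ, hF⟩ := exists_filtS (F := F)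
  have : Finite (CoxeterMatrix.B 3).Group := finite_W cs
  have : Finite (PSp 3 F) := Quotient.finite _
  refine rowL_of_rgd hF G1S fun J hJ => ?_
  obtain ⟨k, hk⟩ : ∃ k, k ∉ J := by
    by_contra h4
    push Not at h4
    exact hJ (Set.eq_univ_iff_forall.2 h4)
  have hsub : ∀ i j : Fin 3, (∀ x, x ∈ J → x = i ∨ x = j) → J = {i, j} ∨ J ⊆ {i} ∨ J ⊆ {j} := by
    intro i j h
    by_cases hi : i ∈ J
    · by_cases hj : j ∈ J
      · left
        ext x
        simp only [Set.mem_insert_iff, Set.mem_singleton_iff]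
        exact ⟨h x, by rintro (rfl | rfl) <;> assumption⟩
      · right; left
        intro x hx
        rcases h x hx with rfl | rfl
        · rfl
        · exact absurd hx hj
    · right; right
      intro x hx
      rcases h x hx with rfl | rfl
      · exact absurd hx hi
      · rfl
  have hsol : ∀ i : Fin 3, J ⊆ {i} → Group.IsSolvable ↥(LJ cs (isCartan 3) (TS F) (XS F) J) := fun i h =>
    solvable_le (solvable_single h2 i) (LJ_mono h)
  fin_cases k
  · rcases hsub 1 2 (fun x hx => by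
      fin_cases x
      · exact absurd hx hk
      · exact Or.inl rfl
      · exact Or.inr rfl) with rfl | h | h
    · obtain ⟨N, hN, hq⟩ := nodeD_B h2
      exact Or.inr ⟨N, hN, false, hq⟩
    · exact Or.inl (hsol _ h)
    · exact Or.inl (hsol _ h)
  · left
    refine solvable_le (solvable_02 h2) (LJ_mono fun x hx => ?_)
    fin_cases x
    · simp
    · exact absurd hx hk
    · simp
  · rcases hsub 0 1 (fun x hx => by
      fin_cases x
      · exact Or.inl rfl
      · exact Or.inr rfl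
      · exact absurd hx hk) with rfl | h | h
    · obtain ⟨N, hN, hq⟩ := nodeD_A h2
      exact Or.inr ⟨N, hN, true, hq⟩
    · exact Or.inl (hsol _ h)
    · exact Or.inl (hsol _ h)

/-- **row `Sp₆(2)`**: `L/O₂(L)` is `L₃(2)` or `A₆` -/
theorem row_spSix {G : Type v} [Group G] [Finite G] (h2 : Fintype.card F = 2) (e : G ≃* PSp 3 F) : RowL (QS F) G :=
  RowL.congr e (rowL_spSix h2)

end Cfsg.Agent.H1.SpSix
end

private theorem dce_f4b1ef839de6 : _root_.True := by
  try have : _root_.True := by simp only [_root_.Cfsg.Agent.H1.SpEmb.sx.eq_1]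
  exact _root_.True.intro
end

-- part: H4/U43/Row
section
prune_inst 0x1303034492212000000059611003c02de000190002b8001d1e00f46068efd6000022f60cc801f02182aa20c00310068134c00d00050000024000400411d00a080aa5206b348a10425000f80b084480c00000000000000000000000000041004000000000
set_option linter.all false
open scoped Cfsg.Agent.FastGrp

-- part: H4/U43/Model
section
/-!
# The Sylow 2-subgroup of `U₄(3)` in the Boolean model (helper4)

`T₀ = {ev t | P0 t}`, `A₁ = ⟨z, i k, j l, s⟩ = {ev t | K1 t}`, `A₂ = ⟨z, i l, j k, y s⟩ = {ev t | K2 t}`: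
the elementary abelian subgroups of order 16 of `T₀` are `A₁`, `A₂`, and they are self-centralizing.
-/

set_option autoImplicit false

namespace Cfsg.Agent.H4.U43

open Cfsg.Agent.LargeExtra.W2.CM Cfsg.Agent.LargeExtra.W2.U43 Cfsg.Agent.LargeExtra.W2.U43.ExistsD

/-- elements of the Sylow subgroup -/
def P0 (t : T) : Bool := C3.eqb t.m C3.o && C3.eqb t.n C3.o

/-- elements of `A₁` -/
def K1 (t : T) : Bool := P0 t && ((t.w.a == t.w.c) && ((t.w.b == t.w.d) && !t.e))

/-- elements of `A₂` -/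
def K2 (t : T) : Bool := P0 t && ((t.w.a == t.w.d) && ((t.w.b == t.w.c) && (t.e == t.f)))

theorem P0.eq {t : T} (h : P0 t = true) : t = ⟨t.w, C3.o, C3.o, t.e, t.f⟩ := by
  obtain ⟨w, m, n, e, f⟩ := t
  simp only [P0, Bool.and_eq_true] at h
  rw [C3.eq_of_eqb _ _ h.1, C3.eq_of_eqb _ _ h.2]

theorem K1.eq {t : T} (h : K1 t = true) : t = ⟨⟨t.w.s, t.w.a, t.w.b, t.w.a, t.w.b⟩, C3.o, C3.o, false, t.f⟩ := by
  obtain ⟨⟨s, a, b, c, d⟩, m, n, e, f⟩ := t
  simp only [K1, P0, Bool.and_eq_true, beq_iff_eq, Bool.not_eq_true'] at h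
  obtain ⟨⟨h1, h2⟩, h3, h4, h5⟩ := h
  subst h3 h4 h5
  rw [C3.eq_of_eqb _ _ h1, C3.eq_of_eqb _ _ h2]

theorem K2.eq {t : T} (h : K2 t = true) : t = ⟨⟨t.w.s, t.w.a, t.w.b, t.w.b, t.w.a⟩, C3.o, C3.o, t.f, t.f⟩ := by
  obtain ⟨⟨s, a, b, c, d⟩, m, n, e, f⟩ := t
  simp only [K2, P0, Bool.and_eq_true, beq_iff_eq] at h
  obtain ⟨⟨h1, h2⟩, h3, h4, h5⟩ := h
  subst h3 h4 h5
  rw [C3.eq_of_eqb _ _ h1, C3.eq_of_eqb _ _ h2]

/-- quantification over the Sylow subgroup -/
def allP (P : T → Bool) : Bool :=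
  allB fun s => allB fun a => allB fun b => allB fun c => allB fun d => allB fun e => allB fun f =>
    P ⟨⟨s, a, b, c, d⟩, C3.o, C3.o, e, f⟩

theorem allP_spec {P : T → Bool} (h : allP P = true) {t : T} (ht : P0 t = true) : P t = true := by
  rw [P0.eq ht]
  obtain ⟨⟨s, a, b, c, d⟩, m, n, e, f⟩ := t
  exact allB_spec (allB_spec (allB_spec (allB_spec (allB_spec (allB_spec (allB_spec h s) a) b) c) d) e) f

/-- `T₀` is closed under multiplication -/
theorem P0.mul {t u : T} (ht : P0 t = true) (hu : P0 u = true) : P0 (mu t u) = true := by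
  rw [P0.eq ht, P0.eq hu]
  obtain ⟨⟨s, a, b, c, d⟩, m, n, e, f⟩ := t
  obtain ⟨⟨s', a', b', c', d'⟩, m', n', e', f'⟩ := u
  cases e <;> cases f <;> rfl

/-- involutions of `T₀` outside `Q` -/
theorem fD1 : allP (fun t => !(T.beq (mu t t) T.one) || ((!t.e && !t.f) || ((K1 t && t.f) || (K2 t && t.e)))) = true := by
  decide +kernel

theorem D1 {t : T} (ht : P0 t = true) (h2 : mu t t = T.one) : (t.e = false ∧ t.f = false) ∨
    (K1 t = true ∧ t.f = true) ∨ (K2 t = true ∧ t.e = true) := by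
  have h := allP_spec fD1 ht
  simp only [Bool.or_eq_true, Bool.not_eq_true', Bool.and_eq_true] at h
  rcases h with h | h | h | h
  · rw [← Bool.not_eq_true, T.beq_iff] at h
    exact absurd h2 h
  · exact Or.inl h
  · exact Or.inr (Or.inl h)
  · exact Or.inr (Or.inr h)

private noncomputable def _root_.Cfsg.Agent.LsF.fecde6b_0 : {f // @Cfsg.Agent.LargeExtra.W2.CM.allB = f} := ⟨_, by first | (delta Cfsg.Agent.LargeExtra.W2.CM.allB; rewrite [Cfsg.Agent.LsF.and_eq]; exact rfl) | exact rfl⟩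
private noncomputable def _root_.Cfsg.Agent.LsF.fecde6b_1 : {f // @Cfsg.Agent.H4.U43.allP = f} := ⟨_, by first | (delta Cfsg.Agent.H4.U43.allP; rewrite [Cfsg.Agent.LsF.fecde6b_0.2]; exact rfl) | exact rfl⟩
private noncomputable def _root_.Cfsg.Agent.LsF.fecde6b_2 : {f // @Cfsg.Agent.LargeExtra.W2.CM.Qt.beq = f} := ⟨_, by first | (delta Cfsg.Agent.LargeExtra.W2.CM.Qt.beq; rewrite [Cfsg.Agent.LsF.bbeq_pat, Cfsg.Agent.LsF.and_eq]; exact rfl) | exact rfl⟩
private noncomputable def _root_.Cfsg.Agent.LsF.fecde6b_3 : {f // @Cfsg.Agent.LargeExtra.W2.CM.C3.eqb = f} := ⟨_, by first | (delta Cfsg.Agent.LargeExtra.W2.CM.C3.eqb; (try delta Cfsg.Agent.LargeExtra.W2.CM.C3.eqb.match_1); (try delta Cfsg.Agent.LargeExtra.W2.CM.C3.eqb._sparseCasesOn_1); (try delta Cfsg.Agent.LargeExtra.W2.CM.C3.eqb._sparseCasesOn_2); (try delta Cfsg.Agent.LargeExtra.W2.CM.C3.eqb._sparseCasesOn_3); (try delta Cfsg.Agent.LargeExtra.W2.CM.C3.casesOn); exact rfl) | exact rfl⟩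
private noncomputable def _root_.Cfsg.Agent.LsF.fecde6b_4 : {f // @Cfsg.Agent.LargeExtra.W2.CM.T.beq = f} := ⟨_, by first | (delta Cfsg.Agent.LargeExtra.W2.CM.T.beq; rewrite [Cfsg.Agent.LsF.fecde6b_2.2, Cfsg.Agent.LsF.fecde6b_3.2, Cfsg.Agent.LsF.bbeq_pat, Cfsg.Agent.LsF.and_eq]; exact rfl) | exact rfl⟩
private noncomputable def _root_.Cfsg.Agent.LsF.fecde6b_5 : {f // @Cfsg.Agent.LargeExtra.W2.CM.Qt.sg = f} := ⟨_, by first | (delta Cfsg.Agent.LargeExtra.W2.CM.Qt.sg; rewrite [Cfsg.Agent.LsF.bxor_eq]; exact rfl) | exact rfl⟩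
private noncomputable def _root_.Cfsg.Agent.LsF.fecde6b_6 : {f // @Cfsg.Agent.LargeExtra.W2.CM.Qt.mul = f} := ⟨_, by first | (delta Cfsg.Agent.LargeExtra.W2.CM.Qt.mul; rewrite [Cfsg.Agent.LsF.and_eq, Cfsg.Agent.LsF.bxor_eq]; exact rfl) | exact rfl⟩
private noncomputable def _root_.Cfsg.Agent.LsF.fecde6b_7 : {f // @Cfsg.Agent.LargeExtra.W2.CM.Qt.x1 = f} := ⟨_, by first | (delta Cfsg.Agent.LargeExtra.W2.CM.Qt.x1; rewrite [Cfsg.Agent.LsF.bxor_eq]; exact rfl) | exact rfl⟩
private noncomputable def _root_.Cfsg.Agent.LsF.fecde6b_8 : {f // @Cfsg.Agent.LargeExtra.W2.CM.Qt.X1 = f} := ⟨_, by first | (delta Cfsg.Agent.LargeExtra.W2.CM.Qt.X1; rewrite [Cfsg.Agent.LsF.fecde6b_7.2]; (try delta Cfsg.Agent.LargeExtra.W2.CM.C3.neg.match_1); (try delta Cfsg.Agent.LargeExtra.W2.CM.C3.casesOn); exact rfl) | exact rfl⟩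
private noncomputable def _root_.Cfsg.Agent.LsF.fecde6b_9 : {f // @Cfsg.Agent.LargeExtra.W2.CM.Qt.x2 = f} := ⟨_, by first | (delta Cfsg.Agent.LargeExtra.W2.CM.Qt.x2; rewrite [Cfsg.Agent.LsF.bxor_eq]; exact rfl) | exact rfl⟩
private noncomputable def _root_.Cfsg.Agent.LsF.fecde6b_10 : {f // @Cfsg.Agent.LargeExtra.W2.CM.Qt.X2 = f} := ⟨_, by first | (delta Cfsg.Agent.LargeExtra.W2.CM.Qt.X2; rewrite [Cfsg.Agent.LsF.fecde6b_9.2]; (try delta Cfsg.Agent.LargeExtra.W2.CM.C3.neg.match_1); (try delta Cfsg.Agent.LargeExtra.W2.CM.C3.casesOn); exact rfl) | exact rfl⟩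
private noncomputable def _root_.Cfsg.Agent.LsF.fecde6b_11 : {f // @Cfsg.Agent.LargeExtra.W2.CM.Qt.y = f} := ⟨_, by first | (delta Cfsg.Agent.LargeExtra.W2.CM.Qt.y; rewrite [Cfsg.Agent.LsF.or_eq, Cfsg.Agent.LsF.bxor_eq]; exact rfl) | exact rfl⟩
private noncomputable def _root_.Cfsg.Agent.LsF.fecde6b_12 : {f // @Cfsg.Agent.LargeExtra.W2.CM.Qt.Y = f} := ⟨_, by first | (delta Cfsg.Agent.LargeExtra.W2.CM.Qt.Y; rewrite [Cfsg.Agent.LsF.fecde6b_11.2, Cfsg.Agent.LsF.cond_eq]; exact rfl) | exact rfl⟩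
private noncomputable def _root_.Cfsg.Agent.LsF.fecde6b_13 : {f // @Cfsg.Agent.LargeExtra.W2.CM.Qt.S = f} := ⟨_, by first | (delta Cfsg.Agent.LargeExtra.W2.CM.Qt.S; rewrite [Cfsg.Agent.LsF.cond_eq]; exact rfl) | exact rfl⟩
private noncomputable def _root_.Cfsg.Agent.LsF.fecde6b_14 : {f // @Cfsg.Agent.LargeExtra.W2.CM.C3.add = f} := ⟨_, by first | (delta Cfsg.Agent.LargeExtra.W2.CM.C3.add; (try delta Cfsg.Agent.LargeExtra.W2.CM.C3.add.match_1); (try delta Cfsg.Agent.LargeExtra.W2.CM.C3.casesOn); exact rfl) | exact rfl⟩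
private noncomputable def _root_.Cfsg.Agent.LsF.fecde6b_15 : {f // @Cfsg.Agent.LargeExtra.W2.CM.C3.neg = f} := ⟨_, by first | (delta Cfsg.Agent.LargeExtra.W2.CM.C3.neg; (try delta Cfsg.Agent.LargeExtra.W2.CM.C3.neg.match_1); (try delta Cfsg.Agent.LargeExtra.W2.CM.C3.casesOn); exact rfl) | exact rfl⟩
private noncomputable def _root_.Cfsg.Agent.LsF.fecde6b_16 : {f // @Cfsg.Agent.LargeExtra.W2.CM.ng = f} := ⟨_, by first | (delta Cfsg.Agent.LargeExtra.W2.CM.ng; rewrite [Cfsg.Agent.LsF.fecde6b_15.2, Cfsg.Agent.LsF.cond_eq]; exact rfl) | exact rfl⟩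
private noncomputable def _root_.Cfsg.Agent.LsF.fecde6b_17 : {f // @Cfsg.Agent.LargeExtra.W2.CM.T.mul = f} := ⟨_, by first | (delta Cfsg.Agent.LargeExtra.W2.CM.T.mul; rewrite [Cfsg.Agent.LsF.fecde6b_5.2, Cfsg.Agent.LsF.fecde6b_6.2, Cfsg.Agent.LsF.fecde6b_8.2, Cfsg.Agent.LsF.fecde6b_10.2, Cfsg.Agent.LsF.fecde6b_12.2, Cfsg.Agent.LsF.fecde6b_13.2, Cfsg.Agent.LsF.fecde6b_14.2, Cfsg.Agent.LsF.fecde6b_16.2, Cfsg.Agent.LsF.and_eq, Cfsg.Agent.LsF.cond_eq, Cfsg.Agent.LsF.bxor_eq]; exact rfl) | exact rfl⟩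
private noncomputable def _root_.Cfsg.Agent.LsF.fecde6b_18 : {f // @Cfsg.Agent.LargeExtra.W2.U43.ExistsD.mu = f} := ⟨_, by first | (delta Cfsg.Agent.LargeExtra.W2.U43.ExistsD.mu; rewrite [Cfsg.Agent.LsF.fecde6b_17.2]; exact rfl) | exact rfl⟩
private noncomputable def _root_.Cfsg.Agent.LsF.fecde6b_19 : {f // @Cfsg.Agent.H4.U43.P0 = f} := ⟨_, by first | (delta Cfsg.Agent.H4.U43.P0; rewrite [Cfsg.Agent.LsF.fecde6b_3.2, Cfsg.Agent.LsF.and_eq]; exact rfl) | exact rfl⟩
private noncomputable def _root_.Cfsg.Agent.LsF.fecde6b_20 : {f // @Cfsg.Agent.H4.U43.K1 = f} := ⟨_, by first | (delta Cfsg.Agent.H4.U43.K1; rewrite [Cfsg.Agent.LsF.fecde6b_19.2, Cfsg.Agent.LsF.bbeq_pat, Cfsg.Agent.LsF.and_eq, Cfsg.Agent.LsF.not_eq]; exact rfl) | exact rfl⟩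
theorem fD2 : (allB fun s => allB fun a => allB fun b => allP fun t =>
    !(T.beq (mu t t) T.one) || (!(T.beq (mu t ⟨⟨s, a, b, a, b⟩, C3.o, C3.o, false, true⟩)
      (mu ⟨⟨s, a, b, a, b⟩, C3.o, C3.o, false, true⟩ t)) || K1 t)) = true := by
  ((try (rewrite [Cfsg.Agent.LsF.fecde6b_0.2, Cfsg.Agent.LsF.fecde6b_1.2, Cfsg.Agent.LsF.fecde6b_4.2, Cfsg.Agent.LsF.fecde6b_18.2, Cfsg.Agent.LsF.fecde6b_20.2, Cfsg.Agent.LsF.or_eq, Cfsg.Agent.LsF.not_eq])); decide +kernel)

theorem D2 {t u : T} (hu : K1 u = true) (huf : u.f = true) (ht : P0 t = true) (h2 : mu t t = T.one)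
    (hc : mu t u = mu u t) : K1 t = true := by
  rw [K1.eq hu, huf] at hc
  have h := allP_spec (allB_spec (allB_spec (allB_spec fD2 u.w.s) u.w.a) u.w.b) ht
  simp only [Bool.or_eq_true, Bool.not_eq_true'] at h
  rcases h with h | h | h
  · rw [← Bool.not_eq_true, T.beq_iff] at h
    exact absurd h2 h
  · rw [← Bool.not_eq_true, T.beq_iff] at h
    exact absurd hc h
  · exact h

private noncomputable def _root_.Cfsg.Agent.LsF.fecde6b_21 : {f // @Cfsg.Agent.H4.U43.K2 = f} := ⟨_, by first | (delta Cfsg.Agent.H4.U43.K2; rewrite [Cfsg.Agent.LsF.fecde6b_19.2, Cfsg.Agent.LsF.bbeq_pat, Cfsg.Agent.LsF.and_eq]; exact rfl) | exact rfl⟩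
theorem fD2' : (allB fun s => allB fun a => allB fun b => allP fun t =>
    !(T.beq (mu t t) T.one) || (!(T.beq (mu t ⟨⟨s, a, b, b, a⟩, C3.o, C3.o, true, true⟩)
      (mu ⟨⟨s, a, b, b, a⟩, C3.o, C3.o, true, true⟩ t)) || K2 t)) = true := by
  ((try (rewrite [Cfsg.Agent.LsF.fecde6b_0.2, Cfsg.Agent.LsF.fecde6b_1.2, Cfsg.Agent.LsF.fecde6b_4.2, Cfsg.Agent.LsF.fecde6b_18.2, Cfsg.Agent.LsF.fecde6b_21.2, Cfsg.Agent.LsF.or_eq, Cfsg.Agent.LsF.not_eq])); decide +kernel)

theorem D2' {t u : T} (hu : K2 u = true) (hue : u.e = true) (ht : P0 t = true) (h2 : mu t t = T.one)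
    (hc : mu t u = mu u t) : K2 t = true := by
  have huf : u.f = true := by
    have h1 := congrArg T.e (K2.eq hu)
    have h3 : u.e = u.f := h1
    rw [← h3, hue]
  rw [K2.eq hu, huf] at hc
  have h := allP_spec (allB_spec (allB_spec (allB_spec fD2' u.w.s) u.w.a) u.w.b) ht
  simp only [Bool.or_eq_true, Bool.not_eq_true'] at h
  rcases h with h | h | h
  · rw [← Bool.not_eq_true, T.beq_iff] at h
    exact absurd h2 h
  · rw [← Bool.not_eq_true, T.beq_iff] at h
    exact absurd hc h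
  · exact h

/-- commuting elements of square one of `Q` with the same exponents `s, a, b` -/
theorem fD3 : (allB fun s => allB fun a => allB fun b => allB fun c => allB fun d => allB fun c' => allB fun d' =>
    !(T.beq (mu ⟨⟨s, a, b, c, d⟩, C3.o, C3.o, false, false⟩ ⟨⟨s, a, b, c, d⟩, C3.o, C3.o, false, false⟩) T.one) ||
    (!(T.beq (mu ⟨⟨s, a, b, c', d'⟩, C3.o, C3.o, false, false⟩ ⟨⟨s, a, b, c', d'⟩, C3.o, C3.o, false, false⟩)
      T.one) ||
    (!(T.beq (mu ⟨⟨s, a, b, c, d⟩, C3.o, C3.o, false, false⟩ ⟨⟨s, a, b, c', d'⟩, C3.o, C3.o, false, false⟩)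
      (mu ⟨⟨s, a, b, c', d'⟩, C3.o, C3.o, false, false⟩ ⟨⟨s, a, b, c, d⟩, C3.o, C3.o, false, false⟩)) ||
    ((c == c') && (d == d'))))) = true := by
  decide +kernel

theorem D3 {t u : T} (ht : P0 t = true) (hu : P0 u = true) (hte : t.e = false) (htf : t.f = false)
    (hue : u.e = false) (huf : u.f = false) (ht2 : mu t t = T.one) (hu2 : mu u u = T.one)
    (hc : mu t u = mu u t) (h1 : t.w.s = u.w.s) (h2 : t.w.a = u.w.a) (h3 : t.w.b = u.w.b) : t = u := by
  obtain ⟨⟨s, a, b, c, d⟩, m, n, e, f⟩ := t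
  obtain ⟨⟨s', a', b', c', d'⟩, m', n', e', f'⟩ := u
  simp only [P0, Bool.and_eq_true] at ht hu
  have e1 := C3.eq_of_eqb _ _ ht.1
  have e2 := C3.eq_of_eqb _ _ ht.2
  have e3 := C3.eq_of_eqb _ _ hu.1
  have e4 := C3.eq_of_eqb _ _ hu.2
  subst e1 e2 e3 e4
  dsimp only at hte htf hue huf h1 h2 h3
  subst hte htf hue huf h1 h2 h3
  have h := allB_spec (allB_spec (allB_spec (allB_spec (allB_spec (allB_spec (allB_spec fD3 s) a) b) c) d) c') d'
  simp only [Bool.or_eq_true, Bool.not_eq_true', Bool.and_eq_true, beq_iff_eq] at h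
  rcases h with h | h | h | h
  · rw [← Bool.not_eq_true, T.beq_iff] at h
    exact absurd ht2 h
  · rw [← Bool.not_eq_true, T.beq_iff] at h
    exact absurd hu2 h
  · rw [← Bool.not_eq_true, T.beq_iff] at h
    exact absurd hc h
  · obtain ⟨rfl, rfl⟩ := h
    rfl

private noncomputable def _root_.Cfsg.Agent.LsF.fecde6b_22 : {f // @Cfsg.Agent.LargeExtra.W2.CM.all3 = f} := ⟨_, by first | (delta Cfsg.Agent.LargeExtra.W2.CM.all3; rewrite [Cfsg.Agent.LsF.and_eq]; exact rfl) | exact rfl⟩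
private noncomputable def _root_.Cfsg.Agent.LsF.fecde6b_23 : {f // @Cfsg.Agent.LargeExtra.W2.CM.allT = f} := ⟨_, by first | (delta Cfsg.Agent.LargeExtra.W2.CM.allT; rewrite [Cfsg.Agent.LsF.fecde6b_0.2, Cfsg.Agent.LsF.fecde6b_22.2]; exact rfl) | exact rfl⟩
private noncomputable def _root_.Cfsg.Agent.LsF.fecde6b_24 : {f // @Cfsg.Agent.LargeExtra.W2.U43.ExistsD.tik = f} := ⟨_, by first | (delta Cfsg.Agent.LargeExtra.W2.U43.ExistsD.tik; rewrite [Cfsg.Agent.LsF.fecde6b_18.2]; exact rfl) | exact rfl⟩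
private noncomputable def _root_.Cfsg.Agent.LsF.fecde6b_25 : {f // @Cfsg.Agent.LargeExtra.W2.U43.ExistsD.tjl = f} := ⟨_, by first | (delta Cfsg.Agent.LargeExtra.W2.U43.ExistsD.tjl; rewrite [Cfsg.Agent.LsF.fecde6b_18.2]; exact rfl) | exact rfl⟩
/-- `A₁` is self-centralizing -/
theorem fE1 : allT (fun t => !(T.beq (mu t tik) (mu tik t)) || (!(T.beq (mu t tjl) (mu tjl t)) ||
    (!(T.beq (mu t ts) (mu ts t)) || K1 t))) = true := by ((try (rewrite [Cfsg.Agent.LsF.fecde6b_23.2, Cfsg.Agent.LsF.fecde6b_4.2, Cfsg.Agent.LsF.fecde6b_18.2, Cfsg.Agent.LsF.fecde6b_24.2, Cfsg.Agent.LsF.fecde6b_25.2, Cfsg.Agent.LsF.fecde6b_20.2, Cfsg.Agent.LsF.or_eq, Cfsg.Agent.LsF.not_eq])); decide +kernel)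

theorem E1 {t : T} (h1 : mu t tik = mu tik t) (h2 : mu t tjl = mu tjl t) (h3 : mu t ts = mu ts t) : K1 t = true := by
  have h := allT_spec fE1 t
  simp only [Bool.or_eq_true, Bool.not_eq_true'] at h
  rcases h with h | h | h | h
  · rw [← Bool.not_eq_true, T.beq_iff] at h
    exact absurd h1 h
  · rw [← Bool.not_eq_true, T.beq_iff] at h
    exact absurd h2 h
  · rw [← Bool.not_eq_true, T.beq_iff] at h
    exact absurd h3 h
  · exact h

/-- `A₂` is self-centralizing -/
theorem fE2 : allT (fun t => !(T.beq (mu t (mu ti tl)) (mu (mu ti tl) t)) ||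
    (!(T.beq (mu t (mu tj tk)) (mu (mu tj tk) t)) ||
    (!(T.beq (mu t (mu ty ts)) (mu (mu ty ts) t)) || K2 t))) = true := by ((try (rewrite [Cfsg.Agent.LsF.fecde6b_23.2, Cfsg.Agent.LsF.fecde6b_4.2, Cfsg.Agent.LsF.fecde6b_18.2, Cfsg.Agent.LsF.fecde6b_21.2, Cfsg.Agent.LsF.or_eq, Cfsg.Agent.LsF.not_eq])); decide +kernel)

theorem E2 {t : T} (h1 : mu t (mu ti tl) = mu (mu ti tl) t) (h2 : mu t (mu tj tk) = mu (mu tj tk) t)
    (h3 : mu t (mu ty ts) = mu (mu ty ts) t) : K2 t = true := by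
  have h := allT_spec fE2 t
  simp only [Bool.or_eq_true, Bool.not_eq_true'] at h
  rcases h with h | h | h | h
  · rw [← Bool.not_eq_true, T.beq_iff] at h
    exact absurd h1 h
  · rw [← Bool.not_eq_true, T.beq_iff] at h
    exact absurd h2 h
  · rw [← Bool.not_eq_true, T.beq_iff] at h
    exact absurd h3 h
  · exact h

/-- `[ρ, ij]` is not in `A₁` -/
theorem fR : allT (fun t => !(K1 t) || !(T.beq (mu tr (mu ti tj)) (mu (mu t (mu ti tj)) tr))) = true := by
  decide +kernel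

theorem R1 {t : T} (ht : K1 t = true) : mu tr (mu ti tj) ≠ mu (mu t (mu ti tj)) tr := by
  have h := allT_spec fR t
  simp only [Bool.or_eq_true, Bool.not_eq_true'] at h
  rcases h with h | h
  · rw [ht] at h; exact absurd h (by decide)
  · rw [← Bool.not_eq_true, T.beq_iff] at h
    exact h

end Cfsg.Agent.H4.U43
end

-- part: H4/U43/Syl
section
/-!
# The Sylow 2-subgroup of `U₄(3)` (helper4)

`T₀ = ⟨i, j, k, l, y, s⟩` has order 128, and its elementary abelian subgroups of order 16 are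
`{ev t | K1 t}` and `{ev t | K2 t}`; they are self-centralizing.
-/

set_option autoImplicit false
set_option linter.unusedVariables false
set_option linter.unusedSectionVars false

namespace Cfsg.Agent.H4.U43

open Subgroup Cfsg.Agent.LargeExtra.W2.CM Cfsg.Agent.LargeExtra.W2.U43 Cfsg.Agent.LargeExtra.W2.U43.ExistsD
open Cfsg.Agent.H4.Row128

universe u

variable {G : Type u} [Group G] {Q : Subgroup G} {z i j k l x₁ x₂ y s : G}

/-- pairs of Booleans: the elements of the Sylow subgroup -/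
def p0Equiv : {t : T // P0 t = true} ≃ Bool × Bool × Bool × Bool × Bool × Bool × Bool where
  toFun t := ⟨t.1.w.s, t.1.w.a, t.1.w.b, t.1.w.c, t.1.w.d, t.1.e, t.1.f⟩
  invFun u := ⟨⟨⟨u.1, u.2.1, u.2.2.1, u.2.2.2.1, u.2.2.2.2.1⟩, C3.o, C3.o, u.2.2.2.2.2.1, u.2.2.2.2.2.2⟩, rfl⟩
  left_inv t := by
    obtain ⟨t, ht⟩ := t
    apply Subtype.ext
    exact (P0.eq ht).symm
  right_inv _ := rfl

theorem card_p0 : Nat.card {t : T // P0 t = true} = 128 := by
  rw [Nat.card_congr p0Equiv, Nat.card_eq_fintype_card]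
  rfl

section

variable [Finite G]

theorem exists_pow0 (h : Tw Q z i j k l x₁ x₂ y s) {t : T} (ht : P0 t = true) (n : ℕ) :
    ∃ u : T, P0 u = true ∧ (t.ev z i j k l x₁ x₂ y s) ^ n = u.ev z i j k l x₁ x₂ y s := by
  induction n with
  | zero => exact ⟨T.one, rfl, by rw [pow_zero, ev_one]⟩
  | succ n ih =>
    obtain ⟨u, hu, hu'⟩ := ih
    exact ⟨mu u t, P0.mul hu ht, by rw [pow_succ, hu', ev_mul h.rules]; rfl⟩

/-- the Sylow 2-subgroup -/
def T0 (h : Tw Q z i j k l x₁ x₂ y s) : Subgroup G where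
  carrier := {x | ∃ t : T, P0 t = true ∧ x = t.ev z i j k l x₁ x₂ y s}
  one_mem' := ⟨T.one, rfl, ev_one.symm⟩
  mul_mem' := by
    rintro _ _ ⟨t, ht, rfl⟩ ⟨u, hu, rfl⟩
    exact ⟨mu t u, P0.mul ht hu, ev_mul h.rules t u⟩
  inv_mem' := by
    rintro _ ⟨t, ht, rfl⟩
    obtain ⟨u, hu, hu'⟩ := exists_pow0 h ht (orderOf (t.ev z i j k l x₁ x₂ y s) - 1)
    refine ⟨u, hu, ?_⟩
    rw [← hu', inv_eq_iff_mul_eq_one, ← pow_succ', Nat.sub_add_cancel (orderOf_pos _), pow_orderOf_eq_one]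

theorem card_T0 (h : Tw Q z i j k l x₁ x₂ y s) : Nat.card ↥(T0 h) = 128 := by
  rw [← card_p0]
  refine (Nat.card_congr (Equiv.ofBijective (fun t : {t : T // P0 t = true} =>
    (⟨t.1.ev z i j k l x₁ x₂ y s, t.1, t.2, rfl⟩ : ↥(T0 h))) ⟨?_, ?_⟩)).symm
  · intro t u htu
    exact Subtype.ext (ev_inj h.toCase9aa h.rules (congrArg Subtype.val htu))
  · rintro ⟨x, t, ht, rfl⟩
    exact ⟨⟨t, ht⟩, rfl⟩

/-- **the elementary abelian subgroups of order 16** -/
theorem elem (h : Tw Q z i j k l x₁ x₂ y s) {U : Subgroup G} (hU : U ≤ T0 h)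
    (hc : ∀ a ∈ U, ∀ b ∈ U, a * b = b * a) (h2 : ∀ a ∈ U, a * a = 1) (h16 : Nat.card ↥U = 16) :
    (∀ x ∈ U, ∃ t : T, K1 t = true ∧ x = t.ev z i j k l x₁ x₂ y s) ∨
    (∀ x ∈ U, ∃ t : T, K2 t = true ∧ x = t.ev z i j k l x₁ x₂ y s) := by
  have R := h.rules
  have inj := ev_inj h.toCase9aa R
  have emul : ∀ t u : T, t.ev z i j k l x₁ x₂ y s * u.ev z i j k l x₁ x₂ y s =
    (mu t u).ev z i j k l x₁ x₂ y s := fun t u => ev_mul R t u
  have hsq : ∀ t : T, t.ev z i j k l x₁ x₂ y s ∈ U → mu t t = T.one := by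
    intro t ht
    apply inj
    show (mu t t).ev z i j k l x₁ x₂ y s = T.one.ev z i j k l x₁ x₂ y s
    rw [← emul, ev_one]
    exact h2 _ ht
  have hcm : ∀ t u : T, t.ev z i j k l x₁ x₂ y s ∈ U → u.ev z i j k l x₁ x₂ y s ∈ U → mu t u = mu u t := by
    intro t u ht hu
    apply inj
    show (mu t u).ev z i j k l x₁ x₂ y s = (mu u t).ev z i j k l x₁ x₂ y s
    rw [← emul, ← emul]
    exact hc _ ht _ hu
  by_cases hA : ∃ t : T, t.ev z i j k l x₁ x₂ y s ∈ U ∧ K1 t = true ∧ t.f = true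
  · obtain ⟨u, hu, hu1, hu2⟩ := hA
    left
    intro x hx
    obtain ⟨t, ht, rfl⟩ := hU hx
    exact ⟨t, D2 hu1 hu2 ht (hsq t hx) (hcm t u hx hu), rfl⟩
  by_cases hB : ∃ t : T, t.ev z i j k l x₁ x₂ y s ∈ U ∧ K2 t = true ∧ t.e = true
  · obtain ⟨u, hu, hu1, hu2⟩ := hB
    right
    intro x hx
    obtain ⟨t, ht, rfl⟩ := hU hx
    exact ⟨t, D2' hu1 hu2 ht (hsq t hx) (hcm t u hx hu), rfl⟩
  exfalso
  have key : ∀ x : ↥U, ∃ t : T, P0 t = true ∧ (x : G) = t.ev z i j k l x₁ x₂ y s ∧ t.e = false ∧ t.f = false := by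
    rintro ⟨x, hx⟩
    obtain ⟨t, ht, rfl⟩ := hU hx
    rcases D1 ht (hsq t hx) with h1 | h1 | h1
    · exact ⟨t, ht, rfl, h1⟩
    · exact (hA ⟨t, hx, h1⟩).elim
    · exact (hB ⟨t, hx, h1⟩).elim
  choose φ h1 h2 h3 using key
  have hinj : Function.Injective (fun x : ↥U => ((φ x).w.s, (φ x).w.a, (φ x).w.b)) := by
    intro a b hab
    simp only [Prod.mk.injEq] at hab
    have ha : (φ a).ev z i j k l x₁ x₂ y s ∈ U := h2 a ▸ a.2
    have hb : (φ b).ev z i j k l x₁ x₂ y s ∈ U := h2 b ▸ b.2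
    have := D3 (h1 a) (h1 b) (h3 a).1 (h3 a).2 (h3 b).1 (h3 b).2 (hsq _ ha) (hsq _ hb) (hcm _ _ ha hb)
      hab.1 hab.2.1 hab.2.2
    apply Subtype.ext
    rw [h2 a, h2 b, this]
  have h8 := Nat.card_le_card_of_injective _ hinj
  rw [h16, Nat.card_eq_fintype_card (α := Bool × Bool × Bool)] at h8
  exact absurd h8 (by decide)

/-- elements commuting with `z, ik, jl, s` -/
theorem cent1 (h : Tw Q z i j k l x₁ x₂ y s) {x : G} (hz : x * z = z * x) (h1 : x * (i * k) = i * k * x)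
    (h2 : x * (j * l) = j * l * x) (h3 : x * s = s * x) : ∃ t : T, K1 t = true ∧ x = t.ev z i j k l x₁ x₂ y s := by
  have R := h.rules
  have inj := ev_inj h.toCase9aa R
  have emul : ∀ t u : T, t.ev z i j k l x₁ x₂ y s * u.ev z i j k l x₁ x₂ y s =
    (mu t u).ev z i j k l x₁ x₂ y s := fun t u => ev_mul R t u
  obtain ⟨t, rfl⟩ := exists_ev h.toCase9aa R hz
  have eik : tik.ev z i j k l x₁ x₂ y s = i * k := by rw [tik, ← emul, ev_i, ev_k]
  have ejl : tjl.ev z i j k l x₁ x₂ y s = j * l := by rw [tjl, ← emul, ev_j, ev_l]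
  refine ⟨t, E1 ?_ ?_ ?_, rfl⟩
  · apply inj
    show (mu t tik).ev z i j k l x₁ x₂ y s = (mu tik t).ev z i j k l x₁ x₂ y s
    rw [← emul, ← emul, eik]; exact h1
  · apply inj
    show (mu t tjl).ev z i j k l x₁ x₂ y s = (mu tjl t).ev z i j k l x₁ x₂ y s
    rw [← emul, ← emul, ejl]; exact h2
  · apply inj
    show (mu t ts).ev z i j k l x₁ x₂ y s = (mu ts t).ev z i j k l x₁ x₂ y s
    rw [← emul, ← emul, ev_s]; exact h3

/-- elements commuting with `z, il, jk, ys` -/
theorem cent2 (h : Tw Q z i j k l x₁ x₂ y s) {x : G} (hz : x * z = z * x) (h1 : x * (i * l) = i * l * x)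
    (h2 : x * (j * k) = j * k * x) (h3 : x * (y * s) = y * s * x) :
    ∃ t : T, K2 t = true ∧ x = t.ev z i j k l x₁ x₂ y s := by
  have R := h.rules
  have inj := ev_inj h.toCase9aa R
  have emul : ∀ t u : T, t.ev z i j k l x₁ x₂ y s * u.ev z i j k l x₁ x₂ y s =
    (mu t u).ev z i j k l x₁ x₂ y s := fun t u => ev_mul R t u
  obtain ⟨t, rfl⟩ := exists_ev h.toCase9aa R hz
  refine ⟨t, E2 ?_ ?_ ?_, rfl⟩
  · apply inj
    show (mu t (mu ti tl)).ev z i j k l x₁ x₂ y s = (mu (mu ti tl) t).ev z i j k l x₁ x₂ y s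
    rw [← emul t, ← emul (mu ti tl) t, ← emul, ev_i, ev_l]; exact h1
  · apply inj
    show (mu t (mu tj tk)).ev z i j k l x₁ x₂ y s = (mu (mu tj tk) t).ev z i j k l x₁ x₂ y s
    rw [← emul t, ← emul (mu tj tk) t, ← emul, ev_j, ev_k]; exact h2
  · apply inj
    show (mu t (mu ty ts)).ev z i j k l x₁ x₂ y s = (mu (mu ty ts) t).ev z i j k l x₁ x₂ y s
    rw [← emul t, ← emul (mu ty ts) t, ← emul, ev_y, ev_s]; exact h3

/-- the elements `EV t`, `K1 t`, as Booleans -/
def k1Equiv : {t : T // K1 t = true} ≃ Bool × Bool × Bool × Bool where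
  toFun t := ⟨t.1.w.s, t.1.w.a, t.1.w.b, t.1.f⟩
  invFun u := ⟨⟨⟨u.1, u.2.1, u.2.2.1, u.2.1, u.2.2.1⟩, C3.o, C3.o, false, u.2.2.2⟩, by
    obtain ⟨s, a, b, f⟩ := u
    cases a <;> cases b <;> rfl⟩
  left_inv t := by
    obtain ⟨t, ht⟩ := t
    apply Subtype.ext
    exact (K1.eq ht).symm
  right_inv _ := rfl

def k2Equiv : {t : T // K2 t = true} ≃ Bool × Bool × Bool × Bool where
  toFun t := ⟨t.1.w.s, t.1.w.a, t.1.w.b, t.1.f⟩
  invFun u := ⟨⟨⟨u.1, u.2.1, u.2.2.1, u.2.2.1, u.2.1⟩, C3.o, C3.o, u.2.2.2, u.2.2.2⟩, by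
    obtain ⟨s, a, b, f⟩ := u
    cases a <;> cases b <;> cases f <;> rfl⟩
  left_inv t := by
    obtain ⟨t, ht⟩ := t
    apply Subtype.ext
    exact (K2.eq ht).symm
  right_inv _ := rfl

/-- a subgroup of order 16 contained in `{EV t | P t}` with 16 elements is all of it -/
theorem mem_of_card (h : Tw Q z i j k l x₁ x₂ y s) {U : Subgroup G} {P : T → Bool}
    (hP : Nat.card {t : T // P t = true} = 16) (h16 : Nat.card ↥U = 16)
    (hU : ∀ x ∈ U, ∃ t : T, P t = true ∧ x = t.ev z i j k l x₁ x₂ y s) {t : T} (ht : P t = true) :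
    t.ev z i j k l x₁ x₂ y s ∈ U := by
  choose φ h1 h2 using hU
  let f : ↥U → {t : T // P t = true} := fun x => ⟨φ x.1 x.2, h1 x.1 x.2⟩
  have hf : Function.Injective f := by
    intro a b hab
    have h3 : φ a.1 a.2 = φ b.1 b.2 := congrArg Subtype.val hab
    apply Subtype.ext
    rw [h2 a.1 a.2, h2 b.1 b.2, h3]
  have hb : Function.Bijective f := by
    rw [Nat.bijective_iff_injective_and_card]
    exact ⟨hf, by rw [hP, h16]⟩
  obtain ⟨a, ha⟩ := hb.2 ⟨t, ht⟩
  have h3 : φ a.1 a.2 = t := congrArg Subtype.val ha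
  rw [← h3, ← h2 a.1 a.2]
  exact a.2

theorem card_k1 : Nat.card {t : T // K1 t = true} = 16 := by
  rw [Nat.card_congr k1Equiv, Nat.card_eq_fintype_card]
  rfl

theorem card_k2 : Nat.card {t : T // K2 t = true} = 16 := by
  rw [Nat.card_congr k2Equiv, Nat.card_eq_fintype_card]
  rfl

theorem gens1 (h : Tw Q z i j k l x₁ x₂ y s) {U : Subgroup G}
    (hU : ∀ t : T, K1 t = true → t.ev z i j k l x₁ x₂ y s ∈ U) : z ∈ U ∧ i * k ∈ U ∧ j * l ∈ U ∧ s ∈ U := by
  have R := h.rules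
  have emul : ∀ t u : T, t.ev z i j k l x₁ x₂ y s * u.ev z i j k l x₁ x₂ y s =
    (mu t u).ev z i j k l x₁ x₂ y s := fun t u => ev_mul R t u
  have eik : tik.ev z i j k l x₁ x₂ y s = i * k := by rw [tik, ← emul, ev_i, ev_k]
  have ejl : tjl.ev z i j k l x₁ x₂ y s = j * l := by rw [tjl, ← emul, ev_j, ev_l]
  refine ⟨?_, ?_, ?_, ?_⟩
  · have := hU tz rfl; rwa [ev_z] at this
  · have := hU tik rfl; rwa [eik] at this
  · have := hU tjl rfl; rwa [ejl] at this
  · have := hU ts rfl; rwa [ev_s] at this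

theorem gens2 (h : Tw Q z i j k l x₁ x₂ y s) {U : Subgroup G}
    (hU : ∀ t : T, K2 t = true → t.ev z i j k l x₁ x₂ y s ∈ U) : z ∈ U ∧ i * l ∈ U ∧ j * k ∈ U ∧ y * s ∈ U := by
  have R := h.rules
  have emul : ∀ t u : T, t.ev z i j k l x₁ x₂ y s * u.ev z i j k l x₁ x₂ y s =
    (mu t u).ev z i j k l x₁ x₂ y s := fun t u => ev_mul R t u
  refine ⟨?_, ?_, ?_, ?_⟩
  · have := hU tz rfl; rwa [ev_z] at this
  · have := hU (mu ti tl) rfl; rwa [← emul, ev_i, ev_l] at this
  · have := hU (mu tj tk) rfl; rwa [← emul, ev_j, ev_k] at this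
  · have := hU (mu ty ts) rfl; rwa [← emul, ev_y, ev_s] at this

/-- the two possibilities for an elementary abelian subgroup of order 16 of `T₀` -/
theorem elem_gens (h : Tw Q z i j k l x₁ x₂ y s) {U : Subgroup G} (hU : U ≤ T0 h)
    (hc : ∀ a ∈ U, ∀ b ∈ U, a * b = b * a) (h2 : ∀ a ∈ U, a * a = 1) (h16 : Nat.card ↥U = 16) :
    (z ∈ U ∧ i * k ∈ U ∧ j * l ∈ U ∧ s ∈ U) ∨ (z ∈ U ∧ i * l ∈ U ∧ j * k ∈ U ∧ y * s ∈ U) := by
  rcases elem h hU hc h2 h16 with h1 | h1
  · exact Or.inl (gens1 h fun t ht => mem_of_card h card_k1 h16 h1 ht)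
  · exact Or.inr (gens2 h fun t ht => mem_of_card h card_k2 h16 h1 ht)

/-- **Self-centralizing.** -/
theorem selfCent (h : Tw Q z i j k l x₁ x₂ y s) : SelfCent (T0 h) := by
  intro U hU hc h2 h16 x _ hx
  rcases elem h hU hc h2 h16 with h1 | h1
  · have hm : ∀ t : T, K1 t = true → t.ev z i j k l x₁ x₂ y s ∈ U := fun t ht => mem_of_card h card_k1 h16 h1 ht
    obtain ⟨g1, g2, g3, g4⟩ := gens1 h hm
    obtain ⟨t, ht, rfl⟩ := cent1 h (hx _ g1) (hx _ g2) (hx _ g3) (hx _ g4)
    exact hm t ht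
  · have hm : ∀ t : T, K2 t = true → t.ev z i j k l x₁ x₂ y s ∈ U := fun t ht => mem_of_card h card_k2 h16 h1 ht
    obtain ⟨g1, g2, g3, g4⟩ := gens2 h hm
    obtain ⟨t, ht, rfl⟩ := cent2 h (hx _ g1) (hx _ g2) (hx _ g3) (hx _ g4)
    exact hm t ht

end

end Cfsg.Agent.H4.U43
end

-- part: H4/U43/Five
section
/-!
# `U₄(3)`: no member of `ℒ_f(G, T)` has `L/O₂(L) ≃ A₅` (helper4)
-/

set_option autoImplicit false
set_option linter.unusedVariables false

namespace Cfsg.Agent.H4.U43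

open Subgroup Cfsg.Agent.LargeExtra.W2.CM Cfsg.Agent.LargeExtra.W2.U43 Cfsg.Agent.LargeExtra.W2.U43.ExistsD
open Cfsg.Agent.H4.Row128 Cfsg.Agent.H4.Bar Cfsg.Agent.H4.SevenOdd Cfsg.Agent.H4.Lf Cfsg.Agent.H4.Small
open scoped commutatorElement

universe u

variable {G : Type u} [Group G] {Q : Subgroup G} {z i j k l x₁ x₂ y s : G}

section

variable [Finite G]

/-- elements `EV t`, `K1 t`, lie in `⟨z, ik, jl, s⟩` -/
theorem k1_mem (h : Tw Q z i j k l x₁ x₂ y s) {U : Subgroup G} (h1 : z ∈ U) (h2 : i * k ∈ U) (h3 : j * l ∈ U)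
    (h4 : s ∈ U) {t : T} (ht : K1 t = true) : t.ev z i j k l x₁ x₂ y s ∈ U := by
  have R := h.rules
  have emul : ∀ t u : T, t.ev z i j k l x₁ x₂ y s * u.ev z i j k l x₁ x₂ y s =
    (mu t u).ev z i j k l x₁ x₂ y s := fun t u => ev_mul R t u
  have eik : tik.ev z i j k l x₁ x₂ y s = i * k := by rw [tik, ← emul, ev_i, ev_k]
  have ejl : tjl.ev z i j k l x₁ x₂ y s = j * l := by rw [tjl, ← emul, ev_j, ev_l]
  have m0 : (T.one).ev z i j k l x₁ x₂ y s ∈ U := by rw [ev_one]; exact one_mem _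
  have m1 : tz.ev z i j k l x₁ x₂ y s ∈ U := by rw [ev_z]; exact h1
  have m2 : tik.ev z i j k l x₁ x₂ y s ∈ U := by rw [eik]; exact h2
  have m3 : tjl.ev z i j k l x₁ x₂ y s ∈ U := by rw [ejl]; exact h3
  have m4 : ts.ev z i j k l x₁ x₂ y s ∈ U := by rw [ev_s]; exact h4
  have hcond : ∀ (b : Bool) (v : T), v.ev z i j k l x₁ x₂ y s ∈ U →
      (bif b then v else T.one).ev z i j k l x₁ x₂ y s ∈ U := by
    intro b v hv
    cases b
    · exact m0
    · exact hv
  have key : mu (mu (bif t.w.s then tz else T.one) (bif t.w.a then tik else T.one))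
      (mu (bif t.w.b then tjl else T.one) (bif t.f then ts else T.one)) = t := by
    rw [K1.eq ht]
    obtain ⟨⟨s', a, b, c, d⟩, m, n, e, f⟩ := t
    cases s' <;> cases a <;> cases b <;> cases f <;> rfl
  rw [← key, ← emul, ← emul, ← emul]
  exact mul_mem (mul_mem (hcond _ _ m1) (hcond _ _ m2)) (mul_mem (hcond _ _ m3) (hcond _ _ m4))

/-- **No `A₅`.** -/
theorem no_five (h : Tw Q z i j k l x₁ x₂ y s) (hs : IsConj z s) (hG : Nat.card G = 3265920)
    (hI : InvPrime G 7) (S : Sylow 2 G) (hT : (S : Subgroup G) = T0 h) {L : Subgroup G}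
    (hL : L ∈ calLf (S : Subgroup G)) (hz : z ∈ UU L) (hik : i * k ∈ UU L) (hjl : j * l ∈ UU L) (hsU : s ∈ UU L)
    (h7 : ¬ 7 ∣ Nat.card ↥L) (hQ : Nat.card (↥L ⧸ pCore 2 ↥L) = 60)
    (e : ↥L ⧸ pCore 2 ↥L ≃* alternatingGroup (Fin 5)) : False := by
  have h2f : Fact (Nat.Prime 2) := ⟨Nat.prime_two⟩
  have R := h.rules
  have inj := ev_inj h.toCase9aa R
  have emul : ∀ t u : T, t.ev z i j k l x₁ x₂ y s * u.ev z i j k l x₁ x₂ y s =
    (mu t u).ev z i j k l x₁ x₂ y s := fun t u => ev_mul R t u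
  have hSC : SelfCent (S : Subgroup G) := by rw [hT]; exact selfCent h
  obtain ⟨hcore, h16⟩ := core_eq S hSC hL h7
  have hcc := card_core S hSC hL h7
  obtain ⟨hAL, hA⟩ := acts_inner hL
  have hUL : UU L ≤ L := hAL
  -- `|L| = 960`
  have hLc : Nat.card ↥L = 960 := by
    rw [H5.Top.card_eq_mul (X := ↥L), hcc, hQ]
  -- `T` normalizes `L`
  have hsimple : IsSimpleGroup (↥L ⧸ pCore 2 ↥L) := e.isSimpleGroup
  have hTL : (S : Subgroup G) ≤ normalizer (L : Set G) :=
    _root_.Cfsg.Agent.H4.Row128.le_normalizer S hL.1 (p := 5) (by norm_num) (by norm_num) (by rw [hLc]; norm_num) (by rw [hG]; norm_num) hsimple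
  have hTc : Nat.card ↥(S : Subgroup G) = 128 := by rw [hT]; exact card_T0 h
  -- `U`
  have hUeq : UU L = _root_.Subgroup.closure ({z, i * k, j * l, s} : Set G) := by
    apply le_antisymm
    · intro u hu
      obtain ⟨t, ht, rfl⟩ := cent1 h (hA.comm u hu z hz) (hA.comm u hu _ hik) (hA.comm u hu _ hjl) (hA.comm u hu s hsU)
      exact k1_mem h (_root_.Subgroup.subset_closure (by simp only [_root_.Set.mem_insert_iff, _root_.Set.mem_singleton_iff, _root_.true_or])) (_root_.Subgroup.subset_closure (by simp only [_root_.Set.mem_insert_iff, _root_.Set.mem_singleton_iff, _root_.true_or, _root_.or_true])) (_root_.Subgroup.subset_closure (by simp only [_root_.Set.mem_insert_iff, _root_.Set.mem_singleton_iff, _root_.true_or, _root_.or_true]))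
        (_root_.Subgroup.subset_closure (by simp only [_root_.Set.mem_insert_iff, _root_.Set.mem_singleton_iff, _root_.or_true])) ht
    · rw [closure_le]
      rintro x (rfl | rfl | rfl | rfl)
      · exact hz
      · exact hik
      · exact hjl
      · exact hsU
  have hCU : ∀ x : G, (∀ u ∈ UU L, x * u = u * x) → ∃ t : T, K1 t = true ∧ x = t.ev z i j k l x₁ x₂ y s := fun x hx =>
    cent1 h (hx z hz) (hx _ hik) (hx _ hjl) (hx s hsU)
  set U : Subgroup G := UU L with hU
  set N : Subgroup G := normalizer (U : Set G) with hN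
  have hCle : centralizer (U : Set G) ≤ U := by
    intro x hx
    rw [mem_centralizer_iff] at hx
    obtain ⟨t, ht, rfl⟩ := hCU x (fun u hu => (hx u hu).symm)
    exact k1_mem h hz hik hjl hsU ht
  have hUC : U ≤ centralizer (U : Set G) := by
    intro u hu
    rw [mem_centralizer_iff]
    intro v hv
    exact hA.comm v hv u hu
  have hCeq : centralizer (U : Set G) = U := le_antisymm hCle hUC
  -- order of `N`
  have hm : U.relIndex N ∣ 20160 := by
    have h1 := relIndex_eq (L := N) (U := U) le_rfl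
    rw [hCeq] at h1
    rw [h1]
    have h2 := Cfsg.Agent.Transfer.ElemAbAut.card_mulAut (T := ↥U) 2 4
      (fun x y => Subtype.ext (hA.comm x x.2 y y.2)) (fun x => Subtype.ext (by
        show (x : G) ^ 2 = 1
        rw [pow_two]; exact hA.sq x x.2)) (by rw [h16]; norm_num)
    have h3 := Subgroup.card_subgroup_dvd_card (act (L := N) (U := U) le_rfl).range
    rw [h2] at h3
    simpa only [Fin.prod_univ_succ, _root_.MonoidHom.mem_range, _root_.Subtype.exists, _root_.Nat.reducePow, _root_.Fin.isValue, _root_.Fin.coe_ofNat_eq_mod, _root_.Nat.zero_mod, _root_.pow_zero, _root_.Nat.add_one_sub_one, _root_.Fin.val_succ, _root_.zero_add, _root_.pow_one, _root_.Nat.reduceSub, _root_.Nat.reduceAdd, _root_.Finset.univ_unique, _root_.Fin.default_eq_zero, _root_.Fin.val_eq_zero, _root_.Finset.prod_const, _root_.Finset.card_singleton, _root_.Nat.reduceMul] using h3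
  have hUN : U ≤ N := _root_.Subgroup.le_normalizer
  have hNc : Nat.card ↥N = 16 * U.relIndex N := by
    have h1 := (U.subgroupOf N).card_mul_index
    rw [Nat.card_congr (subgroupOfEquivOfLe hUN).toEquiv, h16] at h1
    exact h1.symm
  have hNG : Nat.card ↥N ∣ 3265920 := by rw [← hG]; exact Subgroup.card_subgroup_dvd_card N
  have hN7 : ¬ 7 ∣ Nat.card ↥N := by
    intro h7N
    have h7f : Fact (Nat.Prime 7) := ⟨by norm_num⟩
    obtain ⟨⟨x, hxN⟩, ho⟩ := exists_prime_orderOf_dvd_card' 7 h7N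
    rw [Subgroup.orderOf_mk] at ho
    have h1 := modEq_one (by norm_num) ho hxN (fun s' hs' hc => hI.fix ho (S := U) hA.isPGroup hs' hc)
    rw [h16] at h1
    exact absurd h1 (by decide)
  have hN5760 : Nat.card ↥N ∣ 5760 := by
    have h1 : U.relIndex N ∣ 204120 := by
      rw [hNc, show 3265920 = 16 * 204120 by norm_num] at hNG
      exact (Nat.mul_dvd_mul_iff_left (by norm_num)).1 hNG
    have h2 : U.relIndex N ∣ 2520 := by
      have := Nat.dvd_gcd hm h1
      norm_num at this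
      exact this
    have h3 : U.relIndex N ∣ 360 := by
      have h4 : Nat.Coprime (U.relIndex N) 7 := by
        rw [Nat.coprime_comm, Nat.Prime.coprime_iff_not_dvd (by norm_num)]
        intro h5
        apply hN7
        rw [hNc]; exact h5.mul_left _
      have h5 : U.relIndex N ∣ 360 * 7 := h2
      exact h4.dvd_of_dvd_mul_right h5
    rw [hNc, show 5760 = 16 * 360 by norm_num]
    exact mul_dvd_mul_left 16 h3
  -- `H = L T`
  have hLN : L ≤ N := hA.norm
  have hTN : (S : Subgroup G) ≤ N := by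
    have h1 : normalizer (L : Set G) ≤ normalizer (((pCore 2 ↥L).map L.subtype : Subgroup G) : Set G) := by
      exact Cfsg.Agent.H4.Bar.normalizer_le_core L
    rw [hcore] at h1
    exact hTL.trans h1
  set H : Subgroup G := L ⊔ (S : Subgroup G) with hH
  have hLH : L ≤ H := le_sup_left
  have hTH : (S : Subgroup G) ≤ H := le_sup_right
  have hHN : H ≤ N := sup_le hLN hTN
  have hHL : H ≤ normalizer (L : Set G) := sup_le _root_.Subgroup.le_normalizer hTL
  have hHN5760 : Nat.card ↥H ∣ 5760 := (Subgroup.card_dvd_of_le hHN).trans hN5760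
  have h960 : 960 ∣ Nat.card ↥H := hLc ▸ Subgroup.card_dvd_of_le hLH
  have h128 : 128 ∣ Nat.card ↥H := hTc ▸ Subgroup.card_dvd_of_le hTH
  have h1920 : 1920 ∣ Nat.card ↥H := by
    have h1 : 15 ∣ Nat.card ↥H := (by norm_num : 15 ∣ 960).trans h960
    have h2 : Nat.Coprime 128 15 := by norm_num
    exact (by norm_num : 1920 = 128 * 15) ▸ h2.mul_dvd_of_dvd_of_dvd h128 h1
  have hHNrel : H.relIndex N ∣ 3 := by
    have h1 := (H.subgroupOf N).card_mul_index
    rw [Nat.card_congr (subgroupOfEquivOfLe hHN).toEquiv] at h1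
    obtain ⟨m, hm⟩ := h1920
    have h2 : 1920 * H.relIndex N ∣ 1920 * 3 := by
      refine Dvd.dvd.trans ?_ (hN5760.trans (by norm_num : 5760 ∣ 1920 * 3))
      rw [← h1, hm]
      exact mul_dvd_mul (dvd_mul_right _ _) dvd_rfl
    exact (Nat.mul_dvd_mul_iff_left (by norm_num)).1 h2
  -- `|T : T ∩ L| = 2`
  have hTL2 : (L.subgroupOf (S : Subgroup G)).index = 2 := by
    have h1 := (L.subgroupOf (S : Subgroup G)).card_mul_index
    rw [hTc] at h1
    have h2 := not_two_dvd_index S hL.1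
    have h3 := ((S : Subgroup G).subgroupOf L).card_mul_index
    rw [hLc] at h3
    have h4 : Nat.card ↥((S : Subgroup G).subgroupOf L) = Nat.card ↥(L.subgroupOf (S : Subgroup G)) := by
      have e1 := Nat.card_congr (((S : Subgroup G).subgroupOf L).equivMapOfInjective _ L.subtype_injective).toEquiv
      have e2 := Nat.card_congr ((L.subgroupOf (S : Subgroup G)).equivMapOfInjective _ (S : Subgroup G).subtype_injective).toEquiv
      rw [e1, e2, Subgroup.subgroupOf_map_subtype, Subgroup.subgroupOf_map_subtype, inf_comm]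
    rw [h4] at h3
    have h5 : Nat.card ↥(L.subgroupOf (S : Subgroup G)) ∣ 2 ^ 7 := by
      rw [show 2 ^ 7 = 128 by norm_num, ← hTc]; exact Subgroup.card_subgroup_dvd_card _
    obtain ⟨c, hc, hc'⟩ := (Nat.dvd_prime_pow Nat.prime_two).1 h5
    rw [hc'] at h1 h3
    have h6 : c = 6 := by
      interval_cases c
      · exfalso; apply h2; rw [show ((S : Subgroup G).subgroupOf L).index = 960 by omega]; norm_num
      · exfalso; apply h2; rw [show ((S : Subgroup G).subgroupOf L).index = 480 by omega]; norm_num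
      · exfalso; apply h2; rw [show ((S : Subgroup G).subgroupOf L).index = 240 by omega]; norm_num
      · exfalso; apply h2; rw [show ((S : Subgroup G).subgroupOf L).index = 120 by omega]; norm_num
      · exfalso; apply h2; rw [show ((S : Subgroup G).subgroupOf L).index = 60 by omega]; norm_num
      · exfalso; apply h2; rw [show ((S : Subgroup G).subgroupOf L).index = 30 by omega]; norm_num
      · rfl
      · exfalso; omega
    rw [h6] at h1
    omega
  have hHL2 : L.relIndex H = 2 := by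
    rw [hH, sup_comm]
    have i1 : (L.subgroupOf (S : Subgroup G)).Normal := Subgroup.normal_subgroupOf_of_le_normalizer hTL
    have i2 : (L.subgroupOf ((S : Subgroup G) ⊔ L)).Normal := Subgroup.normal_subgroupOf_sup_of_le_normalizer hTL
    have h1 := Nat.card_congr (QuotientGroup.quotientInfEquivProdNormalizerQuotient (S : Subgroup G) L hTL).toEquiv
    exact h1.symm.trans hTL2
  have hNL : N ≤ normalizer (L : Set G) := le_normalizer_of_index hLH hHN hHL (perfect hL.1) hHL2 hHNrel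
  -- `ij ∈ L`
  have hiT : i ∈ (S : Subgroup G) := by
    rw [hT]; exact ⟨ti, rfl, ev_i.symm⟩
  have hyT : y ∈ (S : Subgroup G) := by
    rw [hT]; exact ⟨ty, rfl, ev_y.symm⟩
  have hij : i * j ∈ L := by
    have h1 : (⟨y, hyT⟩ * ⟨i, hiT⟩ * ⟨y, hyT⟩⁻¹ * ⟨i, hiT⟩⁻¹ : ↥(S : Subgroup G)) ∈ L.subgroupOf (S : Subgroup G) := by
      simp only [Subgroup.mul_mem_iff_of_index_two hTL2, inv_mem_iff]
      (clear * -; tauto)
    have h2 : y * i * y⁻¹ * i⁻¹ ∈ L := h1
    have h3 : y * i * y⁻¹ * i⁻¹ = z * (i * j) := by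
      rw [mul_inv_eq_iff_eq_mul, mul_inv_eq_iff_eq_mul]
      coll R
    rw [h3] at h2
    have h4 := mul_mem (hUL hz) h2
    rwa [← mul_assoc, R.zz, one_mul] at h4
  have hijz : i * j * z = z * (i * j) := by coll R
  have hijs : i * j * s ≠ s * (i * j) := by
    intro hh
    have h1 : (mu (mu ti tj) ts).ev z i j k l x₁ x₂ y s = (mu ts (mu ti tj)).ev z i j k l x₁ x₂ y s := by
      rw [← emul (mu ti tj) ts, ← emul ts (mu ti tj), ← emul, ev_i, ev_j, ev_s]; exact hh
    exact absurd (congrArg (fun t : T => t.w.a) (inj h1)) (by decide)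
  -- moving `z`
  have fin : ∀ ζ : G, ∀ hζ : ζ ∈ normalizer (L : Set G), bar L ⟨ζ, hζ⟩ = 1 →
      (ζ * z * ζ⁻¹ = s ∨ ζ * z * ζ⁻¹ = s * z) → False := by
    intro ζ hζ hb hw
    obtain ⟨u, hu, hu'⟩ := bar_one L hb hij
    rw [hcore] at hu
    obtain ⟨w, hw'⟩ : ∃ w, w = ζ * z * ζ⁻¹ := ⟨_, rfl⟩
    have hwU : w ∈ U := by
      rcases hw with hw | hw
      · rw [hw', hw]; exact hsU
      · rw [hw', hw]; exact mul_mem hsU hz
    have hζz : ζ * z = w * ζ := by rw [hw']; group
    have huw : u * w = w * u := hA.comm u hu w hwU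
    have e1 : ζ * (i * j) * z = u * (i * j) * w * ζ := by
      have : ζ * (i * j) = u * (i * j) * ζ := hu'
      rw [this, mul_assoc, hζz]; group
    have e2 : ζ * (i * j) * z = u * w * (i * j) * ζ := by
      have h0 : ζ * (i * j) = u * (i * j) * ζ := hu'
      rw [mul_assoc, hijz, ← mul_assoc, hζz, mul_assoc, h0, huw]; group
    have e3 : i * j * w = w * (i * j) := by
      have h1 := e1.symm.trans e2
      have h2 := mul_right_cancel h1
      rw [mul_assoc u, mul_assoc u] at h2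
      exact mul_left_cancel h2
    rcases hw with hw | hw
    · rw [hw', hw] at e3; exact hijs e3
    · rw [hw', hw] at e3
      apply hijs
      have h1 : i * j * s * z = s * (i * j) * z := by
        rw [mul_assoc s, hijz, mul_assoc (i * j), e3]; group
      exact mul_right_cancel h1
  -- the elements `d`, `ρ`
  obtain ⟨d, D⟩ := exists_del h hs
  have hd3 : d ^ 3 = 1 := D.d3
  have hdN : d ∈ N := by
    show d ∈ normalizer (U : Set G)
    rw [hUeq]
    apply mem_normalizer_closure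
    intro x hx
    simp only [Set.mem_insert_iff, Set.mem_singleton_iff] at hx
    rcases hx with hx | hx | hx | hx
    · rw [hx, D.dz]; exact _root_.Subgroup.subset_closure (by simp only [_root_.Set.mem_insert_iff, _root_.Set.mem_singleton_iff, _root_.or_true])
    · rw [hx, D.dik, mul_inv_cancel_right]; exact _root_.Subgroup.subset_closure (by simp only [_root_.Set.mem_insert_iff, _root_.Set.mem_singleton_iff, _root_.true_or, _root_.or_true])
    · rw [hx, D.djl, mul_inv_cancel_right]; exact _root_.Subgroup.subset_closure (by simp only [_root_.Set.mem_insert_iff, _root_.Set.mem_singleton_iff, _root_.true_or, _root_.or_true])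
    · rw [hx, D.ds]; exact mul_mem (_root_.Subgroup.subset_closure (by simp)) (_root_.Subgroup.subset_closure (by simp))
  have rz : x₁ * x₂ * z * (x₁ * x₂)⁻¹ = z := by rw [mul_inv_eq_iff_eq_mul]; coll R
  have rik : x₁ * x₂ * (i * k) * (x₁ * x₂)⁻¹ = j * l := by rw [mul_inv_eq_iff_eq_mul]; coll R
  have rjl : x₁ * x₂ * (j * l) * (x₁ * x₂)⁻¹ = i * k * (j * l) := by rw [mul_inv_eq_iff_eq_mul]; coll R
  have rs : x₁ * x₂ * s * (x₁ * x₂)⁻¹ = s := by rw [mul_inv_eq_iff_eq_mul]; coll R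
  have hrN : x₁ * x₂ ∈ N := by
    show x₁ * x₂ ∈ normalizer (U : Set G)
    rw [hUeq]
    apply mem_normalizer_closure
    intro x hx
    simp only [Set.mem_insert_iff, Set.mem_singleton_iff] at hx
    rcases hx with hx | hx | hx | hx
    · rw [hx, rz]; exact _root_.Subgroup.subset_closure (by simp)
    · rw [hx, rik]; exact _root_.Subgroup.subset_closure (by simp only [_root_.Set.mem_insert_iff, _root_.Set.mem_singleton_iff, _root_.true_or, _root_.or_true])
    · rw [hx, rjl]; exact mul_mem (_root_.Subgroup.subset_closure (by simp only [_root_.Set.mem_insert_iff, _root_.Set.mem_singleton_iff, _root_.true_or, _root_.or_true])) (_root_.Subgroup.subset_closure (by simp only [_root_.Set.mem_insert_iff, _root_.Set.mem_singleton_iff, _root_.true_or, _root_.or_true]))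
    · rw [hx, rs]; exact _root_.Subgroup.subset_closure (by simp)
  have hr3 : (x₁ * x₂) ^ 3 = 1 := by
    rw [pow_succ, pow_two]; coll R
  have hdL := hNL hdN
  have hrL := hNL hrN
  obtain ⟨a, ha⟩ : ∃ a, a = bar L ⟨d, hdL⟩ := ⟨_, rfl⟩
  obtain ⟨b, hb⟩ : ∃ b, b = bar L ⟨x₁ * x₂, hrL⟩ := ⟨_, rfl⟩
  have ha3 : a ^ 3 = 1 := by
    rw [ha, ← map_pow]
    have : (⟨d, hdL⟩ : ↥(normalizer (L : Set G))) ^ 3 = 1 := Subtype.ext hd3
    rw [this, map_one]
  have hb3 : b ^ 3 = 1 := by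
    rw [hb, ← map_pow]
    have : (⟨x₁ * x₂, hrL⟩ : ↥(normalizer (L : Set G))) ^ 3 = 1 := Subtype.ext hr3
    rw [this, map_one]
  have hab : a * b = b * a := by
    rw [ha, hb, ← map_mul, ← map_mul]
    congr 1
    exact Subtype.ext D.dr
  have dzi : d⁻¹ * z * d = s * z := by
    have h1 : d ^ 3 = d * (d * d) := by rw [pow_succ, pow_two, mul_assoc]
    calc d⁻¹ * z * d = d⁻¹ * (d * (d * d) * z * (d * (d * d))⁻¹) * d := by rw [← h1, hd3]; group
      _ = d * (d * z * d⁻¹) * d⁻¹ := by group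
      _ = s * z := by rw [D.dz, D.ds]
  by_cases ha1 : a = 1
  · exact fin d hdL (by rw [← ha, ha1]) (Or.inl D.dz)
  have h9 : ¬ 9 ∣ Nat.card (MulAut (↥L ⧸ pCore 2 ↥L)) := by
    rw [Nat.card_congr (MulAut.congr e).toEquiv]; exact not_nine
  obtain ⟨m, hm'⟩ := mem_zpowers_of_comm h9 ha3 hb3 ha1 hab
  have hmod : a ^ m = a ^ (m % 3) := pow_eq_pow_mod m ha3
  have hlt : m % 3 < 3 := Nat.mod_lt _ (by norm_num)
  rw [hmod] at hm'
  obtain ⟨c, hc⟩ : ∃ c, c = m % 3 := ⟨_, rfl⟩
  rw [← hc] at hm' hlt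
  interval_cases c
  · -- `ζ = ρ`
    rw [pow_zero] at hm'
    obtain ⟨u, hu, hu'⟩ := bar_one L (g := ⟨x₁ * x₂, hrL⟩) (by rw [← hb, hm']) hij
    rw [hcore] at hu
    obtain ⟨t, ht, rfl⟩ := hCU u (fun v hv => hA.comm u hu v hv)
    apply R1 ht
    apply inj
    show (mu tr (mu ti tj)).ev z i j k l x₁ x₂ y s = (mu (mu t (mu ti tj)) tr).ev z i j k l x₁ x₂ y s
    rw [← emul tr (mu ti tj), ← emul (mu t (mu ti tj)) tr, ← emul t (mu ti tj), ← emul ti tj, tr, ← emul tx₁ tx₂, ev_i, ev_j,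
      ev_x₁, ev_x₂]
    exact hu'
  · -- `ζ = ρ d⁻¹`
    rw [pow_one] at hm'
    have h1 : bar L ⟨x₁ * x₂ * d⁻¹, mul_mem hrL (inv_mem hdL)⟩ = 1 := by
      have h2 : (⟨x₁ * x₂ * d⁻¹, mul_mem hrL (inv_mem hdL)⟩ : ↥(normalizer (L : Set G))) =
        ⟨x₁ * x₂, hrL⟩ * ⟨d, hdL⟩⁻¹ := rfl
      rw [h2, map_mul, map_inv, ← ha, ← hb, hm', mul_inv_cancel]
    refine fin _ _ h1 (Or.inr ?_)
    calc x₁ * x₂ * d⁻¹ * z * (x₁ * x₂ * d⁻¹)⁻¹ = x₁ * x₂ * (d⁻¹ * z * d) * (x₁ * x₂)⁻¹ := by group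
      _ = (x₁ * x₂ * s * (x₁ * x₂)⁻¹) * (x₁ * x₂ * z * (x₁ * x₂)⁻¹) := by rw [dzi]; group
      _ = s * z := by rw [rs, rz]
  · -- `ζ = ρ d`
    have h1 : bar L ⟨x₁ * x₂ * d, mul_mem hrL hdL⟩ = 1 := by
      have h2 : (⟨x₁ * x₂ * d, mul_mem hrL hdL⟩ : ↥(normalizer (L : Set G))) =
        ⟨x₁ * x₂, hrL⟩ * ⟨d, hdL⟩ := rfl
      rw [h2, map_mul, ← ha, ← hb, hm', ← pow_succ, ha3]
    refine fin _ _ h1 (Or.inl ?_)
    calc x₁ * x₂ * d * z * (x₁ * x₂ * d)⁻¹ = x₁ * x₂ * (d * z * d⁻¹) * (x₁ * x₂)⁻¹ := by group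
      _ = s := by rw [D.dz, rs]

end

end Cfsg.Agent.H4.U43
end

-- part: H4/U43/Row
section
/-!
# The row `U₄(3)` (helper4)

Each member `L` of `ℒ_f(G, T)` is `T`-invariant, maximal, of order 5760, with `L/O₂(L) ≃ A₆`.
-/

set_option autoImplicit false
set_option linter.unusedVariables false

namespace Cfsg.Agent.H4.Row128

open Subgroup Cfsg.Agent.QTUniq.Local Cfsg.Agent.H4.Lf Cfsg.Agent.H4.LfTrans Cfsg.Agent.H4.Small

universe u w

/-- **One Sylow subgroup suffices.** -/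
theorem LfIso.of_sylow {G : Type u} [Group G] [Finite G] (hE : IsOfEvenCharacteristic G) {Q : Type w} [Group Q] {n : ℕ} (T₀ : Sylow 2 G)
    (h : ∀ L ∈ calLf (T₀ : Subgroup G), (T₀ : Subgroup G) ≤ normalizer (L : Set G) ∧
      Nonempty ((↥L ⧸ pCore 2 ↥L) ≃* Q) ∧ Nat.card ↥L = n) : LfIso G Q n := by
  refine LfIso.of hE fun T L hL => ?_
  obtain ⟨g, hg⟩ := exists_conj T T₀
  set e : G ≃* G := MulAut.conj g with he
  have h1 : L.map e.toMonoidHom ∈ calLf (T₀ : Subgroup G) := by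
    rw [hg, map_mem_calLf_iff]; exact hL
  obtain ⟨h2, ⟨f⟩, h4⟩ := h _ h1
  rw [hg] at h2
  refine ⟨map_le_normalizer e h2, ⟨(quotEquiv (sm e L)).trans f⟩, ?_⟩
  rw [← h4]
  exact Nat.card_congr (sm e L).toEquiv

end Cfsg.Agent.H4.Row128

namespace Cfsg.Agent.H4.U43

open Subgroup Cfsg.Agent.LargeExtra.W2.CM Cfsg.Agent.LargeExtra.W2.U43 Cfsg.Agent.LargeExtra.W2.U43.ExistsD
open Cfsg.Agent.H4.Row128 Cfsg.Agent.H4.Bar Cfsg.Agent.H4.SevenOdd Cfsg.Agent.H4.Lf Cfsg.Agent.H4.Small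

universe u v

section

variable {G : Type u} [Group G] [Finite G] {Q : Subgroup G} {z i j k l x₁ x₂ y s : G}

theorem T0_mirror (h : Tw Q z i j k l x₁ x₂ y s) : T0 h = T0 h.mirror := by
  symm
  apply Subgroup.eq_of_le_of_card_ge
  · rintro _ ⟨t, ht, rfl⟩
    have mz : z ∈ T0 h := ⟨tz, rfl, ev_z.symm⟩
    have mi : i ∈ T0 h := ⟨ti, rfl, ev_i.symm⟩
    have mj : j ∈ T0 h := ⟨tj, rfl, ev_j.symm⟩
    have mk : k ∈ T0 h := ⟨tk, rfl, ev_k.symm⟩
    have ml : l ∈ T0 h := ⟨tl, rfl, ev_l.symm⟩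
    have my : y ∈ T0 h := ⟨ty, rfl, ev_y.symm⟩
    have ms : s ∈ T0 h := ⟨ts, rfl, ev_s.symm⟩
    have hpw : ∀ (b : Bool) (v : G), v ∈ T0 h → pw b v ∈ T0 h := by
      intro b v hv
      cases b
      · exact one_mem _
      · exact hv
    rw [P0.eq ht]
    simp only [T.ev, Qt.ev, pw3]
    simp only [mul_one, one_mul]
    first
    | exact mul_mem (mul_mem (hpw _ _ mz) (mul_mem (mul_mem (hpw _ _ mi) (hpw _ _ mj)) (mul_mem (hpw _ _ (mul_mem ml mz)) (hpw _ _ (mul_mem mk mz))))) (mul_mem (hpw _ _ my) (hpw _ _ (mul_mem my ms)))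
    | (repeat' (first | apply mul_mem | exact hpw _ _ mz | exact hpw _ _ mi | exact hpw _ _ mj |
        exact hpw _ _ (mul_mem ml mz) | exact hpw _ _ (mul_mem mk mz) | exact hpw _ _ my | exact hpw _ _ (mul_mem my ms)))
  · rw [card_T0 h, card_T0 h.mirror]

/-- **The row for a group with the configuration `Tw`.** -/
theorem row_tw (hFT : H5.Top.FT.{u}) (hE : IsOfEvenCharacteristic G) (h : Tw Q z i j k l x₁ x₂ y s) (hs : IsConj z s)
    (hys : IsConj z (y * s)) (hG : Nat.card G = 3265920) (hI : InvPrime G 7) :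
    LfIso G (alternatingGroup (Fin 6)) 5760 := by
  have h2f : Fact (Nat.Prime 2) := ⟨Nat.prime_two⟩
  have hfac : (3265920 : ℕ).factorization 2 = 7 := by
    rw [show 3265920 = 2 ^ 7 * 25515 by norm_num, Nat.factorization_mul (by norm_num) (by norm_num)]
    rw [Finsupp.add_apply, Nat.Prime.factorization_pow Nat.prime_two, Finsupp.single_eq_same,
      Nat.factorization_eq_zero_of_not_dvd (by norm_num)]
  let S : Sylow 2 G := Sylow.ofCard (T0 h) (by rw [card_T0 h, hG, hfac]; norm_num)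
  have hS : (S : Subgroup G) = T0 h := rfl
  have hSc : Nat.card ↥(S : Subgroup G) = 128 := card_T0 h
  have hSC : SelfCent (S : Subgroup G) := selfCent h
  have h256 : ¬ 256 ∣ Nat.card G := by rw [hG]; norm_num
  refine LfIso.of_sylow hE S fun L hL => ?_
  have h7 : ¬ 7 ∣ Nat.card ↥L := not_seven hFT hE h256 S (by rw [hSc]) hI hL.1
  obtain ⟨hcore, h16⟩ := core_eq S hSC hL h7
  have hcc := card_core S hSC hL h7
  have hm := H5.Top.card_eq_mul (X := ↥L)
  obtain ⟨-, hA⟩ := acts_inner hL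
  have hUT : UU L ≤ T0 h := (uu_le_core L).trans (coreOf_le S hL.1)
  rcases row128 hE h256 S hSC hL h7 with ⟨h1, ⟨e⟩⟩ | ⟨h1, ⟨e⟩⟩
  · exfalso
    rcases elem_gens h hUT hA.comm hA.sq h16 with ⟨m1, m2, m3, m4⟩ | ⟨m1, m2, m3, m4⟩
    · exact no_five h hs hG hI S hS hL m1 m2 m3 m4 h7 h1 e
    · exact no_five h.mirror hys hG hI S (hS.trans (T0_mirror h)) hL m1 (by rw [← mul_assoc]; exact mul_mem m2 m1)
        (by rw [← mul_assoc]; exact mul_mem m3 m1) m4 h7 h1 e
  · rw [h1, hcc] at hm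
    have hs6 : IsSimpleGroup ↥(alternatingGroup (Fin 6)) := alternatingGroup.isSimpleGroup (by simp)
    have hsim : IsSimpleGroup (↥L ⧸ pCore 2 ↥L) := e.isSimpleGroup
    exact ⟨_root_.Cfsg.Agent.H4.Row128.le_normalizer S hL.1 (p := 5) (by norm_num) (by norm_num) (by rw [hm]; norm_num)
      (by rw [hG]; norm_num) hsim, ⟨e⟩, hm⟩

end

/-- centralizers of conjugate elements -/
theorem card_centralizer_conj {G : Type u} [Group G] (g z : G) :
    Nat.card ↥(centralizer ({g * z * g⁻¹} : Set G)) = Nat.card ↥(centralizer ({z} : Set G)) := by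
  refine (Nat.card_congr ((centralizer ({z} : Set G)).equivMapOfInjective (MulAut.conj g).toMonoidHom
    (MulAut.conj g).injective).toEquiv).trans ?_ |>.symm
  have h1 : (centralizer ({z} : Set G)).map (MulAut.conj g).toMonoidHom = centralizer ({g * z * g⁻¹} : Set G) := by
    ext y
    rw [Subgroup.mem_centralizer_singleton_iff, Subgroup.mem_map]
    constructor
    · rintro ⟨x, hx, rfl⟩
      rw [Subgroup.mem_centralizer_singleton_iff] at hx
      show g * x * g⁻¹ * (g * z * g⁻¹) = g * z * g⁻¹ * (g * x * g⁻¹)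
      calc g * x * g⁻¹ * (g * z * g⁻¹) = g * (x * z) * g⁻¹ := by group
        _ = g * z * g⁻¹ * (g * x * g⁻¹) := by rw [hx]; group
    · intro h
      refine ⟨g⁻¹ * y * g, ?_, ?_⟩
      · rw [Subgroup.mem_centralizer_singleton_iff]
        calc g⁻¹ * y * g * z = g⁻¹ * (y * (g * z * g⁻¹)) * g := by group
          _ = z * (g⁻¹ * y * g) := by rw [h]; group
      · show g * (g⁻¹ * y * g) * g⁻¹ = y
        group
  rw [h1]

theorem charP_three {F : Type u} [Field F] [Fintype F] (hF : Fintype.card F = 9) : CharP F 3 := by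
  obtain ⟨p, k, hp, hc, hq, hk⟩ := Cfsg.Agent.LieClassical.HermBasic.exists_prime_pow (F := F) (q := 3) (by rw [hF]; norm_num)
  have h1 : p ∣ 3 := by rw [hq]; exact dvd_pow_self p hk.ne'
  have h2 : p = 3 := (Nat.prime_dvd_prime_iff_eq hp (by norm_num)).1 h1
  rw [← h2]; exact hc

open Cfsg.Agent.OddHalf.Small.U43Good Cfsg.Agent.ClassicalGeometry.UnitAutBasic in
/-- the row for the matrix group -/
theorem row_psu (hFT : H5.Top.FT.{u}) {F : Type u} [Field F] [Fintype F] (hF : Fintype.card F = 9)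
    (hE : IsOfEvenCharacteristic (PSU 4 F 3)) : LfIso (PSU 4 F 3) (alternatingGroup (Fin 6)) 5760 := by
  have hch : CharP F 3 := charP_three hF
  have hfin : Finite (PSU 4 F 3) := inferInstance
  obtain ⟨i, j, k, l, x₁, x₂, y, s, h, hs, hys⟩ := Cfsg.Agent.OddHalf.D6.QThree.U43Tw.exists_tw hF
  have hG : Nat.card (PSU 4 F 3) = 3265920 := by
    rw [Cfsg.Agent.OddHalf.D6.QThree.U43Tw.card_K hF]; norm_num
  have hI : InvPrime (PSU 4 F 3) 7 := by
    intro t ht ht1
    obtain ⟨g, hg⟩ := Cfsg.Agent.OddHalf.D6.QThree.U43Tw.one_class hF t ht ht1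
    rw [← hg, card_centralizer_conj, h.card_cent]
    norm_num
  exact row_tw hFT hE h hs hys hG hI

/-- **The row `U₄(3)`.** -/
theorem u43 {G : Type u} [Group G] [Finite G] (hE : IsOfEvenCharacteristic G) {F : Type v} [Field F] [Fintype F]
    (hFT : H5.Top.FT.{v}) (hF : Fintype.card F = 9) (e : G ≃* PSU 4 F 3) : LfIso G (alternatingGroup (Fin 6)) 5760 := by
  have hfin : Finite (PSU 4 F 3) := Finite.of_equiv G e.toEquiv
  exact (row_psu hFT hF (Cfsg.Agent.Omega.Quasithin.EvenOf.even_of_equiv e.symm hE)).congr e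

end Cfsg.Agent.H4.U43
end

private theorem dce_f811e21a3d76 : _root_.True := by
  try have : _root_.True := by simp only [_root_.Cfsg.Agent.H4.U43.K2.eq_1]
  try have : _root_.True := by simp only [_root_.Cfsg.Agent.H4.U43.P0.eq_1]
  try have : _root_.True := by simp only [_root_.Cfsg.Agent.H4.Small.act.congr_simp]
  try have : _root_.True := by simp only [_root_.Cfsg.Agent.H4.U43.T0.congr_simp]
  try have : _root_.True := by simp only [_root_.Cfsg.Agent.H4.U43.K1.eq_1]
  exact _root_.True.intro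
end

-- part: H4/Hyp
section
prune_inst 0x100065240122100000000082210018629600019000000000402001440880e860000220002c0000020028a08800300068134c0080420000000a00040000010000008002003100a000000006000000400000000000000000000000000000000004000000000
set_option linter.all false
open scoped Cfsg.Agent.FastGrp

-- part: H4/TwD4/Coord
section
/-!
# Normal elementary abelian subgroups of the Sylow 2-subgroup of `³D₄(2)` have order at most 32 (helper4)
-/

set_option autoImplicit false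

namespace Cfsg.Agent.H4.TwD4

open Cfsg.Agent.HexRec Cfsg.Agent.HexTwoGlob

universe v w

variable {F K : Type v} [Field F] [Field K] [Algebra F K] {C : Cubic F K} {S : Type w} [Group S] (E : Coord C S)

/-- `u² = 1` and `[u, u^{x₆}] = 1` imply `a₁ = 0` -/
theorem a1_eq_zero {u v : S} (h2 : u * u = 1) (hv : v * E.x6 1 = E.x6 1 * u) (hc : u * v = v * u) : (E.e u).a1 = 0 := by
  by_contra ha
  obtain ⟨a, ha'⟩ : ∃ a, a = (E.e u).a1 := ⟨_, rfl⟩
  obtain ⟨b, hb⟩ : ∃ b, b = (E.e u).a2 := ⟨_, rfl⟩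
  obtain ⟨c, hc'⟩ : ∃ c, c = (E.e u).a3 := ⟨_, rfl⟩
  obtain ⟨d, hd⟩ : ∃ d, d = (E.e u).a4 := ⟨_, rfl⟩
  obtain ⟨e, he⟩ : ∃ e, e = (E.e u).a5 := ⟨_, rfl⟩
  obtain ⟨f, hf⟩ : ∃ f, f = (E.e u).a6 := ⟨_, rfl⟩
  rw [← ha'] at ha
  -- coordinates of `v`
  have v1 : (E.e v).a1 = a := by
    have := congrArg (fun x => (E.e x).a1) hv
    simp only [E.mul_a1, E.e_x6, add_zero, zero_add] at this
    rw [this, ha']
  have v6 : (E.e v).a6 = f := by
    have := congrArg (fun x => (E.e x).a6) hv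
    simp only [E.mul_a6, E.e_x6] at this
    rw [add_comm 1] at this
    rw [hf]; exact add_right_cancel this
  have v5 : (E.e v).a5 = e + a := by
    have := congrArg (fun x => (E.e x).a5) hv
    simp only [E.mul_a5, E.e_x6, add_zero, zero_add, smul_zero, one_smul] at this
    rw [this, he, ha']
  have v3 : (E.e v).a3 = c + C.sh a := by
    have := congrArg (fun x => (E.e x).a3) hv
    simp only [E.mul_a3, E.e_x6, add_zero, zero_add, smul_zero, one_smul, C.sh_zero, C.cr_zero_left, C.cr_zero_right] at this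
    rw [this, hc', ha']
  have v2 : (E.e v).a2 = b + C.N a := by
    have := congrArg (fun x => (E.e x).a2) hv
    simp only [E.mul_a2, E.e_x6, add_zero, zero_add, mul_zero, one_mul, C.N_zero, C.sh_zero, C.T_zero_left, C.T_zero_right] at this
    rw [this, hb, ha']
  -- `u² = 1`
  have s5 : f • a = 0 := by
    have := congrArg (fun x => (E.e x).a5) h2
    simp only [E.mul_a5, E.one_a5, C.add_selfK, zero_add] at this
    rw [hf, ha']; exact this
  have f0 : f = 0 := by
    rcases smul_eq_zero.1 s5 with h | h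
    · exact h
    · exact absurd h ha
  have s2 : C.T a c + C.T (C.sh a) e = 0 := by
    have := congrArg (fun x => (E.e x).a2) h2
    simp only [E.mul_a2, E.one_a2] at this
    rw [← hb, ← hf, ← ha', ← hc', ← he, C.add_self, zero_add, f0, zero_mul, zero_add] at this
    exact this
  -- the commutator
  have h4 := congrArg (fun x => (E.e x).a4) hc
  simp only [E.mul_a4] at h4
  rw [v1, v2, v3, v5, v6, ← hb, ← hf, ← ha', ← hc', ← he, ← hd, f0] at h4
  simp only [zero_mul, add_zero, ne_eq, OfNat.ofNat_ne_zero, not_false_eq_true, zero_pow] at h4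
  have h5 : C.T a (C.sh e) + C.T (c + C.sh a) e = C.T a (C.sh (e + a)) + C.T c (e + a) := by
    have h6 : d + (E.e v).a4 + (C.T a (C.sh e) + C.T (c + C.sh a) e) = d + (E.e v).a4 + (C.T a (C.sh (e + a)) + C.T c (e + a)) := by
      linear_combination h4
    exact add_left_cancel h6
  rw [C.sh_add', C.T_add_left, C.T_add_right, C.T_add_right, C.T_add_right, C.T_self_sh] at h5
  have h7 : C.T a (C.cr e a) = 0 := by rw [C.T_comm, C.T_cr_self]
  rw [h7] at h5
  apply C.N_ne_zero ha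
  have h8 : C.N a = C.T (C.sh a) e + C.T c a - (C.T c a + C.T c a) := by linear_combination -h5
  rw [h8, C.add_self, sub_zero, C.T_comm c a, add_comm]
  exact s2

/-- `a₁ = 0`, `a₆ = 1` and `[u, u^{x₁}] = 1` is impossible -/
theorem a6_ne_one {u v : S} (h1 : (E.e u).a1 = 0) (hv : v * E.x1 1 = E.x1 1 * u) (hc : u * v = v * u) :
    (E.e u).a6 ≠ 1 := by
  intro h6
  obtain ⟨b, hb⟩ : ∃ b, b = (E.e u).a2 := ⟨_, rfl⟩
  obtain ⟨c, hc'⟩ : ∃ c, c = (E.e u).a3 := ⟨_, rfl⟩
  obtain ⟨d, hd⟩ : ∃ d, d = (E.e u).a4 := ⟨_, rfl⟩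
  obtain ⟨e, he⟩ : ∃ e, e = (E.e u).a5 := ⟨_, rfl⟩
  have v1 : (E.e v).a1 = 0 := by
    have := congrArg (fun x => (E.e x).a1) hv
    simp only [E.mul_a1, E.e_x1, h1, add_zero] at this
    exact add_eq_right.1 this
  have v6 : (E.e v).a6 = 1 := by
    have := congrArg (fun x => (E.e x).a6) hv
    simp only [E.mul_a6, E.e_x1, h6, add_zero, zero_add] at this
    exact this
  have v5 : (E.e v).a5 = e + 1 := by
    have := congrArg (fun x => (E.e x).a5) hv
    simp only [E.mul_a5, E.e_x1, v6, h1, add_zero, zero_add, smul_zero, one_smul, zero_smul] at this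
    rw [he, ← this, add_assoc, C.add_selfK, add_zero]
  have v3 : (E.e v).a3 = c + 1 + C.cr 1 e := by
    have := congrArg (fun x => (E.e x).a3) hv
    simp only [E.mul_a3, E.e_x1, v5, v6, h1, add_zero, zero_add, smul_zero, one_smul, C.sh_zero, C.sh_one, C.cr_zero_left,
      C.cr_zero_right, C.cr_add_right, C.cr_self, zero_smul] at this
    rw [← hc'] at this
    rw [← this]
    linear_combination -(C.add_selfK (1 : K)) - C.add_selfK (C.cr 1 e)
  have v2 : (E.e v).a2 = b + 1 + C.T 1 (E.e v).a3 + C.T 1 (e + 1) := by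
    have := congrArg (fun x => (E.e x).a2) hv
    simp only [E.mul_a2, E.e_x1, v5, v6, h1, add_zero, zero_add, mul_zero, zero_mul, one_mul, C.N_zero, C.N_one, C.sh_zero, C.sh_one,
      C.T_zero_left, C.T_zero_right] at this
    rw [← hb] at this
    rw [← this]
    linear_combination -(C.add_self (1 : F)) - C.add_self (C.T 1 (E.e v).a3) - C.add_self (C.T 1 (e + 1))
  have h4 := congrArg (fun x => (E.e x).a4) hc
  simp only [E.mul_a4, h1, v1, h6, v6, C.N_zero, C.T_zero_left, C.sh_zero, C.T_zero_right, mul_zero, one_mul, add_zero] at h4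
  rw [v2, v3, v5, ← hb, ← hc', ← he] at h4
  have e1 : C.T 1 1 = 1 := by
    have := C.T_self_sh 1
    rwa [C.sh_one, C.N_one] at this
  have e2 : C.T 1 (C.cr 1 e) = 0 := by rw [C.T_comm, C.T_cr_self']
  have e3 : C.T (C.cr 1 e) e = 0 := C.T_cr_self 1 e
  have e4 : C.T c 1 = C.T 1 c := C.T_comm c 1
  simp only [C.T_add_left, C.T_add_right, e1, e2, e3, e4] at h4
  have h7 : (1 : F) = 0 := by linear_combination h4 - C.add_self (1 : F) - C.add_self (C.T 1 e)
  exact one_ne_zero h7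

/-- the alternating form on `K × K` -/
noncomputable def form (C : Cubic F K) : LinearMap.BilinForm F (K × K) :=
  LinearMap.mk₂ F (fun x y => C.T x.1 y.2 + C.T y.1 x.2)
    (fun x x' y => by
      simp only [Prod.fst_add, Prod.snd_add, C.T_add_left, C.T_add_right]; ring)
    (fun c x y => by
      simp only [Prod.smul_fst, Prod.smul_snd, C.T_smul_left, C.T_smul_right, smul_eq_mul]; ring)
    (fun x y y' => by
      simp only [Prod.fst_add, Prod.snd_add, C.T_add_left, C.T_add_right]; ring)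
    (fun c x y => by
      simp only [Prod.smul_fst, Prod.smul_snd, C.T_smul_left, C.T_smul_right, smul_eq_mul]; ring)

theorem form_apply (x y : K × K) : form C x y = C.T x.1 y.2 + C.T y.1 x.2 := rfl

theorem form_nondeg (C : Cubic F K) : (form C).Nondegenerate := by
  constructor
  · intro x hx
    refine Prod.ext ?_ ?_
    · refine C.T_nondeg (fun b => ?_)
      have h1 := hx (0, b)
      rw [form_apply] at h1
      simpa [C.T_zero_left] using h1
    · refine C.T_nondeg (fun b => ?_)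
      have h1 := hx (b, 0)
      rw [form_apply] at h1
      rw [C.T_comm]
      simpa [C.T_zero_right] using h1
  · intro x hx
    refine Prod.ext ?_ ?_
    · refine C.T_nondeg (fun b => ?_)
      have h1 := hx (0, b)
      rw [form_apply] at h1
      simpa [C.T_zero_left] using h1
    · refine C.T_nondeg (fun b => ?_)
      have h1 := hx (b, 0)
      rw [form_apply] at h1
      rw [C.T_comm]
      simpa [C.T_zero_right] using h1

/-- isotropic subspaces have dimension at most 3 -/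
theorem finrank_le (hD : Dat2 C) (W : Submodule F (K × K)) (hW : ∀ x ∈ W, ∀ y ∈ W, form C x y = 0) :
    Module.finrank F W ≤ 3 := by
  have hfF := hD.finite_F
  have hfK := hD.finite_K
  have hfd : Module.Finite F K := Module.finite_of_finrank_pos (by rw [hD.deg]; norm_num)
  have h1 := LinearMap.BilinForm.finrank_orthogonal (form_nondeg C) W
  have h2 : W ≤ (form C).orthogonal W := by
    intro x hx
    rw [LinearMap.BilinForm.mem_orthogonal_iff]
    intro y hy
    exact hW y hy x hx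
  have h3 := Submodule.finrank_mono h2
  rw [h1, Module.finrank_prod, hD.deg] at h3
  omega

/-- **abelian subgroups of `{a₁ = a₆ = 0}` have order at most 32** -/
theorem card_le (hD : Dat2 C) (U : Subgroup S) (h1 : ∀ u ∈ U, (E.e u).a1 = 0) (h6 : ∀ u ∈ U, (E.e u).a6 = 0)
    (hc : ∀ u ∈ U, ∀ v ∈ U, u * v = v * u) : Nat.card U ≤ 32 := by
  have hfF := hD.finite_F
  have hfK := hD.finite_K
  have hadd : ∀ u ∈ U, ∀ v ∈ U, (E.e (u * v)).a3 = (E.e u).a3 + (E.e v).a3 ∧ (E.e (u * v)).a5 = (E.e u).a5 + (E.e v).a5 := by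
    intro u hu v hv
    rw [E.mul_a3, E.mul_a5, h6 u hu, h1 v hv]
    simp [C.cr_zero_left]
  let W : Submodule F (K × K) :=
    { carrier := {x | ∃ u ∈ U, x = ((E.e u).a3, (E.e u).a5)}
      add_mem' := by
        rintro _ _ ⟨u, hu, rfl⟩ ⟨v, hv, rfl⟩
        refine ⟨u * v, mul_mem hu hv, ?_⟩
        rw [(hadd u hu v hv).1, (hadd u hu v hv).2]; rfl
      zero_mem' := ⟨1, one_mem _, by rw [E.one_a3, E.one_a5]; rfl⟩
      smul_mem' := by
        rintro c _ ⟨u, hu, rfl⟩
        rcases hD.eq_zero_or_one c with rfl | rfl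
        · exact ⟨1, one_mem _, by rw [E.one_a3, E.one_a5, zero_smul]; rfl⟩
        · exact ⟨u, hu, by rw [one_smul]⟩ }
  have hW : ∀ x ∈ W, ∀ y ∈ W, form C x y = 0 := by
    rintro _ ⟨u, hu, rfl⟩ _ ⟨v, hv, rfl⟩
    have h2 := congrArg (fun x => (E.e x).a4) (hc u hu v hv)
    simp only [E.mul_a4, h1 u hu, h1 v hv, h6 u hu, h6 v hv, C.N_zero, C.T_zero_left, C.T_zero_right, C.sh_zero, mul_zero,
      zero_mul, add_zero] at h2
    rw [form_apply]
    have h3 : C.T (E.e v).a3 (E.e u).a5 = C.T (E.e u).a3 (E.e v).a5 := by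
      have h4 : (E.e u).a4 + (E.e v).a4 + C.T (E.e v).a3 (E.e u).a5 = (E.e u).a4 + (E.e v).a4 + C.T (E.e u).a3 (E.e v).a5 := by
        rw [h2]; ring
      exact add_left_cancel h4
    rw [h3, C.add_self]
  have h8 : Nat.card W ≤ 8 := by
    have hfd : Module.Finite F W := Module.Finite.of_finite
    rw [Module.natCard_eq_pow_finrank (K := F) (V := W), hD.card]
    calc 2 ^ Module.finrank F W ≤ 2 ^ 3 := Nat.pow_le_pow_right (by norm_num) (finrank_le hD W hW)
      _ = 8 := by norm_num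
  let f : ↥U → (F × F) × W := fun u => (((E.e u.1).a2, (E.e u.1).a4), ⟨((E.e u.1).a3, (E.e u.1).a5), u.1, u.2, rfl⟩)
  have hf : Function.Injective f := by
    intro u v huv
    simp only [f, Prod.mk.injEq, Subtype.mk.injEq] at huv
    obtain ⟨⟨e2, e4⟩, e3, e5⟩ := huv
    exact Subtype.ext (E.ext (by rw [h1 _ u.2, h1 _ v.2]) e2 e3 e4 e5 (by rw [h6 _ u.2, h6 _ v.2]))
  have hfW : Finite W := inferInstance
  have h9 := Nat.card_le_card_of_injective f hf
  rw [Nat.card_prod, Nat.card_prod, hD.card] at h9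
  omega

/-- **normal elementary abelian subgroups have order at most 32** -/
theorem card_le_of_normal (E : Coord C S) (hD : Dat2 C) (U : Subgroup S) (hn : ∀ g : S, ∀ u ∈ U, g * u * g⁻¹ ∈ U)
    (h2 : ∀ u ∈ U, u * u = 1) (hc : ∀ u ∈ U, ∀ v ∈ U, u * v = v * u) : Nat.card U ≤ 32 := by
  have h1 : ∀ u ∈ U, (E.e u).a1 = 0 := fun u hu =>
    a1_eq_zero E (h2 u hu) (inv_mul_cancel_right _ _) (hc u hu _ (hn (E.x6 1) u hu))
  have h6 : ∀ u ∈ U, (E.e u).a6 = 0 := by
    intro u hu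
    rcases hD.eq_zero_or_one (E.e u).a6 with h | h
    · exact h
    · exact absurd h (a6_ne_one E (h1 u hu) (inv_mul_cancel_right _ _) (hc u hu _ (hn (E.x1 1) u hu)))
  exact card_le E hD U h1 h6 hc

end Cfsg.Agent.H4.TwD4
end

-- part: H4/TwD4/Nine
section
/-!
# No element of order 9 acts on a group of order at most 32 (helper4)
-/

set_option autoImplicit false

namespace Cfsg.Agent.H4.TwD4

open Subgroup Cfsg Cfsg.Agent.H4.Small

universe u v

theorem card_dvd_free {A Y : Type*} [Group A] [MulAction A Y]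
    (h : ∀ (a : A) (y : Y), a • y = y → a = 1) : Nat.card A ∣ Nat.card Y := by
  have hst : ∀ y : Y, MulAction.stabilizer A y = ⊥ := by
    intro y
    rw [eq_bot_iff]
    intro a ha
    exact h a y ha
  rw [Nat.card_congr (MulAction.selfEquivOrbitsQuotientProd hst), Nat.card_prod]
  exact dvd_mul_left _ _

/-- the fixed points of `y³` -/
def fixThree {U : Type*} [Group U] (y : MulAut U) : Subgroup U where
  carrier := {u | (y ^ 3) u = u}
  one_mem' := map_one _
  mul_mem' {a b} ha hb := by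
    show (y ^ 3) (a * b) = a * b
    rw [map_mul, ha, hb]
  inv_mem' {a} ha := by
    show (y ^ 3) a⁻¹ = a⁻¹
    rw [map_inv, ha]

/-- **a group of order at most 32 has no automorphism of order 9** -/
theorem cube_eq_one {U : Type*} [Group U] [Finite U] {n : ℕ} (hn : Nat.card U = 2 ^ n) (h5 : n ≤ 5) {y : MulAut U}
    (h9 : y ^ 9 = 1) : y ^ 3 = 1 := by
  by_contra h3
  have ho : orderOf y = 3 ^ 2 := orderOf_eq_prime_pow (p := 3) (n := 1) (by rwa [pow_one]) (by simpa using h9)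
  have hne : fixThree y ≠ ⊤ := by
    intro h
    apply h3
    ext u
    have h1 : u ∈ fixThree y := by rw [h]; exact mem_top _
    exact h1
  -- the action of `⟨y⟩` on the complement of the fixed points
  have hst : ∀ (a : zpowers y) (u : U), u ∉ fixThree y → (a : MulAut U) u ∉ fixThree y := by
    rintro ⟨a, k, rfl⟩ u hu hau
    apply hu
    have h1 : (y ^ 3) ((y ^ k) u) = (y ^ k) u := hau
    have h2 : (y ^ k) ((y ^ 3) u) = (y ^ k) u := by
      rw [← h1, ← MulAut.mul_apply, ← MulAut.mul_apply, ← zpow_natCast y 3, ← zpow_add, ← zpow_add, add_comm]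
    exact (y ^ k).injective h2
  let act : MulAction (zpowers y) {u : U // u ∉ fixThree y} :=
    { smul := fun a u => ⟨(a : MulAut U) u.1, hst a u.1 u.2⟩
      one_smul := fun u => rfl
      mul_smul := fun a b u => rfl }
  have hfree : ∀ (a : zpowers y) (u : {u : U // u ∉ fixThree y}), a • u = u → a = 1 := by
    intro a u hau
    by_contra ha
    apply u.2
    have h1 : (a : MulAut U) u.1 = u.1 := congrArg Subtype.val hau
    have h2 : ∀ m : ℕ, ((a : MulAut U) ^ m) u.1 = u.1 := by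
      intro m
      induction m with
      | zero => rfl
      | succ m ih => rw [pow_succ, MulAut.mul_apply, h1, ih]
    obtain ⟨k, hk⟩ : ∃ k : ℕ, y ^ k = (a : MulAut U) := (mem_powers_iff_mem_zpowers.2 a.2)
    have h3 : orderOf (a : MulAut U) ∣ 3 ^ 2 := by
      rw [← hk, ← ho]; exact orderOf_pow_dvd k
    have h4 : ∃ m : ℕ, (a : MulAut U) ^ m = y ^ 3 := by
      have h5 : ¬ 9 ∣ k := by
        rintro ⟨c, rfl⟩
        apply ha
        apply Subtype.ext
        rw [← hk, pow_mul, h9, one_pow]; rfl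
      -- `gcd k 9 ∣ 3`
      have h6 : Nat.gcd k 9 ∣ 3 := by
        have h7 : Nat.gcd k 9 ∣ 3 ^ 2 := Nat.gcd_dvd_right k 9
        obtain ⟨i, hi, hgi⟩ := (Nat.dvd_prime_pow Nat.prime_three).1 h7
        interval_cases i
        · rw [hgi]; norm_num
        · rw [hgi]; norm_num
        · exfalso
          apply h5
          have h8 := Nat.gcd_dvd_left k 9
          rwa [hgi] at h8
      have h7 : ∃ m : ℕ, k * m ≡ 3 [MOD 9] := by
        obtain ⟨c, hc⟩ := h6
        have h8 := Nat.gcd_eq_gcd_ab k 9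
        have h10 : (3 : ℤ) = k * (k.gcdA 9 * c) + 9 * (k.gcdB 9 * c) := by
          have : (3 : ℤ) = (Nat.gcd k 9 : ℤ) * c := by exact_mod_cast hc
          rw [this, h8]; push_cast; ring
        refine ⟨((k.gcdA 9 * c) % 9).toNat, ?_⟩
        have h11 : (0 : ℤ) ≤ (k.gcdA 9 * c) % 9 := Int.emod_nonneg _ (by norm_num)
        apply (Int.natCast_modEq_iff).1
        push_cast
        rw [Int.toNat_of_nonneg h11]
        have h12 : (k : ℤ) * (k.gcdA 9 * c) ≡ 3 [ZMOD 9] := by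
          rw [Int.modEq_iff_dvd]
          exact ⟨k.gcdB 9 * c, by linear_combination h10⟩
        exact ((Int.ModEq.refl (k : ℤ)).mul (Int.mod_modEq _ _)).trans h12
      obtain ⟨m, hm⟩ := h7
      refine ⟨m, ?_⟩
      rw [← hk, ← pow_mul]
      have h8 : k * m ≡ 3 [MOD orderOf y] := by rw [ho]; exact hm
      exact pow_eq_pow_iff_modEq.2 h8
    obtain ⟨m, hm⟩ := h4
    show (y ^ 3) u.1 = u.1
    rw [← hm]
    exact h2 m
  have h1 := card_dvd_free hfree
  rw [Nat.card_zpowers, ho] at h1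
  have h2 : Nat.card {u : U // u ∉ fixThree y} = Nat.card U - Nat.card (fixThree y) := by
    have h3 : Nat.card (fixThree y) + Nat.card {u : U // u ∉ fixThree y} = Nat.card U := by
      classical
      rw [← Nat.card_sum]
      exact Nat.card_congr (Equiv.sumCompl (fun u => u ∈ fixThree y))
    omega
  have h3 := (fixThree y).card_subgroup_dvd_card
  rw [hn] at h3
  obtain ⟨m, hm, hm'⟩ := (Nat.dvd_prime_pow Nat.prime_two).1 h3
  have h4 : m < n := by
    rcases hm.lt_or_eq with h | h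
    · exact h
    · exfalso
      apply hne
      rw [← Subgroup.card_eq_iff_eq_top, hm', hn, h]
  rw [h2, hn, hm'] at h1
  interval_cases n <;> interval_cases m <;> revert h1 <;> decide

section main

variable {G : Type u} [Group G]

theorem false_of_nine [Finite G] {L U : Subgroup G} (h : Acts L U) (h32 : Nat.card ↥U ≤ 32) {Q : Type v} [Group Q]
    [IsSimpleGroup Q] (e : (↥L ⧸ pCore 2 ↥L) ≃* Q) {x : Q} (h9 : x ^ 9 = 1) (h3 : x ^ 3 ≠ 1) : False := by
  have h2f : Fact (Nat.Prime 2) := ⟨Nat.prime_two⟩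
  obtain ⟨n, hn⟩ := h.exists_card
  have h5 : n ≤ 5 := by
    by_contra hlt
    have h1 : 2 ^ 6 ≤ 2 ^ n := Nat.pow_le_pow_right (by norm_num) (by omega)
    rw [hn] at h32
    omega
  let π : ↥L →* Q := e.toMonoidHom.comp (QuotientGroup.mk' (pCore 2 ↥L))
  have hπ : Function.Surjective π := e.surjective.comp (QuotientGroup.mk'_surjective _)
  have hker : ∀ l, π l = 1 ↔ l ∈ pCore 2 ↥L := by
    intro l
    have h1 : π l = 1 ↔ QuotientGroup.mk' (pCore 2 ↥L) l = 1 := by
      show e (QuotientGroup.mk' (pCore 2 ↥L) l) = 1 ↔ _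
      exact e.map_eq_one_iff
    rw [h1, ← MonoidHom.mem_ker, QuotientGroup.ker_mk']
  have hN : ((act h.norm).ker.map π).Normal := Subgroup.Normal.map inferInstance π hπ
  rcases hN.eq_bot_or_eq_top with hb | ht
  · obtain ⟨l, hl⟩ := hπ x
    have h6 : ∀ k : ℕ, (act h.norm l) ^ k = 1 → x ^ k = 1 := by
      intro k hk
      have h7 : l ^ k ∈ (act h.norm).ker := by rw [MonoidHom.mem_ker, map_pow, hk]
      have h8 : π (l ^ k) ∈ ((act h.norm).ker.map π) := Subgroup.mem_map_of_mem π h7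
      rw [hb, Subgroup.mem_bot, map_pow, hl] at h8
      exact h8
    have ho : orderOf x = 3 ^ 2 := orderOf_eq_prime_pow (p := 3) (n := 1) (by rwa [pow_one]) (by simpa using h9)
    have h7 : 3 ^ 2 ∣ orderOf (act h.norm l) := by
      rw [← ho, orderOf_dvd_iff_pow_eq_one]
      exact h6 _ (pow_orderOf_eq_one _)
    obtain ⟨c, hc⟩ := h7
    have h10 : ((act h.norm l) ^ c) ^ 9 = 1 := by
      rw [← pow_mul, mul_comm, show 9 = 3 ^ 2 from rfl, ← hc, pow_orderOf_eq_one]
    have h11 := cube_eq_one hn h5 h10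
    rw [← pow_mul] at h11
    have h12 := orderOf_dvd_of_pow_eq_one h11
    rw [hc] at h12
    have hc0 : 0 < c := by
      rcases Nat.eq_zero_or_pos c with h0 | h0
      · rw [h0, mul_zero] at hc
        exact absurd hc (orderOf_pos _).ne'
      · exact h0
    have h13 := Nat.le_of_dvd (by positivity) h12
    omega
  · -- the action factors through `O₂(L)`
    apply h.not_solvable
    have h6 : (act h.norm).range = ((act h.norm).comp (pCore 2 ↥L).subtype).range := by
      apply le_antisymm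
      · rintro _ ⟨l, rfl⟩
        have h7 : π l ∈ ((act h.norm).ker.map π) := by rw [ht]; exact mem_top _
        obtain ⟨k, hk, hkl⟩ := h7
        have h8 : k⁻¹ * l ∈ pCore 2 ↥L := by
          rw [← hker, map_mul, map_inv, hkl, inv_mul_cancel]
        refine ⟨⟨k⁻¹ * l, h8⟩, ?_⟩
        show act h.norm (k⁻¹ * l) = act h.norm l
        rw [map_mul, map_inv, MonoidHom.mem_ker.1 hk, inv_one, one_mul]
      · rintro _ ⟨l, rfl⟩
        exact ⟨l.1, rfl⟩
    rw [h6]
    have h7 : IsPGroup 2 ↥(pCore 2 ↥L) := Cfsg.Agent.Lib.Cores.pCore_isPGroup (G := ↥L) 2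
    have h8 : Group.IsSolvable ↥(pCore 2 ↥L) := by
      have := h7.isNilpotent
      infer_instance
    exact Group.isSolvable_of_surjective (f := ((act h.norm).comp (pCore 2 ↥L).subtype).rangeRestrict)
      (MonoidHom.rangeRestrict_surjective _)

end main

section sl

variable {K : Type v} [Field K] [Fintype K]

/-- the matrix `(0, 1; 1, t)` -/
theorem exists_nine (hK : Fintype.card K = 8) :
    ∃ x : Matrix.SpecialLinearGroup (Fin 2) K, x ^ 9 = 1 ∧ x ^ 3 ≠ 1 := by
  have h2 : (2 : K) = 0 := by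
    have h1 : ((Fintype.card K : ℕ) : K) = 0 := Nat.cast_card_eq_zero K
    rw [hK] at h1
    have h3 : (2 : K) ^ 3 = 0 := by exact_mod_cast h1
    exact (pow_eq_zero_iff (by norm_num)).1 h3
  have hexists : ∃ t : K, t ^ 3 + t + 1 = 0 := by
    classical
    obtain ⟨a, ha⟩ : ∃ a : K, a ∉ ({0, 1} : Finset K) := by
      by_contra hcon
      push Not at hcon
      have h1 : (Finset.univ : Finset K) ⊆ {0, 1} := fun a _ => hcon a
      have h3 := Finset.card_le_card h1
      rw [Finset.card_univ, hK] at h3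
      have h4 : ({0, 1} : Finset K).card ≤ 2 := Finset.card_le_two
      omega
    simp only [Finset.mem_insert, Finset.mem_singleton, not_or] at ha
    have h8 : a ^ 8 = a := by rw [← hK]; exact FiniteField.pow_card a
    have h7 : a * (a + 1) * ((a ^ 3 + a + 1) * (a ^ 3 + a ^ 2 + 1)) = 0 := by
      linear_combination h8 + (a^7 + a^6 + 2 * a^5 + 2 * a^4 + a ^ 3 + a ^ 2 + a) * h2
    rcases mul_eq_zero.1 h7 with h | h
    · rcases mul_eq_zero.1 h with h | h
      · exact absurd h ha.1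
      · exfalso
        apply ha.2
        linear_combination h - h2
    · rcases mul_eq_zero.1 h with h | h
      · exact ⟨a, h⟩
      · refine ⟨a⁻¹, ?_⟩
        have ha0 := ha.1
        field_simp
        linear_combination h
  obtain ⟨t, ht⟩ := hexists
  let M : Matrix (Fin 2) (Fin 2) K := !![0, 1; 1, t]
  have hdet : M.det = 1 := by
    rw [Matrix.det_fin_two_of]
    linear_combination -h2
  let x : Matrix.SpecialLinearGroup (Fin 2) K := ⟨M, hdet⟩
  have hM3 : M ^ 3 = !![t, t ^ 2 + 1; t ^ 2 + 1, t ^ 3 + 2 * t] := by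
    rw [pow_succ, pow_two]
    ext i j
    (revert i j; simp only [M, Matrix.mul_apply, Fin.sum_univ_two, _root_.Fin.forall_fin_succ, _root_.Matrix.cons_mul, _root_.Nat.succ_eq_add_one, Nat.reduceAdd, _root_.Matrix.vecMul_cons, _root_.Matrix.head_cons, _root_.zero_smul, _root_.Matrix.tail_cons, _root_.one_smul, _root_.Matrix.empty_vecMul, _root_.add_zero, _root_.zero_add, _root_.Matrix.smul_cons, _root_.smul_eq_mul, _root_.mul_one, _root_.Matrix.smul_empty, _root_.Matrix.add_cons, _root_.Matrix.empty_add_empty, _root_.Matrix.empty_mul, _root_.Equiv.symm_apply_apply, _root_.Matrix.of_apply, _root_.Matrix.cons_val', _root_.Matrix.cons_val_fin_one, Fin.isValue, _root_.Matrix.cons_val_zero, _root_.Matrix.cons_val_one, _root_.MulZeroClass.mul_zero, _root_.Matrix.cons_val_succ, _root_.forall_const, _root_.true_and, _root_.and_self_left]) <;> (repeat' with_reducible apply And.intro) <;> ring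
  have hM9 : M ^ 9 = 1 := by
    have h1 : (!![t, t ^ 2 + 1; t ^ 2 + 1, t ^ 3 + 2 * t] : Matrix (Fin 2) (Fin 2) K) =
        !![t, t ^ 2 + 1; t ^ 2 + 1, t + 1] := by
      ext i j
      (revert i j; simp only [_root_.Fin.forall_fin_succ, _root_.Matrix.of_apply, _root_.Matrix.cons_val', _root_.Matrix.cons_val_fin_one, Fin.isValue, _root_.Matrix.cons_val_zero, _root_.Matrix.cons_val_succ, _root_.forall_const, _root_.and_true, _root_.true_and]) <;> (repeat' with_reducible apply And.intro)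
      linear_combination ht - h2
    have h3 : (!![t, t ^ 2 + 1; t ^ 2 + 1, t + 1] : Matrix (Fin 2) (Fin 2) K) * !![t, t ^ 2 + 1; t ^ 2 + 1, t + 1] =
        !![t, t ^ 2 + 1; t ^ 2 + 1, t + 1] + 1 := by
      ext i j
      fin_cases i <;> fin_cases j <;> simp only [Matrix.mul_apply, Fin.sum_univ_two, _root_.Fin.zero_eta, _root_.Fin.isValue, _root_.Matrix.of_apply, _root_.Matrix.cons_val', _root_.Matrix.cons_val_fin_one, _root_.Matrix.cons_val_zero, _root_.Matrix.cons_val_one, _root_.Matrix.add_apply, _root_.Matrix.one_apply_eq, _root_.Fin.mk_one, _root_.Nat.reduceAdd, _root_.ne_eq, _root_.zero_ne_one, _root_.not_false_eq_true, _root_.Matrix.one_apply_ne, _root_.add_zero, _root_.one_ne_zero]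
      · linear_combination t * ht + (t ^ 2 - t) * h2
      · linear_combination (t ^ 3 + t) * h2
      · linear_combination (t ^ 3 + t) * h2
      · linear_combination t * ht + t ^ 2 * h2
    have h4 : ∀ A : Matrix (Fin 2) (Fin 2) K, A + A = 0 := by
      intro A
      rw [← two_smul K A, h2, zero_smul]
    rw [show 9 = 3 * 3 from rfl, pow_mul, hM3, h1, pow_succ, pow_two, h3, add_mul, one_mul, h3, add_assoc, add_comm 1,
      ← add_assoc, h4, zero_add]
  refine ⟨x, ?_, ?_⟩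
  · apply Subtype.ext
    rw [Matrix.SpecialLinearGroup.coe_pow]
    exact hM9
  · intro h
    have h1 := congrArg (fun z : Matrix.SpecialLinearGroup (Fin 2) K => (z : Matrix (Fin 2) (Fin 2) K) 0 0) h
    have h3 := congrArg (fun z : Matrix.SpecialLinearGroup (Fin 2) K => (z : Matrix (Fin 2) (Fin 2) K) 0 1) h
    simp only [Matrix.SpecialLinearGroup.coe_pow, Matrix.SpecialLinearGroup.coe_one] at h1 h3
    have h4 : (x : Matrix (Fin 2) (Fin 2) K) ^ 3 = M ^ 3 := rfl
    rw [h4, hM3] at h1 h3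
    simp at h1
    rw [h1] at ht
    apply one_ne_zero (α := K)
    linear_combination ht - h2

end sl

end Cfsg.Agent.H4.TwD4
end

-- part: H4/TwD4/Row
section
/-!
# The row of `³D₄(2)`: `ℒ_f(G, T)` is empty (helper4)
-/

set_option autoImplicit false

namespace Cfsg.Agent.H4.TwD4

open Subgroup Cfsg Cfsg.Agent.H4.Small Cfsg.Agent.H4.Lf Cfsg.Agent.H4.LfTrans
open Cfsg.Agent.HexRec Cfsg.Agent.HexTwoGlob

universe u v w

/-- normal elementary abelian subgroups of a Sylow 2-subgroup have order at most 32 -/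
theorem card_le_sylow {X : Type v} [Group X] [Finite X] {F K : Type w} [Field F] [Field K] [Algebra F K] {C : Cubic F K}
    (hD : Dat2 C) {P : Sylow 2 X} (E : Coord C (P : Subgroup X)) {U : Subgroup X} (h1 : U ≤ (P : Subgroup X))
    (h2 : (P : Subgroup X) ≤ normalizer (U : Set X)) (h3 : ∀ a ∈ U, ∀ b ∈ U, a * b = b * a) (h4 : ∀ a ∈ U, a * a = 1) :
    Nat.card ↥U ≤ 32 := by
  have h5 := card_le_of_normal E hD (U.subgroupOf (P : Subgroup X)) (fun g u hu => by
      rw [mem_subgroupOf] at hu ⊢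
      exact (mem_normalizer_iff.1 (h2 g.2) u).1 hu)
    (fun u hu => Subtype.ext (h4 _ (mem_subgroupOf.1 hu)))
    (fun u hu v hv => Subtype.ext (h3 _ (mem_subgroupOf.1 hu) _ (mem_subgroupOf.1 hv)))
  rwa [Nat.card_congr (subgroupOfEquivOfLe h1).toEquiv] at h5

/-- **row `³D₄(2)`** -/
theorem noLf {G : Type u} [Group G] [Finite G] (hE : IsOfEvenCharacteristic G) {K : Type} [Field K] [Fintype K]
    (hK : Fintype.card K = 8) (e : G ≃* ↥(Lie.twistedD4 K 2)) : NoLf G := by
  have h2f : Fact (Nat.Prime 2) := ⟨Nat.prime_two⟩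
  have hchar : CharP K 2 := charP_of_card_eq_prime_pow (R := K) (f := 3) (by rw [hK]; norm_num)
  have hq : IsPrimePow 2 := Nat.prime_two.isPrimePow
  obtain ⟨F, _, _, _, hc, hrow⟩ := H1.RowExc.row_twD4 hq (by rw [hK]; norm_num) e
  obtain ⟨F₀, _, _, C, hD, hcoord⟩ := InstTwo.instTwo K hK
  refine NoLf.of_forall fun T L hL => ?_
  obtain ⟨-, i, ⟨f⟩⟩ := hrow T L hL.1
  rcases hc i with h | h
  · -- `SL₂(2)` is solvable
    apply not_solvable hL.1
    have h1 : Group.IsSolvable (Matrix.SpecialLinearGroup (Fin 2) (F i)) := H1.RowExc.solvable_sl (F i) (by omega)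
    have h2 : Group.IsSolvable (↥L ⧸ pCore 2 ↥L) := Group.isSolvable_of_surjective (f := f.symm.toMonoidHom) f.symm.surjective
    have h3 : Group.IsSolvable ↥(pCore 2 ↥L) := by
      have := (Cfsg.Agent.Lib.Cores.pCore_isPGroup (G := ↥L) 2).isNilpotent
      infer_instance
    exact Group.isSolvable_of_ker_le_range (pCore 2 ↥L).subtype (QuotientGroup.mk' (pCore 2 ↥L)) (by
      rw [QuotientGroup.ker_mk', Subgroup.range_subtype])
  · -- `SL₂(8)`
    have h8 : Fintype.card (F i) = 8 := by rw [h]; norm_num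
    have hs : IsSimpleGroup (Matrix.SpecialLinearGroup (Fin 2) (F i)) := H1.RowExc.simple_sl (F i) (by omega)
    obtain ⟨x, h9, h3⟩ := exists_nine h8
    obtain ⟨U, hU1, hU2, hU⟩ := exists_acts hE T hL
    refine false_of_nine hU ?_ f h9 h3
    obtain ⟨E⟩ := hcoord (mapSylow e T)
    have h4 : Nat.card ↥(U.map e.toMonoidHom) ≤ 32 := by
      refine card_le_sylow hD E ?_ ?_ ?_ ?_
      · rw [coe_mapSylow]; exact Subgroup.map_mono hU1
      · rw [coe_mapSylow]
        rintro _ ⟨t, ht, rfl⟩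
        rw [mem_normalizer_iff]
        intro y
        have h5 := mem_normalizer_iff.1 (hU2 ht)
        constructor
        · rintro ⟨a, ha, rfl⟩
          exact ⟨t * a * t⁻¹, (h5 a).1 ha, by simp only [_root_.MulEquiv.toMonoidHom_eq_coe, _root_.MonoidHom.coe_coe, _root_.map_mul, _root_.map_inv]⟩
        · rintro ⟨a, ha, hay⟩
          refine ⟨t⁻¹ * a * t, (h5 _).2 (by rwa [show t * (t⁻¹ * a * t) * t⁻¹ = a by group]), ?_⟩
          have h6 : e a = e t * y * (e t)⁻¹ := hay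
          show e (t⁻¹ * a * t) = y
          rw [map_mul, map_mul, h6, map_inv]
          group
      · rintro _ ⟨a, ha, rfl⟩ _ ⟨b, hb, rfl⟩
        rw [← map_mul, ← map_mul, hU.comm a ha b hb]
      · rintro _ ⟨a, ha, rfl⟩
        rw [← map_mul, hU.sq a ha, map_one]
    rwa [← Nat.card_congr (U.equivMapOfInjective e.toMonoidHom e.injective).toEquiv] at h4

end Cfsg.Agent.H4.TwD4
end

-- part: H4/Hyp
section
/-!
# The open rows of `H5.Resid` (helper4)
-/

set_option autoImplicit false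

namespace Cfsg.Agent.H4.HypAll

open Subgroup Cfsg Cfsg.Agent.H4.LfTrans Cfsg.Agent.H5.Resid Cfsg.Agent.H5

universe u

variable {G : Type u} [Group G] [Finite G]

theorem exists_zmod_two {F : Type*} [Field F] [Fintype F] (hF : Fintype.card F = 2) : Nonempty (F ≃+* ZMod 2) :=
  ⟨(ZMod.ringEquivOfPrime F Nat.prime_two hF).symm⟩

theorem sp62 (h : Sp62 G) : LfRow G (fun L => IsAlt 6 L ∨ IsL3 L) := by
  obtain ⟨F, _, _, hF, ⟨e⟩⟩ := h
  obtain ⟨f⟩ := exists_zmod_two hF
  have hchar : CharP F 2 := (RingHom.charP_iff (f : F →+* ZMod 2) f.injective 2).2 inferInstance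
  have hrow := H1.SpSix.row_spSix hF e
  have h1 : ∀ (T : Sylow 2 G), ∀ L ∈ calL (T : Subgroup G), (T : Subgroup G) ≤ normalizer (L : Set G) ∧
      (IsAlt 6 L ∨ IsL3 L) := by
    intro T L hL
    obtain ⟨h1, b, ⟨g⟩⟩ := hrow T L hL
    refine ⟨h1, ?_⟩
    cases b
    · exact Or.inl ⟨g⟩
    · exact Or.inr ⟨MulEquiv.trans g (Cfsg.Agent.LieClassical.FieldTransfer.pslCongr (ι := Fin 3) f)⟩
  have hc : ∀ L : Subgroup G, (IsAlt 6 L ∨ IsL3 L) → Nat.card (↥L ⧸ pCore 2 ↥L) = 360 ∨ Nat.card (↥L ⧸ pCore 2 ↥L) = 168 := by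
    rintro L (h | h)
    · obtain ⟨g⟩ := h
      left; rw [Nat.card_congr g.toEquiv, ResidEnd.card_alt_six]
    · obtain ⟨g⟩ := h
      right; rw [Nat.card_congr g.toEquiv, ResidEnd.card_l3]
  intro T L hL
  obtain ⟨h2, h3⟩ := h1 T L hL.1
  refine ⟨h2, ⟨MaxOf.mem_calLMax T hL.1 h2 fun K hK _ hd => ?_, hL.2⟩, h3⟩
  rcases hc L h3 with h4 | h4 <;> rcases hc K (h1 T K hK).2 with h5 | h5 <;> rw [h4, h5] at hd ⊢
  · exact absurd hd (by norm_num)
  · exact absurd hd (by norm_num)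

theorem u43 (hFT : Top.FT.{0}) (hE : IsOfEvenCharacteristic G) (h : U43 G) : LfRow G (IsAlt 6) := by
  obtain ⟨F, _, _, hF, ⟨e⟩⟩ := h
  intro T L hL
  obtain ⟨h1, h2, h3, -⟩ := H4.U43.u43 hE hFT hF e T L hL
  exact ⟨h1, h2, h3⟩

theorem d42 (hE : IsOfEvenCharacteristic G) (h : D42 G) : NoLf G := by
  obtain ⟨K, _, _, hK, ⟨e⟩⟩ := h
  exact H4.TwD4.noLf hE hK e

/-- **all the open rows** -/
theorem hyp (hFT : Top.FT.{0}) (hE : IsOfEvenCharacteristic G) : Hyp G where
  sp62 := sp62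
  u43 := u43 hFT hE
  d42 := d42 hE
  tits := H4.RowTits.tits

/-- **every group of the residual case on the list** -/
theorem row (hFT0 : Top.FT.{0}) (hFT : Top.FT.{u}) (hE : IsOfEvenCharacteristic G) (hl : IsOnQTKEList G)
    (hR : InResidualCase G) : LfRow G Conc :=
  main hFT hE hl hR (hyp hFT0 hE)

end Cfsg.Agent.H4.HypAll
end
end

-- part: H3/Table_mg
section
prune_inst 0x11203114140002000000059611003c02fe000090006b8001d1a00a440e86bd2100002f60f4201b02092822ac20390048104c00d90040000004000600411900a0808350063310ad0434000f809884400000000000000000000000000000041004000000000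
set_option linter.all false
open scoped Cfsg.Agent.FastGrp

-- part: H3/Table
section
/-!
# The quasithin list: residual groups and the others (helper3)

`table`: a group on the quasithin list either satisfies `H5.Resid.Conc` for all members of `ℒ_f(G, T)`, or is of Lie rank 2
over a field with more than two elements, or one of eight groups.
-/

set_option autoImplicit false

namespace Cfsg.Agent.H3.Table

open Subgroup Cfsg Cfsg.Agent.H4.LfTrans Cfsg.Agent.H5.Resid

universe u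

/-- every member of `ℒ_f(G, T)` has the property `P` -/
def Row (G : Type u) [Group G] (P : Subgroup G → Prop) : Prop :=
  ∀ (T : Sylow 2 G), ∀ L ∈ calLf (T : Subgroup G), P L

theorem Row.of_noLf {G : Type u} [Group G] {P : Subgroup G → Prop} (h : NoLf G) : Row G P := by
  intro T L hL
  rw [h T] at hL
  exact hL.elim

theorem Row.of_lfRow {G : Type u} [Group G] {P : Subgroup G → Prop} (h : LfRow G P) : Row G P :=
  fun T L hL => (h T L hL).2.2

theorem Row.mono {G : Type u} [Group G] {P Q : Subgroup G → Prop} (h : Row G P) (hPQ : ∀ L, P L → Q L) : Row G Q :=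
  fun T L hL => hPQ L (h T L hL)

/-- the eight further groups -/
def Eight (G : Type u) [Group G] : Prop :=
  (∃ (F : Type) (_ : Field F) (_ : Fintype F), Fintype.card F = 2 ∧
      Nonempty (G ≃* Matrix.ProjectiveSpecialLinearGroup (Fin 4) F)) ∨
    (∃ (F : Type) (_ : Field F) (_ : Fintype F), Fintype.card F = 2 ∧
      Nonempty (G ≃* Matrix.ProjectiveSpecialLinearGroup (Fin 5) F)) ∨
    Nonempty (G ≃* alternatingGroup (Fin 9)) ∨ Spor.IsoM22 G ∨ Spor.IsoM23 G ∨ Spor.IsoM24 G ∨ Spor.IsoHe G ∨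
    Spor.IsoJ4 G

/-- the types in the residual case -/
def Conc0 {G : Type u} [Group G] (L : Subgroup G) : Prop := IsAlt 6 L ∨ IsAlt 5 L ∨ IsL3 L

/-- **The table.** -/
theorem table {G : Type u} [Group G] [Finite G] (hFT : H5.Top.FT.{u}) (hE : IsOfEvenCharacteristic G)
    (hl : IsOnQTKEList G) (H : Hyp G) :
    Row G Conc0 ∨ IsLieRankTwoCharTwoLargeField G ∨ Eight G := by
  rcases hl with h | h | h | h | h
  · rcases h with h | ⟨F, _, _, hF, h | ⟨h4, h⟩ | ⟨h4, h⟩⟩ | ⟨F, _, _, n, hn, hF, h⟩ | ⟨F, _, _, hF, h⟩ |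
      ⟨K, _, _, n, hn, hK, h⟩ | h | h
    · exact Or.inl (.of_noLf (H4.Rows1.bender hFT hE h))
    · by_cases h4 : 4 ≤ Fintype.card F
      · exact Or.inr (Or.inl (Or.inl ⟨F, _, _, hF, h4, Or.inl h⟩))
      · obtain ⟨e⟩ := h
        have h2 : Fintype.card F = 2 := by
          obtain ⟨m, -, hm⟩ := FiniteField.card F 2
          have h5 : (m : ℕ) ≠ 0 := m.ne_zero
          rcases Nat.lt_or_ge (m : ℕ) 2 with h6 | h6
          · rw [hm, show (m : ℕ) = 1 by omega, pow_one]
          · exfalso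
            apply h4
            rw [hm]
            calc 4 = 2 ^ 2 := by norm_num
              _ ≤ 2 ^ (m : ℕ) := Nat.pow_le_pow_right (by norm_num) h6
        exact Or.inl (.of_noLf (H4.Rows2.psl3_two h2 e))
    · exact Or.inr (Or.inl (Or.inl ⟨F, _, _, hF, h4, Or.inr (Or.inl h)⟩))
    · exact Or.inr (Or.inl (Or.inl ⟨F, _, _, hF, h4, Or.inr (Or.inr h)⟩))
    · rcases Nat.lt_or_ge n 2 with h6 | h6
      · obtain rfl : n = 1 := by omega
        obtain ⟨e⟩ := h
        exact Or.inl ((Row.of_lfRow (row_u42 hFT hE (by rw [hF]; norm_num) e)).mono fun L hL => Or.inr (Or.inl hL))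
      · exact Or.inr (Or.inl (Or.inr (Or.inl ⟨F, _, _, n, h6, hF, h⟩)))
    · exact Or.inr (Or.inl (Or.inr (Or.inr (Or.inl ⟨F, _, _, hF, h⟩))))
    · rcases Nat.lt_or_ge n 2 with h6 | h6
      · obtain rfl : n = 1 := by omega
        exact Or.inl (.of_noLf (H.d42 ⟨K, _, _, by rw [hK]; norm_num, h⟩))
      · exact Or.inr (Or.inl (Or.inr (Or.inr (Or.inr (Or.inl ⟨K, _, _, n, h6, hK, h⟩)))))
    · exact Or.inr (Or.inl (Or.inr (Or.inr (Or.inr (Or.inr h)))))
    · exact Or.inl (.of_noLf (H.tits h))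
  · obtain ⟨F, _, _, hF, h | h | h⟩ := h
    · exact Or.inr (Or.inr (Or.inl ⟨F, _, _, hF, h⟩))
    · exact Or.inr (Or.inr (Or.inr (Or.inl ⟨F, _, _, hF, h⟩)))
    · have h' : Sp62 G := ⟨F, _, _, hF, h⟩
      exact Or.inl ((Row.of_lfRow (H.sp62 h')).mono fun L hL => hL.elim Or.inl fun hL => Or.inr (Or.inr hL))
  · rcases h with ⟨⟨e⟩⟩ | ⟨⟨e⟩⟩ | ⟨⟨e⟩⟩ | h
    · exact Or.inl (.of_noLf (H4.Rows1.alt_five e))
    · exact Or.inl (.of_noLf (H4.Rows1.alt_six e))
    · obtain ⟨e'⟩ := S0256.result (F := ZMod 2) (by rw [ZMod.card])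
      exact Or.inr (Or.inr (Or.inl ⟨ZMod 2, inferInstance, inferInstance, by rw [ZMod.card], ⟨e.trans e'.symm⟩⟩))
    · exact Or.inr (Or.inr (Or.inr (Or.inr (Or.inl h))))
  · rcases h with ⟨F, _, _, hF, ⟨e⟩⟩ | ⟨F, _, _, hF, ⟨⟨e⟩⟩ | ⟨⟨e⟩⟩ | ⟨⟨e⟩⟩⟩ | ⟨F, _, _, hF, ⟨⟨e⟩⟩ | h⟩
    · exact Or.inl (.of_noLf (H4.Rows1.psl2_odd F (odd_of_neighbour hF) e))
    · exact Or.inl (.of_noLf (H4.Rows1.psl3_odd F (by rw [hF]; decide) e))
    · exact Or.inl ((Row.of_lfRow (row_l43 hE hF e)).mono fun L hL => Or.inr (Or.inl hL))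
    · exact Or.inl ((Row.of_lfRow (row_g23 hFT hE hF e)).mono fun L hL => Or.inr (Or.inr hL))
    · exact Or.inl (.of_noLf (H4.Rows1.psu3_odd F (q := 3) (by rw [hF]; norm_num) (by decide) e))
    · have h' : U43 G := ⟨F, _, _, hF, h⟩
      exact Or.inl ((Row.of_lfRow (H.u43 h')).mono fun L hL => Or.inl hL)
  · rcases h with h | h | h | h | h | h | h | h | h | h | h
    · exact Or.inl (.of_noLf (H4.Rows1.m11 h))
    · exact Or.inl (.of_noLf (H4.Rows1.m12 h))
    · exact Or.inr (Or.inr (Or.inr (Or.inr (Or.inr (Or.inl h)))))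
    · exact Or.inr (Or.inr (Or.inr (Or.inr (Or.inr (Or.inr (Or.inl h))))))
    · exact Or.inr (Or.inr (Or.inr (Or.inr (Or.inr (Or.inr (Or.inr (Or.inl h)))))))
    · exact Or.inl (.of_noLf (H4.Rows2.j2 hE h))
    · exact Or.inl (.of_noLf (H4.Rows2.j3 hE h))
    · exact Or.inr (Or.inr (Or.inr (Or.inr (Or.inr (Or.inr (Or.inr (Or.inr (Or.inr h))))))))
    · exact Or.inl ((Row.of_lfRow (row_hs hE h)).mono fun L hL => Or.inr (Or.inr hL))
    · exact Or.inr (Or.inr (Or.inr (Or.inr (Or.inr (Or.inr (Or.inr (Or.inr (Or.inl h))))))))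
    · exact Or.inl ((Row.of_lfRow (row_ru hE h)).mono fun L hL => Or.inr (Or.inr hL))

end Cfsg.Agent.H3.Table
end

-- part: H3/QuotC
section
/-!
# `𝒞`-components and `ℒ(G, T)` modulo a normal 2-subgroup (helper3)

* `map_mem_calC` : the image of a `𝒞`-component under an epimorphism with solvable kernel is a `𝒞`-component;
* `perf_comap` : `L = perf (φ⁻¹(φ L))`, so `L` is normalised by everything whose image normalises `φ L`;
* `Down` / `down` : for `L ∈ ℒ(G, T)`, `L, T ≤ M` and `ψ : M → Q` onto with kernel a 2-group: the image.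
-/

set_option autoImplicit false

namespace Cfsg.Agent.H3.QuotC

open Subgroup Cfsg Cfsg.Agent.TwoFusion.PerfCore Cfsg.Agent.QTUniq.CComp

variable {H Q : Type*} [Group H] [Group Q]

theorem solvable_ker_sub (φ : H →* Q) (hker : Group.IsSolvable φ.ker) {L : Subgroup H} (h : L.map φ = ⊥) :
    Group.IsSolvable L := by
  rw [Subgroup.map_eq_bot_iff] at h
  exact Group.isSolvable_of_isSolvable_injective (f := inclusion h) (inclusion_injective h)

/-- **The image of a `𝒞`-component** under an epimorphism with solvable kernel. -/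
theorem map_mem_calC [Finite H] (φ : H →* Q) (hφ : Function.Surjective φ) (hker : Group.IsSolvable φ.ker)
    {L : Subgroup H} (hL : L ∈ calC H) : L.map φ ∈ calC Q := by
  obtain ⟨h1, h2, h3, h4⟩ := hL
  refine ⟨?_, map_perfect h2 φ, h3.map hφ, ?_⟩
  · intro h
    exact h1 (eq_bot_of_perfect_of_solvable h2 (solvable_ker_sub φ hker h))
  · rintro K hK ⟨h5, h6, h7⟩
    set! K1 : Subgroup H := L ⊓ K.comap φ with hK1
    have hmap : K1.map φ = K := by
      apply le_antisymm
      · rintro _ ⟨x, hx, rfl⟩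
        exact hx.2
      · intro y hy
        obtain ⟨x, hx, rfl⟩ := hK.le hy
        exact ⟨x, ⟨hx, hy⟩, rfl⟩
    have hKc : (K.comap φ).IsSubnormal := h7.comap φ
    have hK1L : (K1.subgroupOf L).IsSubnormal := by
      have e : K1.subgroupOf L = (K.comap φ).subgroupOf L := by
        rw [hK1, inf_subgroupOf_left]
      rw [e]
      exact hKc.comap _
    have hK1s : K1.IsSubnormal := hK1L.trans inf_le_left h3
    have hps : (perf K1).IsSubnormal := by
      refine subnormal_trans (perf_le K1) ?_ hK1s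
      have h8 : ((perf K1).subgroupOf K1).Normal := by
        rw [Subgroup.normal_subgroupOf_iff_le_normalizer (perf_le K1)]
        exact le_normalizer.trans (normalizer_le_normalizer_perf K1)
      exact h8.isSubnormal
    have hpm : (perf K1).map φ = K := by
      rw [map_perf, hmap, perf_eq_self h6]
    refine h4 (perf K1) (lt_of_le_of_ne ((perf_le K1).trans inf_le_left) ?_) ⟨?_, perf_perfect K1, hps⟩
    · intro h
      apply hK.ne
      rw [← hpm, h]
    · intro h
      apply h5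
      rw [← hpm, h, Subgroup.map_bot]

/-- a perfect subnormal subgroup `L` is the perfect core of `L · ker φ` -/
theorem perf_comap (φ : H →* Q) (hker : Group.IsSolvable φ.ker) {L : Subgroup H} (hLp : ⁅L, L⁆ = L)
    (hLs : L.IsSubnormal) : perf ((L.map φ).comap φ) = L := by
  set K0 : Subgroup H := (L.map φ).comap φ with hK0
  have hLK : L ≤ K0 := le_comap_map φ L
  refine le_antisymm ?_ (le_perf hLK hLp)
  have hkK : φ.ker ≤ K0 := by
    intro x hx
    rw [hK0, mem_comap, MonoidHom.mem_ker.1 hx]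
    exact one_mem _
  have hsup : L.subgroupOf K0 ⊔ φ.ker.subgroupOf K0 = ⊤ := by
    rw [← subgroupOf_sup hLK hkK, subgroupOf_eq_top]
    intro x hx
    obtain ⟨l, hl, he⟩ := (show φ x ∈ L.map φ from hx)
    have h2 : l⁻¹ * x ∈ φ.ker := by rw [MonoidHom.mem_ker, map_mul, map_inv, he, inv_mul_cancel]
    have h3 : x = l * (l⁻¹ * x) := by group
    rw [h3]
    exact mul_mem_sup hl h2
  have hks : Group.IsSolvable ↥(φ.ker.subgroupOf K0) :=
    Group.isSolvable_of_isSolvable_injective (f := (subgroupOfEquivOfLe hkK).toMonoidHom)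
      (subgroupOfEquivOfLe hkK).injective
  have hpK : perf K0 ≤ K0 := perf_le K0
  have hRp : ⁅(perf K0).subgroupOf K0, (perf K0).subgroupOf K0⁆ = (perf K0).subgroupOf K0 := by
    apply map_injective K0.subtype_injective
    rw [map_commutator, subgroupOf_map_subtype, inf_eq_left.2 hpK]
    exact perf_perfect K0
  have h1 := H1.Tight.le_of_perfect (φ.ker.subgroupOf K0) hks hRp hLs.subgroupOf hsup
  intro x hx
  exact mem_subgroupOf.1 (h1 (show (⟨x, hpK hx⟩ : K0) ∈ _ from mem_subgroupOf.2 hx))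

theorem comap_normalizer_le (φ : H →* Q) (hker : Group.IsSolvable φ.ker) {L : Subgroup H} (hLp : ⁅L, L⁆ = L)
    (hLs : L.IsSubnormal) {x : H} (hx : φ x ∈ normalizer ((L.map φ : Subgroup Q) : Set Q)) :
    x ∈ normalizer (L : Set H) := by
  have h1 : x ∈ normalizer (((L.map φ).comap φ : Subgroup H) : Set H) := by
    rw [mem_normalizer_iff] at hx ⊢
    intro y
    rw [mem_comap, mem_comap, map_mul, map_mul, map_inv]
    exact hx (φ y)
  have h2 := normalizer_le_normalizer_perf _ h1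
  rwa [perf_comap φ hker hLp hLs] at h2

/-- `L / O_2(L) ≃ φ(L) / O_2(φ(L))`, the kernel of `φ` being a 2-group -/
theorem nonempty_quot (p : ℕ) [Fact p.Prime] [Finite H] (φ : H →* Q) (hker : IsPGroup p φ.ker) (L : Subgroup H) :
    Nonempty ((L ⧸ pCore p L) ≃* (↥(L.map φ) ⧸ pCore p ↥(L.map φ))) := by
  let f : L →* ↥(L.map φ) := φ.subgroupMap L
  have hf : Function.Surjective f := φ.subgroupMap_surjective L
  have hfin : Finite ↥(L.map φ) := Finite.of_surjective f hf
  let g : L →* (↥(L.map φ) ⧸ pCore p ↥(L.map φ)) := (QuotientGroup.mk' _).comp f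
  have hg : Function.Surjective g := (QuotientGroup.mk'_surjective _).comp hf
  have hfk : IsPGroup p f.ker := by
    let g : ↥f.ker →* ↥φ.ker := (L.subtype.comp f.ker.subtype).codRestrict φ.ker (fun x => by
      have := congrArg Subtype.val (MonoidHom.mem_ker.1 x.2)
      exact MonoidHom.mem_ker.2 this)
    refine hker.of_injective g ?_
    intro x y hxy
    have := congrArg Subtype.val hxy
    exact Subtype.ext (Subtype.ext this)
  have hk : g.ker = pCore p L := by
    apply le_antisymm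
    · refine Cfsg.Agent.Lib.Cores.le_pCore inferInstance ?_
      have e : g.ker = (pCore p ↥(L.map φ)).comap f := by
        ext x
        rw [MonoidHom.mem_ker, mem_comap]
        exact QuotientGroup.eq_one_iff (f x)
      rw [e]
      exact (Cfsg.Agent.Lib.Cores.pCore_isPGroup p).comap_of_ker_isPGroup f hfk
    · intro x hx
      rw [MonoidHom.mem_ker]
      refine (QuotientGroup.eq_one_iff (f x)).2 ?_
      have h1 : (pCore p L).map f ≤ pCore p ↥(L.map φ) :=
        Cfsg.Agent.Lib.Cores.le_pCore ((Cfsg.Agent.Lib.Cores.pCore_normal p).map _ hf)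
          ((Cfsg.Agent.Lib.Cores.pCore_isPGroup p).map _)
      exact h1 ⟨x, hx, rfl⟩
  exact ⟨(QuotientGroup.quotientMulEquivOfEq hk.symm).trans (QuotientGroup.quotientKerEquivOfSurjective g hg)⟩

section calL

variable {G : Type*} [Group G] [Finite G]

/-- **The image of a member of `ℒ(G, T)`** in a quotient of an overgroup by a normal 2-subgroup. -/
structure Down (T L M : Subgroup G) (ψ : M →* Q) (S L' : Subgroup Q) : Prop where
  comp : L'.subgroupOf (L' ⊔ S) ∈ calC ↥(L' ⊔ S)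
  syl : ∃ P : Sylow 2 ↥(L' ⊔ S), (P : Subgroup ↥(L' ⊔ S)) = S.subgroupOf (L' ⊔ S)
  quot : Nonempty ((L ⧸ pCore 2 L) ≃* (L' ⧸ pCore 2 L'))
  norm : S ≤ normalizer (L' : Set Q) → T ≤ normalizer (L : Set G)

theorem down {T : Subgroup G} {L M : Subgroup G} (hL : L ∈ calL T) (hTM : T ≤ M)
    (hLM : L ≤ M) (ψ : M →* Q) (hker : IsPGroup 2 ψ.ker) :
    Down T L M ψ ((T.subgroupOf M).map ψ) ((L.subgroupOf M).map ψ) := by
  have h2 : Fact (Nat.Prime 2) := ⟨Nat.prime_two⟩
  have hHM : L ⊔ T ≤ M := sup_le hLM hTM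
  set H : Subgroup G := L ⊔ T with hH
  set S : Subgroup Q := (T.subgroupOf M).map ψ with hS
  set L' : Subgroup Q := (L.subgroupOf M).map ψ with hL'
  have hH' : L' ⊔ S = (H.subgroupOf M).map ψ := by
    rw [hL', hS, ← Subgroup.map_sup, ← subgroupOf_sup hLM hTM]
  obtain ⟨φ, hφ, hφv⟩ : ∃ φ : ↥H →* ↥(L' ⊔ S), Function.Surjective φ ∧
      ∀ x : ↥H, ((φ x : ↥(L' ⊔ S)) : Q) = ψ ⟨x, hHM x.2⟩ := by
    refine ⟨(ψ.comp (inclusion hHM)).codRestrict _ (fun x => ?_), ?_, fun x => rfl⟩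
    · rw [hH']
      exact ⟨⟨x, hHM x.2⟩, mem_subgroupOf.2 x.2, rfl⟩
    · rintro ⟨y, hy⟩
      have hy' := hy
      rw [hH'] at hy'
      obtain ⟨x, hx, hxy⟩ := hy'
      exact ⟨⟨x, mem_subgroupOf.1 hx⟩, Subtype.ext hxy⟩
  have hkφ : IsPGroup 2 φ.ker := by
    let g : ↥φ.ker →* ↥ψ.ker := ((inclusion hHM).comp φ.ker.subtype).codRestrict ψ.ker (fun x => by
      have := congrArg Subtype.val (MonoidHom.mem_ker.1 x.2)
      rw [hφv] at this
      exact MonoidHom.mem_ker.2 this)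
    refine hker.of_injective g ?_
    intro x y hxy
    have := congrArg Subtype.val hxy
    exact Subtype.ext (inclusion_injective hHM this)
  have hsol : Group.IsSolvable φ.ker := by
    have := hkφ.isNilpotent
    infer_instance
  have hmapL : ∀ A : Subgroup G, A ≤ H → (A.subgroupOf H).map φ = ((A.subgroupOf M).map ψ).subgroupOf (L' ⊔ S) := by
    intro A hA
    ext ⟨y, hy⟩
    constructor
    · rintro ⟨x, hx, hxy⟩
      refine mem_subgroupOf.2 ⟨⟨x, hHM x.2⟩, mem_subgroupOf.2 (mem_subgroupOf.1 hx), ?_⟩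
      have := congrArg Subtype.val hxy
      rw [hφv] at this
      exact this
    · intro h
      obtain ⟨x, hx, hxy⟩ := mem_subgroupOf.1 h
      have hx' := mem_subgroupOf.1 hx
      refine ⟨⟨x, hA hx'⟩, mem_subgroupOf.2 hx', Subtype.ext ?_⟩
      rw [hφv]
      exact hxy
  obtain ⟨hc, ⟨P, hP⟩, -⟩ := hL
  have hLs := hc.2.2.1
  have hLp := hc.2.1
  refine ⟨?_, ?_, ?_, ?_⟩
  · rw [← hmapL L le_sup_left]
    exact map_mem_calC φ hφ hsol hc
  · refine ⟨P.mapSurjective hφ, ?_⟩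
    rw [Sylow.coe_mapSurjective, hP]
    exact hmapL T le_sup_right
  · obtain ⟨e1⟩ := H1.Tight.quot_subgroupOf_equiv 2 (le_sup_left : L ≤ L ⊔ T)
    obtain ⟨e2⟩ := nonempty_quot 2 φ hkφ (L.subgroupOf H)
    have hfin : Finite ↥(L' ⊔ S) := Finite.of_surjective φ hφ
    obtain ⟨e3⟩ := H1.Tight.quot_subgroupOf_equiv 2 (le_sup_left : L' ≤ L' ⊔ S)
    have e4 : (↥((L.subgroupOf H).map φ) ⧸ pCore 2 ↥((L.subgroupOf H).map φ)) ≃*
        (↥(L'.subgroupOf (L' ⊔ S)) ⧸ pCore 2 ↥(L'.subgroupOf (L' ⊔ S))) := by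
      rw [hmapL L le_sup_left]
    exact ⟨((e1.trans e2).trans e4).trans e3.symm⟩
  · intro hn t ht
    have h3 : (⟨t, (le_sup_right : T ≤ L ⊔ T) ht⟩ : ↥H) ∈ normalizer ((L.subgroupOf H : Subgroup H) : Set H) := by
      refine comap_normalizer_le φ hsol hLp hLs ?_
      rw [hmapL L le_sup_left]
      have h4 : ((φ ⟨t, (le_sup_right : T ≤ L ⊔ T) ht⟩ : ↥(L' ⊔ S)) : Q) ∈ normalizer (L' : Set Q) := by
        apply hn
        rw [hφv]
        exact ⟨⟨t, hTM ht⟩, mem_subgroupOf.2 ht, rfl⟩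
      rw [mem_normalizer_iff] at h4 ⊢
      intro y
      rw [mem_subgroupOf, mem_subgroupOf]
      exact h4 y
    rw [mem_normalizer_iff] at h3 ⊢
    intro y
    constructor
    · intro hy
      exact (h3 ⟨y, (le_sup_left : L ≤ L ⊔ T) hy⟩).1 hy
    · intro hy
      have hyH : y ∈ H := by
        have h5 : t * y * t⁻¹ ∈ H := (le_sup_left : L ≤ L ⊔ T) hy
        have h6 : t ∈ H := (le_sup_right : T ≤ L ⊔ T) ht
        have e : y = t⁻¹ * (t * y * t⁻¹) * t := by group
        rw [e]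
        exact mul_mem (mul_mem (inv_mem h6) h5) h6
      exact (h3 ⟨y, hyH⟩).2 hy

end calL

end Cfsg.Agent.H3.QuotC
end

-- part: H3/RgdTop
section
/-!
# Overgroups of `U` in a group with a root group datum: proper ones have a normal `p`-subgroup (helper3)
-/

set_option autoImplicit false
set_option linter.unusedSectionVars false

namespace Cfsg.Agent.H3.RgdTop

open CoxeterSystem Cfsg.Agent.ChevalleyStructure.CoxeterGeom Cfsg.Agent.Tits.Roots Cfsg.Agent.Tits.Core
  Cfsg.Agent.Tits.RootComb Cfsg.Agent.Tits.Exchange Cfsg.Agent.Nodes.Reps Cfsg.Agent.Nodes.BNOf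
  Cfsg.Agent.Nodes.StabComb Cfsg.Agent.Nodes.Bruhat Cfsg.Agent.Nodes.OppDec Cfsg.Agent.Nodes.LeviDec
  Cfsg.Agent.H1.Over
open Cfsg

variable {I W Y : Type*} [Fintype I] [DecidableEq I] [Group W] [Group Y] {M : CoxeterMatrix I}
  {cs : CoxeterSystem M W} {A : I → I → ℤ} {h : IsCartan M A} {p : ℕ} {T : Subgroup Y} {n : I → Y}
  {X : (I → ℤ) → Subgroup Y}

theorem core_ne_bot [Finite W] [Finite Y] [Fact p.Prime] (R : RGD cs h p T n X) (hG : Nodes.RGDLib.G1 cs h X = ⊤)
    {H : Subgroup Y} (hU : RGD.Sup X (RGD.Pos cs h) ≤ H) (hne : H ≠ ⊤) : pCore p H ≠ ⊥ := by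
  have hGG : GG cs h T X = ⊤ := KFacts.RgdFilt.GG_eq_top hG
  have hle := le_PJ R hU (hGG ▸ le_top : H ≤ GG cs h T X)
  set J := JH X H with hJ
  have hJn : J ≠ Set.univ := by
    intro h1
    apply hne
    rw [eq_top_iff, ← hG]
    have h2 := rootsJ_le R hU
    rw [← hJ, h1] at h2
    refine le_trans (RGD.Sup_mono fun x hx => ?_) h2
    exact ⟨hx, fun i hi => absurd (Set.mem_univ i) hi⟩
  obtain ⟨i, hi⟩ := (Set.ne_univ_iff_exists_notMem J).1 hJn
  have h1 : X (sr i) ≤ VJ cs h X J := RGD.le_Sup (S := NotJ cs h J) ⟨isRoot_sr cs h i, sr_nonneg i, i, hi, by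
    rw [sr_self]; decide⟩
  have hVH : VJ cs h X J ≤ H := (VJ_le_U J).trans hU
  have hVn : ((VJ cs h X J).subgroupOf H).Normal :=
    Subgroup.normal_subgroupOf_iff_le_normalizer hVH |>.2 (hle.trans (PJ_le_normalizer_VJ R J))
  have hVp : IsPGroup p ↥((VJ cs h X J).subgroupOf H) := (H1.RgdRow.VJ_isPGroup R J).comap_subtype
  have h2 := Lib.Cores.le_pCore hVn hVp
  intro h3
  rw [h3, le_bot_iff, Subgroup.subgroupOf_eq_bot] at h2
  obtain ⟨u, hu, hu1⟩ := exists_ne_one R i
  exact hu1 (Subgroup.mem_bot.1 (h2.le_bot ⟨h1 hu, hVH (h1 hu)⟩))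

theorem eq_bot_of_subnormal {Y : Type*} [Group Y] [hs : IsSimpleGroup Y] {L : Subgroup Y} (h : L.IsSubnormal)
    (hne : L ≠ ⊤) : L = ⊥ := by
  induction h with
  | top => exact absurd rfl hne
  | step L K hLK hK hN ih =>
    by_cases hKt : K = ⊤
    · subst hKt
      have h1 : L.Normal := by
        rw [← Subgroup.normalizer_eq_top_iff, eq_top_iff]
        exact (Subgroup.normal_subgroupOf_iff_le_normalizer hLK).1 hN
      rcases h1.eq_bot_or_eq_top with h2 | h2
      · exact h2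
      · exact absurd h2 hne
    · rw [ih hKt] at hLK
      exact le_bot_iff.1 hLK

theorem pCore_map {G K : Type*} [Group G] [Group K] (e : G ≃* K) (p : ℕ) (H : Subgroup G) (h : pCore p H = ⊥) :
    pCore p ↥(H.map e.toMonoidHom) = ⊥ := by
  rw [← Lib.Cores.map_equiv_pCore (H4.LfTrans.sm e H) p, h, Subgroup.map_bot]

theorem eq_top_of_map {G K : Type*} [Group G] [Group K] (e : G ≃* K) {H : Subgroup G}
    (h : H.map e.toMonoidHom = ⊤) : H = ⊤ := by
  rw [eq_top_iff]
  intro x _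
  have h1 : e x ∈ H.map e.toMonoidHom := by rw [h]; exact Subgroup.mem_top _
  obtain ⟨y, hy, hyx⟩ := h1
  rwa [← e.injective hyx]

/-- **Proper overgroups of a Sylow `p`-subgroup.** -/
theorem core_ne_bot_of_sylow [Finite W] [Finite Y] [Fact p.Prime] (R : RGD cs h p T n X)
    (hG : Nodes.RGDLib.G1 cs h X = ⊤) (P : Sylow p Y) {H : Subgroup Y} (hP : (P : Subgroup Y) ≤ H) (hne : H ≠ ⊤) :
    pCore p H ≠ ⊥ := by
  obtain ⟨S, hS⟩ := H1.RgdRow.exists_sylow R (KFacts.RgdFilt.GG_eq_top hG)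
  obtain ⟨g, hg'⟩ := MulAction.exists_smul_eq Y P S
  have hg : (S : Subgroup Y) = (P : Subgroup Y).map (MulAut.conj g).toMonoidHom := by
    rw [← hg', Sylow.coe_subgroup_smul]
    rfl
  have h1 : pCore p ↥(H.map (MulAut.conj g).toMonoidHom) ≠ ⊥ := by
    refine core_ne_bot R hG ?_ ?_
    · rw [← hS, hg]
      exact Subgroup.map_mono hP
    · intro h2
      exact hne (eq_top_of_map _ h2)
  intro h2
  exact h1 (pCore_map _ p H h2)

/-- the `𝒞`-components of overgroups of a Sylow 2-subgroup of `L₄(2)` -/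
theorem four {Y : Type*} [Group Y] [Finite Y] {F : Type*} [Field F] [Fintype F] (h2 : Fintype.card F = 2)
    (e : Y ≃* Matrix.ProjectiveSpecialLinearGroup (Fin 4) F) (S : Sylow 2 Y) {L : Subgroup Y}
    (hL : L.subgroupOf (L ⊔ (S : Subgroup Y)) ∈ calC ↥(L ⊔ (S : Subgroup Y)))
    (hS : ∃ P : Sylow 2 ↥(L ⊔ (S : Subgroup Y)), (P : Subgroup ↥(L ⊔ (S : Subgroup Y))) =
      (S : Subgroup Y).subgroupOf (L ⊔ (S : Subgroup Y))) :
    (S : Subgroup Y) ≤ Subgroup.normalizer (L : Set Y) ∧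
      (L = ⊤ ∨ Nonempty ((L ⧸ pCore 2 L) ≃* Matrix.ProjectiveSpecialLinearGroup (Fin 3) F)) := by
  have h2p : Fact (Nat.Prime 2) := ⟨Nat.prime_two⟩
  have hchar : CharP F 2 := by
    have h3 : Nat.card F = 2 := by rw [Nat.card_eq_fintype_card, h2]
    obtain ⟨p, hp⟩ := CharP.exists F
    obtain ⟨n, hpp, hn⟩ := FiniteField.card F p
    rw [h2] at hn
    have h4 : p ∣ 2 := by rw [hn]; exact dvd_pow_self p n.ne_zero
    have h5 : p = 2 := (Nat.prime_dvd_prime_iff_eq hpp Nat.prime_two).1 h4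
    exact h5 ▸ hp
  by_cases hO : pCore 2 ↥(L ⊔ (S : Subgroup Y)) = ⊥
  · have htop : L ⊔ (S : Subgroup Y) = ⊤ := by
      by_contra hne
      obtain ⟨Φ, hfin, R, -⟩ := H1.RowPSL.exists_filt (F := F) 3
      have : Finite (Matrix.ProjectiveSpecialLinearGroup (Fin (3 + 1)) F) := Quotient.finite _
      have h3 := core_ne_bot_of_sylow R (Nodes.RGDTypeA.G1_psl_eq_top _ _) (H4.LfTrans.mapSylow e S)
        (H := (L ⊔ (S : Subgroup Y)).map e.toMonoidHom) (by
          rw [H4.LfTrans.coe_mapSylow]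
          exact Subgroup.map_mono le_sup_right) (by
          intro h4
          exact hne (eq_top_of_map _ h4))
      exact h3 (pCore_map _ 2 _ hO)
    have hsY : IsSimpleGroup Y := by
      have := H1.RowPSLFive.simple_psl (F := F) 1
      exact (MulEquiv.isSimpleGroup_congr e).2 this
    have hLt : L = ⊤ := by
      obtain ⟨h3, -, h4, -⟩ := hL
      have h5 : L.IsSubnormal := by
        have h6 := h4.map (f := (L ⊔ (S : Subgroup Y)).subtype) (by
          intro y
          exact ⟨⟨y, by rw [htop]; exact Subgroup.mem_top y⟩, rfl⟩)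
        rwa [Subgroup.subgroupOf_map_subtype, inf_eq_left.2 le_sup_left] at h6
      have h6 : L ≠ ⊥ := by
        rintro rfl
        exact h3 (Subgroup.bot_subgroupOf _)
      rcases eq_or_ne L ⊤ with h7 | h7
      · exact h7
      · exact absurd (Cfsg.Agent.H3.RgdTop.eq_bot_of_subnormal h5 h7) h6
    refine ⟨?_, Or.inl hLt⟩
    rw [hLt, Subgroup.normalizer_eq_top]
    exact le_top
  · obtain ⟨h3, _, h4⟩ := H1.RowPSLFive.row_psl_four h2 e S L ⟨hL, hS, hO⟩
    exact ⟨h3, Or.inr h4⟩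

end Cfsg.Agent.H3.RgdTop
end

-- part: H3/OddTame
section
/-!
# Tame normal subgroups and subgroups of odd index (helper3)

`Sit π A N` : `π : Q → P` is onto with solvable kernel, `A` is a normal simple nonsolvable subgroup of `P` with `P/A`
solvable all of whose subgroups of odd index are solvable or `A`; `N` is a perfect normal subgroup of `Q`, `π(N) = A` and
`N ∩ ker π` centralises `N`.  Then `N` is quasisimple, `Q/N` is solvable, and a subgroup of odd index of `Q` is solvable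
or contains `N`.
-/

set_option autoImplicit false

namespace Cfsg.Agent.H3.OddTame

open Subgroup Cfsg Cfsg.Agent.TwoFusion.PerfCore
open scoped commutatorElement

/-- the subgroups of odd index are solvable or everything -/
def OddSolv (A : Type*) [Group A] : Prop := ∀ X : Subgroup A, Odd X.index → Group.IsSolvable X ∨ X = ⊤

theorem OddSolv.congr {A B : Type*} [Group A] [Group B] (e : A ≃* B) (h : OddSolv A) : OddSolv B := by
  intro X hX
  have h1 : (X.comap e.toMonoidHom).index = X.index := index_comap_of_surjective X e.surjective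
  rcases h (X.comap e.toMonoidHom) (h1 ▸ hX) with h2 | h2
  · left
    have h3 : (X.comap e.toMonoidHom).map e.toMonoidHom = X := map_comap_eq_self_of_surjective e.surjective X
    have h4 : Group.IsSolvable ((X.comap e.toMonoidHom).map e.toMonoidHom) :=
      Group.isSolvable_of_surjective (f := e.toMonoidHom.subgroupMap (X.comap e.toMonoidHom))
        (e.toMonoidHom.subgroupMap_surjective _)
    rwa [h3] at h4
  · right
    have h3 : (X.comap e.toMonoidHom).map e.toMonoidHom = X := map_comap_eq_self_of_surjective e.surjective X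
    rw [h2, Subgroup.map_top_of_surjective _ e.surjective] at h3
    exact h3.symm

/-- `|A : A ∩ X|` divides `|P : X|` for `A` normal -/
theorem relIndex_dvd_of_normal {P : Type*} [Group P] [Finite P] (X A : Subgroup P) [A.Normal] :
    X.relIndex A ∣ X.index := by
  have h1 : (A ⊓ X).relIndex A * A.relIndex (A ⊔ X) = (A ⊓ X).relIndex (A ⊔ X) :=
    relIndex_mul_relIndex _ _ _ inf_le_left le_sup_left
  have h2 : (A ⊓ X).relIndex X * X.relIndex (A ⊔ X) = (A ⊓ X).relIndex (A ⊔ X) :=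
    relIndex_mul_relIndex _ _ _ inf_le_right le_sup_right
  rw [inf_relIndex_left] at h1
  rw [inf_relIndex_right] at h2
  have h3 : A.relIndex (A ⊔ X) = A.relIndex X := by rw [relIndex_sup_left]
  have h4 : A.relIndex X ≠ 0 := by
    rw [relIndex]
    exact index_ne_zero_of_finite
  have h5 : X.relIndex A = X.relIndex (A ⊔ X) := by
    rw [h3] at h1
    have h6 : A.relIndex X * X.relIndex A = A.relIndex X * X.relIndex (A ⊔ X) := by
      rw [h2, ← h1, mul_comm]
    exact Nat.eq_of_mul_eq_mul_left (Nat.pos_of_ne_zero h4) h6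
  rw [h5, ← relIndex_mul_index (le_sup_right : X ≤ A ⊔ X)]
  exact dvd_mul_right _ _

structure Sit {Q P : Type*} [Group Q] [Group P] (π : Q →* P) (A : Subgroup P) (N : Subgroup Q) [A.Normal]
    [N.Normal] : Prop where
  surj : Function.Surjective π
  ker : Group.IsSolvable π.ker
  simple : IsSimpleGroup A
  ns : ¬ Group.IsSolvable A
  quot : Group.IsSolvable (P ⧸ A)
  odd : OddSolv A
  perf : ⁅N, N⁆ = N
  map : N.map π = A
  cent : N ⊓ π.ker ≤ centralizer (N : Set Q)

namespace Sit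

variable {Q P : Type*} [Group Q] [Group P] [Finite Q] {π : Q →* P} {A : Subgroup P} {N : Subgroup Q}
  [A.Normal] [N.Normal]

omit [Finite Q] in
theorem solvable_quot (S : Sit π A N) : Group.IsSolvable (Q ⧸ N) := by
  have := S.quot
  have := S.ker
  have hNK : N ⊔ π.ker = A.comap π := by
    rw [← S.map, comap_map_eq]
  have h0 : N ≤ A.comap π := by rw [← hNK]; exact le_sup_left
  let f : (Q ⧸ N) →* (P ⧸ A) := QuotientGroup.map N A π h0
  let g : ↥π.ker →* (Q ⧸ N) := (QuotientGroup.mk' N).comp π.ker.subtype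
  refine Group.isSolvable_of_ker_le_range g f ?_
  intro x hx
  obtain ⟨q, rfl⟩ := QuotientGroup.mk_surjective x
  rw [MonoidHom.mem_ker, QuotientGroup.map_mk, QuotientGroup.eq_one_iff] at hx
  have h1 : q ∈ N ⊔ π.ker := by rw [hNK]; exact hx
  obtain ⟨n, hn, k, hk, rfl⟩ := mem_sup_of_normal_right.1 h1
  refine ⟨⟨k, hk⟩, ?_⟩
  change (QuotientGroup.mk k : Q ⧸ N) = QuotientGroup.mk (n * k)
  rw [QuotientGroup.mk_mul, (QuotientGroup.eq_one_iff n).2 hn, one_mul]

omit [Finite Q] in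
theorem quasisimple (S : Sit π A N) : IsQuasisimple N := by
  have hs := S.simple
  let f : ↥N →* ↥A := (π.comp N.subtype).codRestrict A (fun x => by rw [← S.map]; exact ⟨x, x.2, rfl⟩)
  have hf : Function.Surjective f := by
    rintro ⟨y, hy⟩
    rw [← S.map] at hy
    obtain ⟨x, hx, rfl⟩ := hy
    exact ⟨⟨x, hx⟩, rfl⟩
  have hker : f.ker ≤ center N := by
    intro x hx
    have h1 : π x = 1 := congrArg Subtype.val (MonoidHom.mem_ker.1 hx)
    have h2 := S.cent ⟨x.2, MonoidHom.mem_ker.2 h1⟩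
    rw [mem_center_iff]
    intro y
    exact Subtype.ext (mem_centralizer_iff.1 h2 y y.2)
  have hperf : Group.IsPerfect N := by
    rw [Group.isPerfect_def, commutator_def]
    apply map_injective N.subtype_injective
    rw [map_commutator, ← MonoidHom.range_eq_map, range_subtype]
    exact S.perf
  refine ⟨hperf, ?_⟩
  -- the centre is the kernel
  have hc : center N = f.ker := by
    apply le_antisymm _ hker
    have h1 : ((center N).map f).Normal := (inferInstance : (center N).Normal).map f hf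
    rcases h1.eq_bot_or_eq_top with h2 | h2
    · exact (Subgroup.map_eq_bot_iff _).1 h2
    · exfalso
      apply S.ns
      refine Group.isSolvable_of_comm fun a b => ?_
      have ha : a ∈ (center N).map f := by rw [h2]; exact mem_top a
      obtain ⟨x, hx, rfl⟩ := ha
      obtain ⟨y, rfl⟩ := hf b
      rw [← map_mul, ← map_mul, (mem_center_iff.1 hx y)]
  have e : (N ⧸ center N) ≃* A :=
    (QuotientGroup.quotientMulEquivOfEq hc).trans (QuotientGroup.quotientKerEquivOfSurjective f hf)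
  exact (MulEquiv.isSimpleGroup_congr e).2 hs

omit [Finite Q] in
/-- `N / Z(N) ≃ A` -/
theorem nonempty_quot (S : Sit π A N) : Nonempty ((N ⧸ center N) ≃* A) := by
  have hs := S.simple
  let f : ↥N →* ↥A := (π.comp N.subtype).codRestrict A (fun x => by rw [← S.map]; exact ⟨x, x.2, rfl⟩)
  have hf : Function.Surjective f := by
    rintro ⟨y, hy⟩
    rw [← S.map] at hy
    obtain ⟨x, hx, rfl⟩ := hy
    exact ⟨⟨x, hx⟩, rfl⟩
  have hker : f.ker ≤ center N := by
    intro x hx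
    have h1 : π x = 1 := congrArg Subtype.val (MonoidHom.mem_ker.1 hx)
    have h2 := S.cent ⟨x.2, MonoidHom.mem_ker.2 h1⟩
    rw [mem_center_iff]
    intro y
    exact Subtype.ext (mem_centralizer_iff.1 h2 y y.2)
  have hc : center N = f.ker := by
    apply le_antisymm _ hker
    have h1 : ((center N).map f).Normal := (inferInstance : (center N).Normal).map f hf
    rcases h1.eq_bot_or_eq_top with h2 | h2
    · exact (Subgroup.map_eq_bot_iff _).1 h2
    · exfalso
      apply S.ns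
      refine Group.isSolvable_of_comm fun a b => ?_
      have ha : a ∈ (center N).map f := by rw [h2]; exact mem_top a
      obtain ⟨x, hx, rfl⟩ := ha
      obtain ⟨y, rfl⟩ := hf b
      rw [← map_mul, ← map_mul, (mem_center_iff.1 hx y)]
  exact ⟨(QuotientGroup.quotientMulEquivOfEq hc).trans (QuotientGroup.quotientKerEquivOfSurjective f hf)⟩

omit [Finite Q] in
theorem card_center_dvd (S : Sit π A N) : Nat.card (center N) ∣ Nat.card π.ker := by
  have hs := S.simple
  let f : ↥N →* ↥A := (π.comp N.subtype).codRestrict A (fun x => by rw [← S.map]; exact ⟨x, x.2, rfl⟩)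
  have hf : Function.Surjective f := by
    rintro ⟨y, hy⟩
    rw [← S.map] at hy
    obtain ⟨x, hx, rfl⟩ := hy
    exact ⟨⟨x, hx⟩, rfl⟩
  have hc : center N ≤ f.ker := by
    have h1 : ((center N).map f).Normal := (inferInstance : (center N).Normal).map f hf
    rcases h1.eq_bot_or_eq_top with h2 | h2
    · exact (Subgroup.map_eq_bot_iff _).1 h2
    · exfalso
      apply S.ns
      refine Group.isSolvable_of_comm fun a b => ?_
      have ha : a ∈ (center N).map f := by rw [h2]; exact mem_top a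
      obtain ⟨x, hx, rfl⟩ := ha
      obtain ⟨y, rfl⟩ := hf b
      rw [← map_mul, ← map_mul, (mem_center_iff.1 hx y)]
  let g : ↥(center N) →* ↥π.ker :=
    { toFun := fun x => ⟨x.1.1, by
        have := congrArg Subtype.val (MonoidHom.mem_ker.1 (hc x.2))
        exact MonoidHom.mem_ker.2 this⟩
      map_one' := rfl
      map_mul' := fun _ _ => rfl }
  refine card_dvd_of_injective g ?_
  intro x y hxy
  have := congrArg (fun z : ↥π.ker => (z : Q)) hxy
  exact Subtype.ext (Subtype.ext this)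

omit [Finite Q] in
theorem tame (S : Sit π A N) : H1.Tight.Tame N :=
  H1.Tight.Tame.of_quasisimple S.quasisimple S.solvable_quot

/-- **Subgroups of odd index.** -/
theorem odd_index (S : Sit π A N) (Q0 : Subgroup Q) (h : Odd Q0.index) : Group.IsSolvable Q0 ∨ N ≤ Q0 := by
  have := S.solvable_quot
  have hP : Finite P := Finite.of_surjective π S.surj
  set! X : Subgroup P := Q0.map π with hX
  have h1 : Odd X.index := Odd.of_dvd_nat h (index_map_dvd Q0 S.surj)
  have h2 : Odd (X.subgroupOf A).index := by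
    have h3 : (X.subgroupOf A).index ∣ X.index := by
      change X.relIndex A ∣ X.index
      exact relIndex_dvd_of_normal X A
    exact Odd.of_dvd_nat h1 h3
  rcases S.odd _ h2 with h3 | h3
  · left
    -- `X` is solvable
    have h4 : Group.IsSolvable X := by
      have := S.quot
      have h5 : Group.IsSolvable ↥(A.subgroupOf X) := by
        let e : ↥(A.subgroupOf X) →* ↥(X.subgroupOf A) :=
          { toFun := fun x => ⟨⟨x.1.1, mem_subgroupOf.1 x.2⟩, mem_subgroupOf.2 x.1.2⟩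
            map_one' := rfl
            map_mul' := fun _ _ => rfl }
        refine Group.isSolvable_of_isSolvable_injective (f := e) ?_
        intro x y hxy
        have := congrArg (fun z : ↥(X.subgroupOf A) => ((z : ↥A) : P)) hxy
        exact Subtype.ext (Subtype.ext this)
      refine Group.isSolvable_of_ker_le_range (A.subgroupOf X).subtype ((QuotientGroup.mk' A).comp X.subtype) ?_
      intro x hx
      rw [MonoidHom.mem_ker] at hx
      have h6 : (x : P) ∈ A := (QuotientGroup.eq_one_iff (x : P)).1 hx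
      exact ⟨⟨x, mem_subgroupOf.2 h6⟩, rfl⟩
    have := S.ker
    let f : ↥Q0 →* ↥X := π.subgroupMap Q0
    have h5 : Group.IsSolvable ↥f.ker := by
      let e : ↥f.ker →* ↥π.ker :=
        { toFun := fun x => ⟨x.1.1, by
            have := congrArg Subtype.val (MonoidHom.mem_ker.1 x.2)
            exact MonoidHom.mem_ker.2 this⟩
          map_one' := rfl
          map_mul' := fun _ _ => rfl }
      refine Group.isSolvable_of_isSolvable_injective (f := e) ?_
      intro x y hxy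
      have := congrArg (fun z : ↥π.ker => (z : Q)) hxy
      exact Subtype.ext (Subtype.ext this)
    exact Group.isSolvable_of_ker_le_range f.ker.subtype f (by rw [range_subtype])
  · right
    have hAX : A ≤ X := subgroupOf_eq_top.1 h3
    have hAp : ⁅A, A⁆ = A := by rw [← S.map, ← map_commutator, S.perf]
    set! R := TwoFusion.PerfCore.perf Q0 with hR
    have hRp : ⁅R, R⁆ = R := perf_perfect Q0
    have hRN : R ≤ N := H1.Tight.le_of_perfect_of_quot N hRp
    have hmap : A ≤ R.map π := by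
      rw [hR, map_perf]
      exact le_perf hAX hAp
    have hsup : N ≤ R ⊔ (N ⊓ π.ker) := by
      intro n hn
      have h4 : π n ∈ R.map π := hmap (by rw [← S.map]; exact ⟨n, hn, rfl⟩)
      obtain ⟨r, hr, he⟩ := h4
      have e : n = r * (r⁻¹ * n) := by group
      rw [e]
      have h5 : r⁻¹ * n ∈ π.ker := by
        rw [MonoidHom.mem_ker, map_mul, map_inv, he, inv_mul_cancel]
      exact mul_mem_sup hr (mem_inf.2 ⟨mul_mem (inv_mem (hRN hr)) hn, h5⟩)
    have hcomm : N ≤ R := by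
      rw [← S.perf, commutator_le]
      intro a ha b hb
      have hcent : ∀ z ∈ N ⊓ π.ker, ∀ n ∈ N, z * n = n * z := fun z hz n hn =>
        (mem_centralizer_iff.1 (S.cent hz) n hn).symm
      have hmem : ∀ n ∈ N, ∃ r ∈ R, ∃ z ∈ N ⊓ π.ker, n = r * z := by
        intro n hn
        have h4 : n ∈ R ⊔ (N ⊓ π.ker) := hsup hn
        have h5 : R ≤ normalizer ((N ⊓ π.ker : Subgroup Q) : Set Q) := by
          rw [Subgroup.normalizer_eq_top]; exact le_top
        have h6 : n ∈ ((R ⊔ (N ⊓ π.ker) : Subgroup Q) : Set Q) := h4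
        rw [Subgroup.coe_mul_of_left_le_normalizer_right _ _ h5, Set.mem_mul] at h6
        obtain ⟨r, hr, z, hz, he⟩ := h6
        exact ⟨r, hr, z, hz, he.symm⟩
      obtain ⟨r, hr, z, hz, rfl⟩ := hmem a ha
      obtain ⟨s, hs, w, hw, rfl⟩ := hmem b hb
      have e : ⁅r * z, s * w⁆ = ⁅r, s⁆ := by
        rw [commutatorElement_def, commutatorElement_def]
        have c1 := hcent z hz s (hRN hs)
        have c2 := hcent w hw r (hRN hr)
        have c3 := hcent z hz w hw.1
        have c4 := hcent w hw s (hRN hs)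
        have c5 := hcent z hz r (hRN hr)
        calc r * z * (s * w) * (r * z)⁻¹ * (s * w)⁻¹
            = r * (z * s) * w * z⁻¹ * r⁻¹ * w⁻¹ * s⁻¹ := by group
          _ = r * s * (z * w) * z⁻¹ * r⁻¹ * w⁻¹ * s⁻¹ := by rw [c1]; group
          _ = r * s * w * r⁻¹ * w⁻¹ * s⁻¹ := by rw [c3]; group
          _ = r * s * (r⁻¹ * (r * w) * r⁻¹) * w⁻¹ * s⁻¹ := by group
          _ = r * s * (r⁻¹ * (w * r) * r⁻¹) * w⁻¹ * s⁻¹ := by rw [c2]
          _ = r * s * r⁻¹ * s⁻¹ := by group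
      rw [e, ← hRp]
      exact commutator_mem_commutator hr hs
    exact hcomm.trans (perf_le Q0)

/-- the 2-core is trivial if the kernel has odd order -/
theorem pCore_eq_bot (S : Sit π A N) (hk : Odd (Nat.card π.ker)) : pCore 2 N = ⊥ := by
  have h2 : Fact (Nat.Prime 2) := ⟨Nat.prime_two⟩
  have hs := S.simple
  let f : ↥N →* ↥A := (π.comp N.subtype).codRestrict A (fun x => by rw [← S.map]; exact ⟨x, x.2, rfl⟩)
  have hf : Function.Surjective f := by
    rintro ⟨y, hy⟩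
    rw [← S.map] at hy
    obtain ⟨x, hx, rfl⟩ := hy
    exact ⟨⟨x, hx⟩, rfl⟩
  have hP : Finite P := Finite.of_surjective π S.surj
  have h1 : ((pCore 2 N).map f).Normal := (Lib.Cores.pCore_normal 2).map f hf
  have h3 : IsPGroup 2 ((pCore 2 N).map f) := (Lib.Cores.pCore_isPGroup 2).map f
  rcases h1.eq_bot_or_eq_top with h4 | h4
  · have h5 := (Subgroup.map_eq_bot_iff _).1 h4
    have h6 : IsPGroup 2 ↥(pCore 2 N) := Lib.Cores.pCore_isPGroup 2
    obtain ⟨n, hn⟩ := IsPGroup.iff_card.1 h6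
    have h7 : Nat.card ↥(pCore 2 N) ∣ Nat.card π.ker := by
      let g : ↥(pCore 2 N) →* ↥π.ker :=
        { toFun := fun x => ⟨x.1.1, by
            have := congrArg Subtype.val (MonoidHom.mem_ker.1 (h5 x.2))
            exact MonoidHom.mem_ker.2 this⟩
          map_one' := rfl
          map_mul' := fun _ _ => rfl }
      refine card_dvd_of_injective g ?_
      intro x y hxy
      have := congrArg (fun z : ↥π.ker => (z : Q)) hxy
      exact Subtype.ext (Subtype.ext this)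
    have h8 : n = 0 := by
      by_contra hn0
      have h9 : 2 ∣ Nat.card ↥(pCore 2 N) := by rw [hn]; exact dvd_pow_self 2 hn0
      have h10 := h9.trans h7
      rw [← Nat.not_even_iff_odd, even_iff_two_dvd] at hk
      exact hk h10
    rw [h8, pow_zero] at hn
    exact Subgroup.card_eq_one.1 hn
  · exfalso
    apply S.ns
    rw [h4] at h3
    have h5 : IsPGroup 2 A := h3.of_equiv topEquiv
    have := h5.isNilpotent
    infer_instance

end Sit

/-- **The row.** -/
theorem row {G : Type*} [Group G] [Finite G] (T : Sylow 2 G) {L M : Subgroup G} (hL : L ∈ calL (T : Subgroup G))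
    (hTM : (T : Subgroup G) ≤ M) (hLM : L ≤ M) {Q P : Type*} [Group Q] [Group P] {π : Q →* P} {A : Subgroup P}
    {N : Subgroup Q} [A.Normal] [N.Normal] (S : Sit π A N) (hk : Odd (Nat.card π.ker)) (ψ : M →* Q) (hψ : Function.Surjective ψ)
    (hker : IsPGroup 2 ψ.ker) : L ⊔ T ≤ normalizer (L : Set G) ∧ Nonempty ((L ⧸ pCore 2 L) ≃* N) := by
  have hQ : Finite Q := Finite.of_surjective ψ hψ
  obtain ⟨h1, h2, -⟩ := H1.Tight.calL_of_odd T hL hTM hLM ψ hψ hker S.tame (S.pCore_eq_bot hk) S.odd_index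
  exact ⟨h1, h2⟩

end Cfsg.Agent.H3.OddTame
end

-- part: H3/SitLib
section
/-!
# Examples of the situation `OddTame.Sit` (helper3)

* `of_cyclic` : `π : Q → P` with cyclic kernel;
* `of_prod` : `Q = X × Y`, `X` simple, `Y` solvable.
-/

set_option autoImplicit false

namespace Cfsg.Agent.H3.SitLib

open Subgroup Cfsg Cfsg.Agent.H3.OddTame
open scoped commutatorElement

theorem perf_of_simple {P : Type*} [Group P] {A : Subgroup P} (hs : IsSimpleGroup A) (hn : ¬ Group.IsSolvable A) :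
    ⁅A, A⁆ = A := by
  have h1 := H5.Small.quasi_of_simple (X := A) hn
  have h2 := h1.1
  rw [Group.isPerfect_def, commutator_def] at h2
  have h3 := congrArg (Subgroup.map A.subtype) h2
  rw [map_commutator, ← MonoidHom.range_eq_map, range_subtype] at h3
  exact h3

section cyclic

variable {Q P : Type*} [Group Q] [Group P] {π : Q →* P} {A : Subgroup P}

theorem commutator_mem_centralizer (K : Subgroup Q) [K.Normal] [IsCyclic K] (a b : Q) :
    ⁅a, b⁆ ∈ centralizer (K : Set Q) := by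
  have hcomm : ∀ a b : MulAut K, a * b = b * a := by
    intro a b
    apply (IsCyclic.mulAutMulEquiv K).injective
    rw [map_mul, map_mul, mul_comm]
  rw [mem_centralizer_iff]
  intro m hm
  have h2 : (MulAut.conjNormal (H := K) ⁅a, b⁆) = 1 := by
    rw [map_commutatorElement, commutatorElement_def, hcomm (MulAut.conjNormal a) (MulAut.conjNormal b)]
    group
  have h3 := congrArg (fun f : MulAut K => ((f ⟨m, hm⟩ : K) : Q)) h2
  change ((MulAut.conjNormal ⁅a, b⁆ ⟨m, hm⟩ : K) : Q) = m at h3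
  rw [MulAut.conjNormal_apply] at h3
  exact (mul_inv_eq_iff_eq_mul.1 h3).symm

theorem of_cyclic [A.Normal] (hπ : Function.Surjective π) [IsCyclic π.ker] (hs : IsSimpleGroup A)
    (hn : ¬ Group.IsSolvable A) (hq : Group.IsSolvable (P ⧸ A)) (ho : OddSolv A) :
    Sit π A ⁅A.comap π, A.comap π⁆ := by
  have hAp := perf_of_simple hs hn
  set! N1 : Subgroup Q := A.comap π with hN1
  have hm1 : N1.map π = A := map_comap_eq_self_of_surjective hπ A
  have hmap : (⁅N1, N1⁆ : Subgroup Q).map π = A := by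
    rw [map_commutator, hm1, hAp]
  have hKc : ∀ n ∈ (⁅N1, N1⁆ : Subgroup Q), ∀ z ∈ π.ker, z * n = n * z := by
    intro n hn z hz
    have h1 : (⁅N1, N1⁆ : Subgroup Q) ≤ centralizer (π.ker : Set Q) := by
      rw [commutator_le]
      intro a _ b _
      exact commutator_mem_centralizer π.ker a b
    exact mem_centralizer_iff.1 (h1 hn) z hz
  have hKK : ∀ z ∈ π.ker, ∀ w ∈ π.ker, z * w = w * z := by
    intro z hz w hw
    let _ : CommGroup π.ker := IsCyclic.commGroup
    exact congrArg Subtype.val (mul_comm (⟨z, hz⟩ : π.ker) ⟨w, hw⟩)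
  have hdec : ∀ a ∈ N1, ∃ n ∈ (⁅N1, N1⁆ : Subgroup Q), ∃ z ∈ π.ker, a = n * z := by
    intro a ha
    have h1 : π a ∈ (⁅N1, N1⁆ : Subgroup Q).map π := by rw [hmap]; exact ha
    obtain ⟨n, hn, he⟩ := h1
    refine ⟨n, hn, n⁻¹ * a, ?_, by group⟩
    rw [MonoidHom.mem_ker, map_mul, map_inv, he, inv_mul_cancel]
  refine ⟨hπ, ?_, hs, hn, hq, ho, ?_, hmap, ?_⟩
  · let _ : CommGroup π.ker := IsCyclic.commGroup
    infer_instance
  · refine le_antisymm (commutator_le.2 fun a ha b hb => ?_) ?_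
    · rw [commutatorElement_def]
      exact mul_mem (mul_mem (mul_mem ha hb) (inv_mem ha)) (inv_mem hb)
    · refine commutator_le.2 fun a ha b hb => ?_
      obtain ⟨n, hn, z, hz, rfl⟩ := hdec a ha
      obtain ⟨m, hm, w, hw, rfl⟩ := hdec b hb
      have e : ⁅n * z, m * w⁆ = ⁅n, m⁆ := by
        rw [commutatorElement_def, commutatorElement_def]
        have c1 := hKc m hm z hz
        have c2 := hKc n hn w hw
        have c3 := hKK z hz w hw
        calc n * z * (m * w) * (n * z)⁻¹ * (m * w)⁻¹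
            = n * (z * m) * w * z⁻¹ * n⁻¹ * w⁻¹ * m⁻¹ := by group
          _ = n * m * (z * w) * z⁻¹ * n⁻¹ * w⁻¹ * m⁻¹ := by rw [c1]; group
          _ = n * m * w * n⁻¹ * w⁻¹ * m⁻¹ := by rw [c3]; group
          _ = n * m * (n⁻¹ * (n * w) * n⁻¹) * w⁻¹ * m⁻¹ := by group
          _ = n * m * (n⁻¹ * (w * n) * n⁻¹) * w⁻¹ * m⁻¹ := by rw [c2]
          _ = n * m * n⁻¹ * m⁻¹ := by group
      rw [e]
      exact commutator_mem_commutator hn hm
  · intro z hz
    rw [mem_centralizer_iff]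
    intro n hn
    exact (hKc n hn z hz.2).symm

end cyclic

section prod

variable {X Y : Type*} [Group X] [Group Y]

theorem of_prod [IsSimpleGroup X] (hn : ¬ Group.IsSolvable X) [Group.IsSolvable Y] (ho : OddSolv X) :
    Sit (MonoidHom.id (X × Y)) ((⊤ : Subgroup X).prod (⊥ : Subgroup Y)) ((⊤ : Subgroup X).prod (⊥ : Subgroup Y)) := by
  let e : X ≃* ↥((⊤ : Subgroup X).prod (⊥ : Subgroup Y)) :=
    { toFun := fun x => ⟨(x, 1), mem_top x, one_mem _⟩
      invFun := fun p => p.1.1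
      left_inv := fun x => rfl
      right_inv := fun p => by
        obtain ⟨⟨a, b⟩, ha, hb⟩ := p
        have : b = 1 := hb
        subst this
        rfl
      map_mul' := fun a b => by
        apply Subtype.ext
        simp only [_root_.Subgroup.coe_mul, _root_.Prod.mk_mul_mk, _root_.mul_one] }
  have hs : IsSimpleGroup ↥((⊤ : Subgroup X).prod (⊥ : Subgroup Y)) := H5.Small.simple_of_equiv e
  have hns : ¬ Group.IsSolvable ↥((⊤ : Subgroup X).prod (⊥ : Subgroup Y)) := fun h => hn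
    (Group.isSolvable_of_isSolvable_injective (f := e.toMonoidHom) e.injective)
  have hk : (MonoidHom.id (X × Y)).ker = ⊥ := by
    rw [MonoidHom.ker_eq_bot_iff]
    exact fun _ _ h => h
  refine ⟨Function.surjective_id, ?_, hs, hns, ?_, ho.congr e, perf_of_simple hs hns, Subgroup.map_id _, ?_⟩
  · rw [hk]
    infer_instance
  · have hk2 : (MonoidHom.snd X Y).ker = (⊤ : Subgroup X).prod (⊥ : Subgroup Y) := by
      ext ⟨a, b⟩
      rw [MonoidHom.mem_ker, mem_prod]
      simp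
    have e2 := (QuotientGroup.quotientMulEquivOfEq hk2.symm).trans (QuotientGroup.quotientKerEquivOfSurjective
      (MonoidHom.snd X Y) Prod.snd_surjective)
    exact Group.isSolvable_of_isSolvable_injective (f := e2.toMonoidHom) e2.injective
  · rw [hk, inf_bot_eq]
    exact bot_le

end prod

end Cfsg.Agent.H3.SitLib
end

-- part: H3/OddSmall
section
/-!
# Subgroups of odd index of `L₃(2)` and `A₆` (helper3)
-/

set_option autoImplicit false

namespace Cfsg.Agent.H3.OddSmall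

open Subgroup Cfsg Cfsg.Agent.H3.OddTame

variable {A : Type*} [Group A] [Finite A]

/-- the order of a simple group divides `n!` for a subgroup of index `n > 1` -/
theorem card_dvd_factorial [hs : IsSimpleGroup A] {X : Subgroup A} (hX : X ≠ ⊤) : Nat.card A ∣ X.index.factorial := by
  classical
  let ρ : A →* Equiv.Perm (A ⧸ X) := MulAction.toPermHom _ _
  have hk : ρ.ker ≤ X := by
    intro a ha
    have h1 : ρ a = 1 := ha
    have h2 := congrArg (fun f : Equiv.Perm (A ⧸ X) => f (QuotientGroup.mk 1)) h1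
    have h3 : (QuotientGroup.mk (a * 1) : A ⧸ X) = QuotientGroup.mk 1 := h2
    rw [QuotientGroup.eq, mul_one] at h3
    simpa using h3
  have hb : ρ.ker = ⊥ := by
    rcases (inferInstance : ρ.ker.Normal).eq_bot_or_eq_top with h | h
    · exact h
    · exact absurd (top_le_iff.1 (h ▸ hk)) hX
  have h1 := card_dvd_of_injective ρ ((MonoidHom.ker_eq_bot_iff ρ).1 hb)
  rwa [Nat.card_perm] at h1

theorem oddSolv_168 (h : Nat.card A = 168) : OddSolv A := by
  intro X hX
  have h1 := X.card_mul_index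
  rw [h] at h1
  by_cases h2 : X.index = 1
  · exact Or.inr (index_eq_one.1 h2)
  · left
    have h3 : 3 ≤ X.index := by
      obtain ⟨k, hk⟩ := hX
      omega
    refine H5.Small.solvable_of_lt _ rfl ?_
    by_contra h4
    have : 60 * 3 ≤ Nat.card X * X.index := Nat.mul_le_mul (by omega) h3
    omega

theorem oddSolv_360 [IsSimpleGroup A] (h : Nat.card A = 360) : OddSolv A := by
  intro X hX
  have h1 := X.card_mul_index
  rw [h] at h1
  by_cases h2 : X = ⊤
  · exact Or.inr h2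
  · left
    have hd : X.index ∣ 360 := ⟨Nat.card X, by rw [← h1, mul_comm]⟩
    have hle : X.index ≤ 360 := Nat.le_of_dvd (by norm_num) hd
    have h3 := card_dvd_factorial h2
    rw [h] at h3
    have h4 : 6 ≤ X.index := by
      by_contra h4
      have h5 : X.index.factorial ∣ Nat.factorial 5 := Nat.factorial_dvd_factorial (by omega)
      have h6 := h3.trans h5
      revert h6
      decide
    by_cases h5 : X.index = 6
    · exfalso
      rw [h5] at hX
      exact absurd hX (by decide)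
    have h7 : Nat.card X < 60 := by
      by_contra h7
      have : 60 * 7 ≤ Nat.card X * X.index := Nat.mul_le_mul (by omega) (by omega)
      omega
    exact H5.Small.solvable_of_lt _ rfl h7

end Cfsg.Agent.H3.OddSmall
end

-- part: H3/M24Trio
section
/-!
# `M24`: members of `ℒ(G, T)` in the stabiliser of a trio (helper3)
-/

set_option autoImplicit false

open MulAction Subgroup
open scoped Pointwise

namespace Cfsg.Agent.H3.M24Trio

open Cfsg Cfsg.Agent.H3.OddTame

theorem card_GL : Nat.card (Matrix.GeneralLinearGroup (Fin 3) (ZMod 2)) = 168 := by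
  rw [Matrix.card_GL_field]
  simp only [Fin.prod_univ_succ, ZMod.card, _root_.Nat.reducePow, _root_.Fin.isValue, _root_.Fin.coe_ofNat_eq_mod, _root_.Nat.zero_mod, _root_.pow_zero, _root_.Nat.add_one_sub_one, _root_.Fin.val_succ, _root_.zero_add, _root_.pow_one, _root_.Nat.reduceSub, _root_.Finset.univ_unique, _root_.Fin.default_eq_zero, _root_.Fin.val_eq_zero, _root_.Nat.reduceAdd, _root_.Finset.prod_const, _root_.Finset.card_singleton, _root_.Nat.reduceMul]

theorem not_solvable_of_card {X : Type*} [Group X] [Finite X] [hs : IsSimpleGroup X]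
    (hn : ¬ (Nat.card X).Prime) : ¬ Group.IsSolvable X := by
  intro h1
  have h2 := IsSimpleGroup.comm_iff_isSolvable.2 h1
  let _ : CommGroup X := { (inferInstance : Group X) with mul_comm := h2 }
  exact hn IsSimpleGroup.prime_card

/-- the members of `ℒ(G, T)` in a trio stabiliser -/
theorem row (T : Sylow 2 M24) {L : Subgroup M24} (hL : L ∈ (calL (T : Subgroup M24) :)) {R : Finset (Finset GolayPt)}
    (hR : R ∈ trios) (h : L ⊔ (T : Subgroup M24) ≤ stabilizer M24 R) :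
    L ⊔ (T : Subgroup M24) ≤ normalizer (L : Set M24) ∧
      Nonempty ((L ⧸ pCore 2 L) ≃* Matrix.ProjectiveSpecialLinearGroup (Fin 3) (ZMod 2)) := by
  obtain ⟨-, N, hNn, hN, -, ⟨e⟩⟩ := S1558.result R hR
  have h2 : Fact (Nat.Prime 2) := ⟨Nat.prime_two⟩
  have hsG : IsSimpleGroup (Matrix.GeneralLinearGroup (Fin 3) (ZMod 2)) := StdL2.G23Aut.simple_GL
  have hns : ¬ Group.IsSolvable (Matrix.GeneralLinearGroup (Fin 3) (ZMod 2)) :=
    not_solvable_of_card (by rw [card_GL]; norm_num)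
  have hs3 : Group.IsSolvable (Equiv.Perm (Fin 3)) := H5.Small.solvable_of_lt _ rfl (by
    rw [Nat.card_perm, Nat.card_fin]; decide)
  have S := SitLib.of_prod (X := Matrix.GeneralLinearGroup (Fin 3) (ZMod 2)) (Y := Equiv.Perm (Fin 3)) hns
    (OddSmall.oddSolv_168 card_GL)
  have hk : (MonoidHom.id (Matrix.GeneralLinearGroup (Fin 3) (ZMod 2) × Equiv.Perm (Fin 3))).ker = ⊥ := by
    rw [MonoidHom.ker_eq_bot_iff]
    exact fun _ _ h => h
  let ψ : ↥(stabilizer M24 R) →* (Matrix.GeneralLinearGroup (Fin 3) (ZMod 2) × Equiv.Perm (Fin 3)) :=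
    e.toMonoidHom.comp (QuotientGroup.mk' N)
  have hψ : Function.Surjective ψ := e.surjective.comp (QuotientGroup.mk'_surjective N)
  have hkψ : ψ.ker = N := by
    ext x
    rw [MonoidHom.mem_ker]
    change e (QuotientGroup.mk x) = 1 ↔ x ∈ N
    rw [map_eq_one_iff e e.injective, QuotientGroup.eq_one_iff]
  have hker : IsPGroup 2 ψ.ker := by
    rw [hkψ]
    exact IsPGroup.of_card (n := 6) (by rw [hN]; norm_num)
  obtain ⟨h3, ⟨f⟩⟩ := OddTame.row T hL (le_sup_right.trans h) (le_sup_left.trans h) S (by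
    rw [hk, Subgroup.card_bot]; decide) ψ hψ hker
  refine ⟨h3, ?_⟩
  have hs := S.simple
  have hfin : Finite (L ⧸ pCore 2 L) := inferInstance
  have hsL : IsSimpleGroup (L ⧸ pCore 2 L) := (MulEquiv.isSimpleGroup_congr f).2 hs
  refine H5.PerfGL4.psl_of_card ?_ (by simp [ZMod.card])
  rw [Nat.card_congr f.toEquiv, Nat.card_congr (Subgroup.prodEquiv _ _).toEquiv, Nat.card_prod, Subgroup.card_bot,
    Subgroup.card_top, card_GL]

end Cfsg.Agent.H3.M24Trio
end

-- part: H3/M24Oct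
section
/-!
# `M24`: members of `ℒ(G, T)` in the stabiliser of an octad (helper3)
-/

set_option autoImplicit false

open MulAction Subgroup
open scoped Pointwise

namespace Cfsg.Agent.H3.M24Oct

open Cfsg

/-- the restriction to an octad -/
def rs (o : Finset GolayPt) : ↥(stabilizer M24 o) →* Equiv.Perm ↥o where
  toFun g := ((g : M24) : Equiv.Perm GolayPt).subtypePerm
    ((SporadicStructure.OctadStabAbs.mem_stabilizer_finset_iff _ o).1 (mem_stabilizer_iff.1 g.2))
  map_one' := by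
    apply Equiv.ext
    intro x
    rfl
  map_mul' g h := by
    apply Equiv.ext
    intro x
    rfl

variable {o : Finset GolayPt} (ho : o ∈ octads)

include ho

theorem range_rs : (rs o).range = alternatingGroup ↥o := by
  ext e
  have h1 := Set.ext_iff.1 (S1553.result o ho) e
  refine Iff.trans ?_ h1
  constructor
  · rintro ⟨g, rfl⟩
    exact ⟨((g : M24) : Equiv.Perm GolayPt), (g : M24).2,
      (SporadicStructure.OctadStabAbs.mem_stabilizer_finset_iff _ o).1 (mem_stabilizer_iff.1 g.2), rfl⟩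
  · rintro ⟨g, hg, h, rfl⟩
    exact ⟨⟨⟨g, hg⟩, mem_stabilizer_iff.2
      (mem_stabilizer_iff.1 ((SporadicStructure.OctadStabAbs.mem_stabilizer_finset_iff g o).2 h))⟩, rfl⟩

theorem ker_rs : IsPGroup 2 (rs o).ker := by
  have h2 : Fact (Nat.Prime 2) := ⟨Nat.prime_two⟩
  obtain ⟨-, h1⟩ := S0381.result o ho
  intro g
  refine ⟨1, ?_⟩
  have h3 : (((g : ↥(stabilizer M24 o)) : M24) : Equiv.Perm GolayPt) ∈
      M24 ⊓ fixingSubgroup (Equiv.Perm GolayPt) (o : Set GolayPt) := by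
    refine mem_inf.2 ⟨((g : ↥(stabilizer M24 o)) : M24).2, ?_⟩
    rw [mem_fixingSubgroup_iff]
    intro y hy
    have h4 := MonoidHom.mem_ker.1 g.2
    have h5 := congrArg (fun f : Equiv.Perm ↥o => ((f ⟨y, hy⟩ : ↥o) : GolayPt)) h4
    exact h5
  have h4 := h1 _ h3
  rw [pow_one, pow_two]
  apply Subtype.ext; apply Subtype.ext; apply Subtype.ext
  exact h4

/-- the members of `ℒ(G, T)` in an octad stabiliser -/
theorem row (T : Sylow 2 M24) {L : Subgroup M24} (hL : L ∈ (calL (T : Subgroup M24) :))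
    (h : L ⊔ (T : Subgroup M24) ≤ stabilizer M24 o) :
    (T : Subgroup M24) ≤ normalizer (L : Set M24) ∧
      (Nonempty ((L ⧸ pCore 2 L) ≃* alternatingGroup (Fin 8)) ∨
        Nonempty ((L ⧸ pCore 2 L) ≃* Matrix.ProjectiveSpecialLinearGroup (Fin 3) (ZMod 2))) := by
  classical
  have h2 : Fact (Nat.Prime 2) := ⟨Nat.prime_two⟩
  have hTM : (T : Subgroup M24) ≤ stabilizer M24 o := le_sup_right.trans h
  have hLM : L ≤ stabilizer M24 o := le_sup_left.trans h
  let ψ : ↥(stabilizer M24 o) →* ↥(alternatingGroup ↥o) := (rs o).codRestrict _ (fun x => by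
    rw [← range_rs ho]
    exact ⟨x, rfl⟩)
  have hψ : Function.Surjective ψ := by
    rintro ⟨y, hy⟩
    rw [← range_rs ho] at hy
    obtain ⟨x, rfl⟩ := hy
    exact ⟨x, rfl⟩
  have hk : ψ.ker = (rs o).ker := MonoidHom.ker_codRestrict _ _ _
  have hker : IsPGroup 2 ψ.ker := hk ▸ ker_rs ho
  have D := QuotC.down hL hTM hLM ψ hker
  have h8 : Fintype.card ↥o = 8 := by rw [Fintype.card_coe]; exact ho.2
  have e8 : alternatingGroup ↥o ≃* alternatingGroup (Fin 8) := Equiv.altCongrHom (Fintype.equivFinOfCardEq h8)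
  obtain ⟨f⟩ := S0256.result (F := ZMod 2) (by simp [ZMod.card])
  let S' : Sylow 2 ↥(alternatingGroup ↥o) := (T.subtype hTM).mapSurjective hψ
  have hS' : (S' : Subgroup ↥(alternatingGroup ↥o)) = ((T : Subgroup M24).subgroupOf (stabilizer M24 o)).map ψ := by
    rw [Sylow.coe_mapSurjective]
    rfl
  have hc := D.comp
  have hs := D.syl
  rw [← hS'] at hc hs
  obtain ⟨h3, h4⟩ := RgdTop.four (F := ZMod 2) (by simp [ZMod.card]) (e8.trans f.symm) S' hc hs
  rw [hS'] at h3
  refine ⟨D.norm h3, ?_⟩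
  obtain ⟨g⟩ := D.quot
  rcases h4 with h4 | h4
  · left
    have hs8 : IsSimpleGroup (alternatingGroup (Fin 8)) := alternatingGroup.isSimpleGroup (by simp)
    have hs : IsSimpleGroup (alternatingGroup ↥o) := H5.Small.simple_of_equiv e8.symm
    have hst : IsSimpleGroup (⊤ : Subgroup ↥(alternatingGroup ↥o)) := H5.Small.simple_of_equiv topEquiv.symm
    have hns : ¬ Group.IsSolvable (⊤ : Subgroup ↥(alternatingGroup ↥o)) := M24Trio.not_solvable_of_card (by
      have h1 : Nontrivial ↥o := by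
        rw [← Fintype.one_lt_card_iff_nontrivial, h8]; norm_num
      have h9 : Nat.card (⊤ : Subgroup ↥(alternatingGroup ↥o)) = 20160 := by
        rw [Subgroup.card_top, nat_card_alternatingGroup, Nat.card_eq_fintype_card, h8]
        rfl
      rw [h9]
      norm_num)
    have hb := H5.Small.pCore_eq_bot_of_simple hns
    rw [h4] at g
    exact ⟨(((g.trans (QuotientGroup.quotientMulEquivOfEq hb)).trans QuotientGroup.quotientBot).trans
      topEquiv).trans e8⟩
  · obtain ⟨h4⟩ := h4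
    exact Or.inr ⟨g.trans h4⟩

end Cfsg.Agent.H3.M24Oct
end

-- part: H3/M24Sextet
section
/-!
# `M24`: members of `ℒ(G, T)` in the stabiliser of a sextet (helper3)
-/

set_option autoImplicit false

open MulAction Subgroup
open scoped Pointwise

namespace Cfsg.Agent.H3.M24Sextet

open Cfsg Cfsg.Agent.H3.OddTame Cfsg.Agent.SporadicStructure.SextetStab

theorem input {S : Finset (Finset GolayPt)} (hS : S ∈ sextets) : Input S := by
  have hS0 := SporadicStructure.SextetStd.stdSextet_mem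
  have h0 := SporadicStructure.SextetStd.input_std
  obtain ⟨t, ht⟩ := Finset.card_pos.1 (by rw [hS0.1]; norm_num : 0 < SporadicStructure.SextetStd.stdSextet.card)
  obtain ⟨t', ht'⟩ : S.Nonempty := by rw [← Finset.card_pos, hS.1]; norm_num
  obtain ⟨g, hg, hgt⟩ := SporadicStructure.SextetTrans.four_of_five S0366.result t t' (hS0.2.1 t ht) (hS.2.1 t' ht')
  have := smul_eq_of_mem S0363.result hg hS0 hS ht (by rw [hgt]; exact ht')
  rw [← this]
  exact h0.conj hg

variable {S : Finset (Finset GolayPt)} (hS : S ∈ sextets)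

include hS

theorem surj : Function.Surjective (toPerm S) := toPerm_surjective S0363.result hS (input hS)

theorem card_v : Nat.card (vSub S) = 64 :=
  card_vSub S0363.result (SporadicStructure.SextetTrans.four_of_five S0366.result) S0364.result hS (input hS)

theorem card_k : Nat.card (toPerm S).ker = 192 :=
  card_ker S0363.result (SporadicStructure.SextetTrans.four_of_five S0366.result) S0364.result hS (input hS)

omit hS in
theorem v_le : vSub S ≤ (toPerm S).ker := fun _ hx => mem_ker_toPerm.2 fun t ht => (hx t ht).1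

instance instNormalVSub (S : Finset (Finset GolayPt)) : (vSub S).Normal := vSub_normal S

/-- the action of `M / O_2(M)` on the sextet -/
def pi (S : Finset (Finset GolayPt)) : (↥(stabilizer M24 S) ⧸ vSub S) →* Equiv.Perm S :=
  QuotientGroup.lift (vSub S) (toPerm S) v_le

theorem pi_surj : Function.Surjective (pi S) := by
  intro e
  obtain ⟨g, rfl⟩ := surj hS e
  exact ⟨QuotientGroup.mk g, rfl⟩

theorem card_pi_ker : Nat.card (pi S).ker = 3 := by
  have h1 : (pi S).ker = ((toPerm S).ker).map (QuotientGroup.mk' (vSub S)) := by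
    ext x
    obtain ⟨g, rfl⟩ := QuotientGroup.mk_surjective x
    constructor
    · intro hx
      exact ⟨g, hx, rfl⟩
    · rintro ⟨y, hy, he⟩
      rw [← he]
      exact hy
  have h2 := Subgroup.card_mul_index ((vSub S).subgroupOf (toPerm S).ker)
  rw [Nat.card_congr (subgroupOfEquivOfLe v_le).toEquiv, card_v hS, card_k hS] at h2
  have h3 : Nat.card ↥(((toPerm S).ker).map (QuotientGroup.mk' (vSub S))) =
      ((vSub S).subgroupOf (toPerm S).ker).index := by
    rw [Subgroup.index]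
    let f : ↥(toPerm S).ker →* ↥(((toPerm S).ker).map (QuotientGroup.mk' (vSub S))) :=
      (QuotientGroup.mk' (vSub S)).subgroupMap _
    have hf : Function.Surjective f := (QuotientGroup.mk' (vSub S)).subgroupMap_surjective _
    have hk : f.ker = (vSub S).subgroupOf (toPerm S).ker := by
      ext x
      rw [MonoidHom.mem_ker, mem_subgroupOf]
      constructor
      · intro hx
        have := congrArg Subtype.val hx
        exact (QuotientGroup.eq_one_iff (x : ↥(stabilizer M24 S))).1 this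
      · intro hx
        apply Subtype.ext
        exact (QuotientGroup.eq_one_iff (x : ↥(stabilizer M24 S))).2 hx
    rw [← hk]
    exact (Nat.card_congr (QuotientGroup.quotientKerEquivOfSurjective f hf).toEquiv).symm
  rw [h1, h3]
  omega

/-- the members of `ℒ(G, T)` in a sextet stabiliser -/
theorem row (T : Sylow 2 M24) {L : Subgroup M24} (hL : L ∈ (calL (T : Subgroup M24) :))
    (h : L ⊔ (T : Subgroup M24) ≤ stabilizer M24 S) :
    L ⊔ (T : Subgroup M24) ≤ normalizer (L : Set M24) ∧ IsQuasisimple (L ⧸ pCore 2 L) ∧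
      Nonempty (((L ⧸ pCore 2 L) ⧸ center (L ⧸ pCore 2 L)) ≃* alternatingGroup (Fin 6)) ∧
      (Nat.card (L ⧸ pCore 2 L) = 360 ∨ Nat.card (L ⧸ pCore 2 L) = 1080) := by
  classical
  have h2 : Fact (Nat.Prime 2) := ⟨Nat.prime_two⟩
  have h6 : Fintype.card S = 6 := by rw [Fintype.card_coe]; exact hS.1
  have e6 : alternatingGroup S ≃* alternatingGroup (Fin 6) := Equiv.altCongrHom (Fintype.equivFinOfCardEq h6)
  have hs6 : IsSimpleGroup (alternatingGroup (Fin 6)) := alternatingGroup.isSimpleGroup (by simp)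
  have hs : IsSimpleGroup (alternatingGroup S) := H5.Small.simple_of_equiv e6.symm
  have hc6 : Nat.card (alternatingGroup S) = 360 := by
    have h1 : Nontrivial S := by
      rw [← Fintype.one_lt_card_iff_nontrivial, h6]; norm_num
    rw [nat_card_alternatingGroup, Nat.card_eq_fintype_card, h6]
    rfl
  have hns : ¬ Group.IsSolvable (alternatingGroup S) := M24Trio.not_solvable_of_card (by rw [hc6]; norm_num)
  have hc3 : IsCyclic (pi S).ker := by
    have : Fact (Nat.Prime 3) := ⟨Nat.prime_three⟩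
    exact isCyclic_of_prime_card (card_pi_ker hS)
  have hq : Group.IsSolvable (Equiv.Perm S ⧸ alternatingGroup S) := by
    let e : (Equiv.Perm S ⧸ alternatingGroup S) ≃* (Equiv.Perm.sign (α := S)).range :=
      QuotientGroup.quotientKerEquivRange (Equiv.Perm.sign (α := S))
    exact Group.isSolvable_of_isSolvable_injective (f := e.toMonoidHom) e.injective
  have St := SitLib.of_cyclic (π := pi S) (A := alternatingGroup S) (pi_surj hS) hs hns hq
    (OddSmall.oddSolv_360 hc6)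
  set! N : Subgroup (↥(stabilizer M24 S) ⧸ vSub S) :=
    ⁅(alternatingGroup S).comap (pi S), (alternatingGroup S).comap (pi S)⁆ with hN
  have hker : IsPGroup 2 (QuotientGroup.mk' (vSub S)).ker := by
    rw [QuotientGroup.ker_mk']
    exact IsPGroup.of_card (n := 6) (by rw [card_v hS]; norm_num)
  obtain ⟨h3, ⟨f⟩⟩ := OddTame.row T hL (le_sup_right.trans h) (le_sup_left.trans h) St (by
    rw [card_pi_ker hS]; decide) (QuotientGroup.mk' (vSub S)) (QuotientGroup.mk'_surjective _) hker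
  have hqs := (SignalizersComponents.Components.isQuasisimple_congr f.symm).1 St.quasisimple
  obtain ⟨e⟩ := St.nonempty_quot
  refine ⟨h3, hqs, ⟨?_⟩, ?_⟩
  · exact ((QuotientGroup.congr (center (L ⧸ pCore 2 L)) (center N) f (by
      exact CpQuot.Congr.map_center f)).trans e).trans e6
  · have h4 : Nat.card N = 360 * Nat.card (center N) := by
      rw [card_eq_card_quotient_mul_card_subgroup (center N), Nat.card_congr e.toEquiv, hc6]
    have h5 := St.card_center_dvd
    rw [card_pi_ker hS] at h5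
    rw [Nat.card_congr f.toEquiv]
    rcases (Nat.dvd_prime Nat.prime_three).1 h5 with h7 | h7 <;> rw [h7] at h4
    · exact Or.inl h4
    · exact Or.inr h4

end Cfsg.Agent.H3.M24Sextet
end

-- part: H3/M24Row
section
/-!
# The row of `M24` (helper3)
-/

set_option autoImplicit false

open MulAction Subgroup
open scoped Pointwise

namespace Cfsg.Agent.H3.M24Row

open Cfsg

universe u

theorem card_sylow (T : Sylow 2 M24) : Nat.card (T : Subgroup M24) = 1024 := by
  have h2 : Fact (Nat.Prime 2) := ⟨Nat.prime_two⟩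
  have h1 := Sylow.card_eq_multiplicity T
  have h3 : Nat.card M24 = 244823040 := M24Loc.card_M24
  rw [h3, show 244823040 = 2 ^ 10 * 239085 by norm_num, Nat.factorization_mul (by norm_num) (by norm_num),
    Nat.Prime.factorization_pow Nat.prime_two] at h1
  have h4 : Nat.factorization 239085 2 = 0 := Nat.factorization_eq_zero_of_not_dvd (by norm_num)
  simp only [Finsupp.coe_add, Pi.add_apply, Finsupp.single_eq_same, h4] at h1
  rw [h1]
  norm_num

theorem row24 (T : Sylow 2 M24) {L : Subgroup M24} (hL : L ∈ (calL (T : Subgroup M24) :)) :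
    (T : Subgroup M24) ≤ normalizer (L : Set M24) ∧
      (Nonempty ((L ⧸ pCore 2 L) ≃* alternatingGroup (Fin 8)) ∨
        Nonempty ((L ⧸ pCore 2 L) ≃* Matrix.ProjectiveSpecialLinearGroup (Fin 3) (ZMod 2)) ∨
        (IsQuasisimple (L ⧸ pCore 2 L) ∧
          Nonempty (((L ⧸ pCore 2 L) ⧸ center (L ⧸ pCore 2 L)) ≃* alternatingGroup (Fin 6)) ∧
          (Nat.card (L ⧸ pCore 2 L) = 360 ∨ Nat.card (L ⧸ pCore 2 L) = 1080))) := by
  have h1 : 1024 ∣ (Nat.card ↥(L ⊔ (T : Subgroup M24)) :) := by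
    rw [← card_sylow T]
    exact Subgroup.card_dvd_of_le le_sup_right
  rcases M24Loc.main (L ⊔ (T : Subgroup M24)) h1 hL.2.2 with ⟨o, ho, h⟩ | ⟨R, hR, h⟩ | ⟨S, hS, h⟩
  · obtain ⟨h3, h4⟩ := M24Oct.row ho T hL h
    refine ⟨h3, ?_⟩
    rcases h4 with h4 | h4
    · exact Or.inl h4
    · exact Or.inr (Or.inl h4)
  · obtain ⟨h3, h4⟩ := M24Trio.row T hL hR h
    exact ⟨le_sup_right.trans h3, Or.inr (Or.inl h4)⟩
  · obtain ⟨h3, h4⟩ := M24Sextet.row hS T hL h
    exact ⟨le_sup_right.trans h3, Or.inr (Or.inr h4)⟩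

end Cfsg.Agent.H3.M24Row
end
end

-- part: H3/Asm35
section
set_option linter.all false
open scoped Cfsg.Agent.FastGrp

-- part: H3/Asm36
section
/-!
# S1836: assembly (helper3)
-/

set_option autoImplicit false

namespace Cfsg.Agent.H3.Asm36

open Subgroup Cfsg Cfsg.Agent.H4.LfTrans Cfsg.Agent.H5.Resid Cfsg.Agent.H3.Table

universe u

/-- the types of S1836 (3) -/
def Conc36 {G : Type u} [Group G] (L : Subgroup G) : Prop :=
  ((∃ (F : Type) (_ : Field F) (_ : Fintype F), Fintype.card F = 2 ∧ (Nonempty ((↥L ⧸ Cfsg.twoZCore ↥L) ≃* Matrix.ProjectiveSpecialLinearGroup (Fin 3) F) ∨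
        Nonempty ((↥L ⧸ Cfsg.twoZCore ↥L) ≃* Matrix.ProjectiveSpecialLinearGroup (Fin 4) F) ∨
        Nonempty ((↥L ⧸ Cfsg.twoZCore ↥L) ≃* Matrix.ProjectiveSpecialLinearGroup (Fin 5) F))) ∨
      Nonempty ((↥L ⧸ Cfsg.twoZCore ↥L) ≃* ↥(alternatingGroup (Fin 5))) ∨ Nonempty ((↥L ⧸ Cfsg.twoZCore ↥L) ≃* ↥(alternatingGroup (Fin 6))) ∨
      Nonempty ((↥L ⧸ Cfsg.twoZCore ↥L) ≃* ↥(alternatingGroup (Fin 7))) ∨ Nonempty ((↥L ⧸ Cfsg.twoZCore ↥L) ≃* ↥(alternatingGroup (Fin 8))) ∨
      (∃ (F : Type) (_ : Field F) (_ : Fintype F), Fintype.card F = 9 ∧ Nonempty ((↥L ⧸ Cfsg.twoZCore ↥L) ≃* Cfsg.PSU 3 F 3)) ∨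
      Cfsg.IsHatA6 (↥L ⧸ Cfsg.pCore 2 ↥L))

theorem charP_of_card {F : Type*} [Field F] [Fintype F] (h2 : Fintype.card F = 2) : CharP F 2 := by
  obtain ⟨p, hp⟩ := CharP.exists F
  obtain ⟨n, hpp, hn⟩ := FiniteField.card F p
  rw [h2] at hn
  have h4 : p ∣ 2 := by rw [hn]; exact dvd_pow_self p n.ne_zero
  have h5 : p = 2 := (Nat.prime_dvd_prime_iff_eq hpp Nat.prime_two).1 h4
  exact h5 ▸ hp

section types

variable {G : Type u} [Group G] [Finite G] {L : Subgroup G}

omit [Finite G] in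
theorem of_alt_five (h : IsAlt 5 L) : Conc36 L := Or.inr (Or.inl (H5.ResidEnd.alt_five h))

omit [Finite G] in
theorem of_alt_six (h : IsAlt 6 L) : Conc36 L := Or.inr (Or.inr (Or.inl (H5.ResidEnd.alt_six h)))

theorem of_l3 (h : IsL3 L) : Conc36 L :=
  Or.inl ⟨ZMod 2, inferInstance, inferInstance, by rw [ZMod.card], Or.inl (H5.ResidEnd.l3 h)⟩

theorem of_conc0 (h : Conc0 L) : Conc36 L := by
  rcases h with h | h | h
  · exact of_alt_six h
  · exact of_alt_five h
  · exact of_l3 h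

omit [Finite G] in
theorem of_alt_eight (h : Nonempty ((L ⧸ pCore 2 L) ≃* alternatingGroup (Fin 8))) : Conc36 L := by
  obtain ⟨e⟩ := h
  have : IsSimpleGroup (alternatingGroup (Fin 8)) := alternatingGroup.isSimpleGroup (by simp)
  have hc : Nat.card (alternatingGroup (Fin 8)) = 20160 := by
    rw [nat_card_alternatingGroup, Nat.card_fin, show Nat.factorial 8 = 40320 by rfl]
  exact Or.inr (Or.inr (Or.inr (Or.inr (Or.inl (H5.ResidEnd.quot_equiv (by rw [hc]; norm_num) e)))))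

/-- `L / O_{2,Z}(L) ≃ (L / O_2(L)) / Z(L / O_2(L))` -/
noncomputable def zEquiv (L : Type*) [Group L] : (L ⧸ twoZCore L) ≃* ((L ⧸ pCore 2 L) ⧸ center (L ⧸ pCore 2 L)) := by
  let f : L →* ((L ⧸ pCore 2 L) ⧸ center (L ⧸ pCore 2 L)) :=
    (QuotientGroup.mk' (center (L ⧸ pCore 2 L))).comp (QuotientGroup.mk' (pCore 2 L))
  have hf : Function.Surjective f :=
    (QuotientGroup.mk'_surjective _).comp (QuotientGroup.mk'_surjective _)
  have hk : f.ker = twoZCore L := by
    ext x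
    rw [MonoidHom.mem_ker, twoZCore, mem_comap]
    exact QuotientGroup.eq_one_iff (QuotientGroup.mk' (pCore 2 L) x)
  exact (QuotientGroup.quotientMulEquivOfEq hk.symm).trans (QuotientGroup.quotientKerEquivOfSurjective f hf)

omit [Finite G] in
theorem of_six (h : Nonempty (((L ⧸ pCore 2 L) ⧸ center (L ⧸ pCore 2 L)) ≃* alternatingGroup (Fin 6))) : Conc36 L := by
  obtain ⟨e⟩ := h
  exact Or.inr (Or.inr (Or.inl ⟨(zEquiv L).trans e⟩))

omit [Finite G] in
theorem card_psl {F : Type} [Field F] [Fintype F] (hF : Fintype.card F = 2) :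
    Nat.card (Matrix.ProjectiveSpecialLinearGroup (Fin 3) F) = 168 ∧
      Nat.card (Matrix.ProjectiveSpecialLinearGroup (Fin 4) F) = 20160 ∧
      Nat.card (Matrix.ProjectiveSpecialLinearGroup (Fin 5) F) = 9999360 := by
  refine ⟨?_, ?_, ?_⟩
  · have h := S0243.result hF 3 (by norm_num)
    rw [Fin.prod_univ_three] at h
    norm_num at h
    exact h
  · have h := S0243.result hF 4 (by norm_num)
    rw [Fin.prod_univ_four] at h
    norm_num at h
    exact h
  · have h := S0243.result hF 5 (by norm_num)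
    rw [Fin.prod_univ_five] at h
    norm_num at h
    exact h

theorem of_psl3 {F : Type} [Field F] [Fintype F] (hF : Fintype.card F = 2)
    (h : Nonempty ((L ⧸ pCore 2 L) ≃* Matrix.ProjectiveSpecialLinearGroup (Fin 3) F)) : Conc36 L := by
  obtain ⟨e⟩ := h
  have : Finite (Matrix.ProjectiveSpecialLinearGroup (Fin 3) F) := Finite.of_equiv _ e.toEquiv
  have : IsSimpleGroup (Matrix.ProjectiveSpecialLinearGroup (Fin 3) F) := S0249.result 3 le_rfl
  exact Or.inl ⟨F, _, _, hF, Or.inl (H5.ResidEnd.quot_equiv (by rw [(card_psl hF).1]; norm_num) e)⟩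

theorem of_psl4 {F : Type} [Field F] [Fintype F] (hF : Fintype.card F = 2)
    (h : Nonempty ((L ⧸ pCore 2 L) ≃* Matrix.ProjectiveSpecialLinearGroup (Fin 4) F)) : Conc36 L := by
  obtain ⟨e⟩ := h
  have : Finite (Matrix.ProjectiveSpecialLinearGroup (Fin 4) F) := Finite.of_equiv _ e.toEquiv
  have : IsSimpleGroup (Matrix.ProjectiveSpecialLinearGroup (Fin 4) F) := S0249.result 4 (by norm_num)
  exact Or.inl ⟨F, _, _, hF, Or.inr (Or.inl (H5.ResidEnd.quot_equiv (by rw [(card_psl hF).2.1]; norm_num) e))⟩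

end types

section rows

variable {G : Type u} [Group G] [Finite G]

theorem row_l42 {F : Type} [Field F] [Fintype F] (hF : Fintype.card F = 2)
    (e : G ≃* Matrix.ProjectiveSpecialLinearGroup (Fin 4) F) : Row G Conc36 := by
  intro T L hL
  have hchar : CharP F 2 := charP_of_card hF
  obtain ⟨_, _, h⟩ := H1.RowPSLFive.row_psl_four hF e T L hL.1
  exact of_psl3 hF h

theorem row_l52 {F : Type} [Field F] [Fintype F] (hF : Fintype.card F = 2)
    (e : G ≃* Matrix.ProjectiveSpecialLinearGroup (Fin 5) F) : Row G Conc36 := by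
  intro T L hL
  have hchar : CharP F 2 := charP_of_card hF
  obtain ⟨-, i, h⟩ := H1.RowPSLFive.row_psl_five hF e T L hL.1
  fin_cases i
  · exact of_psl3 hF h
  · exact of_psl4 hF h

theorem row_a9 (hFT : H5.Top.FT.{u}) (hE : IsOfEvenCharacteristic G) (e : G ≃* alternatingGroup (Fin 9)) :
    Row G Conc36 := by
  have hc : Nat.card G = 181440 := by
    rw [Nat.card_congr e.toEquiv, nat_card_alternatingGroup, Nat.card_fin, show Nat.factorial 9 = 362880 by rfl]
  have h128 : ¬ 128 ∣ Nat.card G := by rw [hc]; norm_num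
  intro T L hL
  obtain ⟨-, h2⟩ := H5.Row64.row64 hFT hE h128 T hL.1
  rcases h2 with ⟨-, -, h2⟩ | ⟨-, -, h2⟩
  · exact of_l3 h2
  · exact of_alt_five h2

theorem row_m24 (h : Spor.IsoM24 G) : Row G Conc36 := by
  obtain ⟨e⟩ := h
  intro T L hL
  have h1 : L.map e.toMonoidHom ∈ calL ((mapSylow e T : Sylow 2 M24) : Subgroup M24) := by
    rw [coe_mapSylow]
    exact map_mem_calL e hL.1
  obtain ⟨-, h2⟩ := M24Row.row24 _ h1
  have e1 : (L ⧸ pCore 2 L) ≃* (↥(L.map e.toMonoidHom) ⧸ pCore 2 ↥(L.map e.toMonoidHom)) := quotEquiv (sm e L)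
  rcases h2 with ⟨⟨f⟩⟩ | ⟨⟨f⟩⟩ | ⟨-, ⟨f⟩, -⟩
  · exact of_alt_eight ⟨e1.trans f⟩
  · exact of_l3 ⟨e1.trans f⟩
  · exact of_six ⟨(QuotientGroup.congr _ _ e1 (map_center e1)).trans f⟩

end rows

/-- the rows which are proved in other files -/
structure Hyp36 (G : Type u) [Group G] [Finite G] : Prop where
  resid : H5.Resid.Hyp G
  he : Spor.IsoHe G → Row G Conc36

/-- **S1836** -/
theorem main {G : Type u} [Group G] [Finite G] (hFT : H5.Top.FT.{u}) (hE : IsOfEvenCharacteristic G)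
    (hl : IsOnQTKEList G) (H : Hyp36 G) (T : Sylow 2 G) (L : Subgroup G) (hL : L ∈ calLf (T : Subgroup G)) :
    Cfsg.IsLieRankTwoCharTwoLargeField G ∨
    (Cfsg.Spor.IsoM22 G ∨ Cfsg.Spor.IsoM23 G ∨ Cfsg.Spor.IsoJ4 G) ∨ Conc36 L := by
  rcases table hFT hE hl H.resid with h | h | h
  · exact Or.inr (Or.inr (of_conc0 (h T L hL)))
  · exact Or.inl h
  · rcases h with ⟨F, _, _, hF, ⟨e⟩⟩ | ⟨F, _, _, hF, ⟨e⟩⟩ | ⟨⟨e⟩⟩ | h | h | h | h | h
    · exact Or.inr (Or.inr (row_l42 hF e T L hL))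
    · exact Or.inr (Or.inr (row_l52 hF e T L hL))
    · exact Or.inr (Or.inr (row_a9 hFT hE e T L hL))
    · exact Or.inr (Or.inl (Or.inl h))
    · exact Or.inr (Or.inl (Or.inr (Or.inl h)))
    · exact Or.inr (Or.inr (row_m24 h T L hL))
    · exact Or.inr (Or.inr (H.he h T L hL))
    · exact Or.inr (Or.inl (Or.inr (Or.inr h)))

end Cfsg.Agent.H3.Asm36
end

-- part: H3/NotSq
section
/-!
# `L₄(2)`, `L₅(2)` are not of the form `SL₂(q)` and have elements of order 4 (helper3)
-/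

set_option autoImplicit false

namespace Cfsg.Agent.H3.NotSq

open Matrix Cfsg.Agent.TitsThree.KSideA Cfsg.Agent.H1.RowU
open scoped commutatorElement

theorem SqOne.congr {G H : Type*} [Group G] [Group H] (e : G ≃* H) (h : SqOne G) : SqOne H := by
  rintro x ⟨k, hk⟩
  have h1 := h (e.symm x) ⟨k, by rw [← map_pow, hk, map_one]⟩
  apply e.symm.injective
  rw [map_pow, h1, map_one]

theorem sl_not_sqOne {n : ℕ} {F : Type*} [Field F] [CharP F 2] {a b c : Fin n} (hab : a ≠ b) (hbc : b ≠ c)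
    (hac : a ≠ c) : ¬ SqOne (SpecialLinearGroup (Fin n) F) := by
  intro h
  have h2 : (1 : F) + 1 = 0 := CharTwo.add_self_eq_zero 1
  have hsq : ∀ i j : Fin n, tv i j (1 : F) * tv i j 1 = 1 := fun i j => by
    rw [← tv_add, h2, tv_zero]
  have hinv : ∀ i j : Fin n, (tv i j (1 : F))⁻¹ = tv i j 1 := fun i j => by
    rw [inv_eq_iff_mul_eq_one, hsq]
  have hC : (tv a b (1 : F) * tv b c 1) ^ 2 = tv a c 1 := by
    have h3 := tv_comm hab hbc hac (1 : F) 1
    rw [commutatorElement_def, hinv, hinv, mul_one] at h3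
    rw [pow_two, ← h3]
    group
  have h4 := h (tv a b (1 : F) * tv b c 1) ⟨2, by
    rw [show 2 ^ 2 = 2 * 2 by norm_num, pow_mul, hC, pow_two, hsq]⟩
  rw [hC, ← tv_zero (F := F) a c] at h4
  exact one_ne_zero (Nodes.RGDTypeA.tv_inj hac h4)

theorem psl_not_sqOne {m : ℕ} {F : Type*} [Field F] [Fintype F] [CharP F 2] (hF : Fintype.card F = 2) :
    ¬ SqOne (ProjectiveSpecialLinearGroup (Fin (m + 3)) F) := by
  intro h
  let e : SpecialLinearGroup (Fin (m + 3)) F ≃* ProjectiveSpecialLinearGroup (Fin (m + 3)) F :=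
    MulEquiv.ofBijective (Nodes.RGDTypeA.pr (m + 2) F) ⟨H1.RowPSLFive.pr_injective hF, Nodes.RGDTypeA.pr_surjective⟩
  exact sl_not_sqOne (n := m + 3) (F := F) (a := ⟨0, by omega⟩) (b := ⟨1, by omega⟩) (c := ⟨2, by omega⟩)
    (fun h => absurd (congrArg Fin.val h) (by norm_num)) (fun h => absurd (congrArg Fin.val h) (by norm_num))
    (fun h => absurd (congrArg Fin.val h) (by norm_num)) (SqOne.congr e.symm h)

/-- `|SL₂(q)|` is neither `|L₄(2)|` nor `|L₅(2)|` -/
theorem card_sl_ne {F : Type*} [Field F] [Fintype F] :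
    Nat.card (SpecialLinearGroup (Fin 2) F) ≠ 20160 ∧ Nat.card (SpecialLinearGroup (Fin 2) F) ≠ 9999360 := by
  obtain ⟨k, hk⟩ : ∃ k, Fintype.card F = k + 2 := ⟨Fintype.card F - 2, by
    have := Fintype.one_lt_card (α := F)
    omega⟩
  have h := S0242.result (F := F) hk 2 (by norm_num)
  rw [Fin.prod_univ_two] at h
  simp only [Fin.val_zero, Fin.val_one, pow_zero, pow_one] at h
  have e1 : (k + 2) ^ 2 - 1 = (k + 1) * (k + 3) := by
    have : (k + 2) ^ 2 = (k + 1) * (k + 3) + 1 := by ring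
    omega
  have e2 : (k + 2) ^ 2 - (k + 2) = (k + 1) * (k + 2) := by
    have : (k + 2) ^ 2 = (k + 1) * (k + 2) + (k + 2) := by ring
    omega
  have e3 : k + 2 - 1 = k + 1 := by omega
  rw [e1, e2, e3] at h
  have h' : Nat.card (SpecialLinearGroup (Fin 2) F) = (k + 3) * ((k + 1) * (k + 2)) := by
    apply Nat.eq_of_mul_eq_mul_left (by omega : 0 < k + 1)
    rw [h]; ring
  rw [h']
  constructor
  · intro h1
    rcases Nat.lt_or_ge k 26 with h2 | h2
    · have : (k + 3) * ((k + 1) * (k + 2)) ≤ 28 * (26 * 27) := by gcongr <;> omega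
      omega
    · have : 29 * (27 * 28) ≤ (k + 3) * ((k + 1) * (k + 2)) := by gcongr <;> omega
      omega
  · intro h1
    rcases Nat.lt_or_ge k 214 with h2 | h2
    · have : (k + 3) * ((k + 1) * (k + 2)) ≤ 216 * (214 * 215) := by gcongr <;> omega
      omega
    · have : 217 * (215 * 216) ≤ (k + 3) * ((k + 1) * (k + 2)) := by gcongr <;> omega
      omega

end Cfsg.Agent.H3.NotSq
end

-- part: H3/Asm35
section
/-!
# S1835: assembly (helper3)
-/

set_option autoImplicit false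

namespace Cfsg.Agent.H3.Asm35

open Subgroup Cfsg Cfsg.Agent.H4.LfTrans Cfsg.Agent.H5.Resid Cfsg.Agent.H3.Table

universe u

/-- `L/O_2(L)` is `L₄(2)` or `L₅(2)` -/
def Big {G : Type u} [Group G] (L : Subgroup G) : Prop :=
  ∃ (F : Type) (_ : Field F) (_ : Fintype F), Fintype.card F = 2 ∧
    (Nonempty ((↥L ⧸ Cfsg.pCore 2 ↥L) ≃* Matrix.ProjectiveSpecialLinearGroup (Fin 4) F) ∨
      Nonempty ((↥L ⧸ Cfsg.pCore 2 ↥L) ≃* Matrix.ProjectiveSpecialLinearGroup (Fin 5) F))

section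

variable {G : Type u} [Group G] {L : Subgroup G}

theorem Big.card (h : Big L) : Nat.card (L ⧸ pCore 2 L) = 20160 ∨ Nat.card (L ⧸ pCore 2 L) = 9999360 := by
  obtain ⟨F, _, _, hF, h | h⟩ := h <;> obtain ⟨e⟩ := h
  · left
    rw [Nat.card_congr e.toEquiv, (Asm36.card_psl hF).2.1]
  · right
    rw [Nat.card_congr e.toEquiv, (Asm36.card_psl hF).2.2]

theorem Big.not_sq (h : Big L) : ¬ H1.RowU.SqOne (L ⧸ pCore 2 L) := by
  obtain ⟨F, _, _, hF, h | h⟩ := h <;> obtain ⟨e⟩ := h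
  · have hchar : CharP F 2 := Asm36.charP_of_card hF
    exact fun h => NotSq.psl_not_sqOne (m := 1) hF (NotSq.SqOne.congr e h)
  · have hchar : CharP F 2 := Asm36.charP_of_card hF
    exact fun h => NotSq.psl_not_sqOne (m := 2) hF (NotSq.SqOne.congr e h)

theorem Big.not_sl (h : Big L) {F : Type*} [Field F] [Fintype F]
    (e : (L ⧸ pCore 2 L) ≃* Matrix.SpecialLinearGroup (Fin 2) F) : False := by
  have h1 := NotSq.card_sl_ne (F := F)
  rw [← Nat.card_congr e.toEquiv] at h1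
  rcases h.card with h2 | h2
  · exact h1.1 h2
  · exact h1.2 h2

theorem Big.not_conc0 (h : Big L) : ¬ Conc0 L := by
  have h1 := h.card
  rintro (⟨⟨e⟩⟩ | ⟨⟨e⟩⟩ | ⟨⟨e⟩⟩)
  · rw [Nat.card_congr e.toEquiv, H5.ResidEnd.card_alt_six] at h1
    omega
  · rw [Nat.card_congr e.toEquiv, H5.ResidEnd.card_alt_five] at h1
    omega
  · rw [Nat.card_congr e.toEquiv, H5.ResidEnd.card_l3] at h1
    omega

theorem Big.seven [Finite G] (h : Big L) : 7 ∣ Nat.card G := by
  have h1 : Nat.card (L ⧸ pCore 2 L) ∣ Nat.card L := Subgroup.card_quotient_dvd_card _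
  have h2 : 7 ∣ Nat.card (L ⧸ pCore 2 L) := by
    rcases h.card with h2 | h2 <;> rw [h2] <;> norm_num
  exact (h2.trans h1).trans (Subgroup.card_subgroup_dvd_card L)

/-- `2^9` divides the order -/
theorem Big.two_pow [Finite G] (h : Big L) {T : Subgroup G} (hL : L ∈ calLf T) : 512 ∣ Nat.card G := by
  have h2 : Fact (Nat.Prime 2) := ⟨Nat.prime_two⟩
  obtain ⟨-, hA⟩ := H4.Small.acts_inner hL
  have h8 := hA.eight_le
  have h3 : H4.Lf.UU L ≤ (pCore 2 ↥L).map L.subtype := fun x hx => (H4.Lf.mem_omega.1 hx).1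
  have h4 : 8 ≤ Nat.card (pCore 2 ↥L) := by
    have h5 := Nat.card_le_card_of_injective _ (Subgroup.inclusion_injective h3)
    have h6 : Nat.card ↥((pCore 2 ↥L).map L.subtype) = Nat.card (pCore 2 ↥L) :=
      Nat.card_congr ((pCore 2 ↥L).equivMapOfInjective _ L.subtype_injective).toEquiv.symm
    omega
  obtain ⟨n, hn⟩ := IsPGroup.iff_card.1 (Lib.Cores.pCore_isPGroup (G := L) 2)
  have hn3 : 3 ≤ n := by
    by_contra h5
    have : 2 ^ n ≤ 2 ^ 2 := Nat.pow_le_pow_right (by norm_num) (by omega)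
    omega
  have h5 : 8 ∣ Nat.card (pCore 2 ↥L) := by
    rw [hn]
    exact (show (8 : ℕ) = 2 ^ 3 by norm_num) ▸ Nat.pow_dvd_pow 2 hn3
  have h6 : 64 ∣ Nat.card (L ⧸ pCore 2 L) := by
    rcases h.card with h2 | h2 <;> rw [h2] <;> norm_num
  have h7 := Subgroup.card_eq_card_quotient_mul_card_subgroup (pCore 2 ↥L)
  have h8 : 512 ∣ Nat.card L := by
    rw [h7, show 512 = 64 * 8 by norm_num]
    exact Nat.mul_dvd_mul h6 h5
  exact h8.trans (Subgroup.card_subgroup_dvd_card L)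

end

theorem charP_of_card_pow {F : Type*} [Field F] [Fintype F] {m : ℕ} (h2 : Fintype.card F = 2 ^ m) : CharP F 2 := by
  obtain ⟨p, hp⟩ := CharP.exists F
  obtain ⟨n, hpp, hn⟩ := FiniteField.card F p
  rw [h2] at hn
  have h4 : p ∣ 2 ^ m := by rw [hn]; exact dvd_pow_self p n.ne_zero
  have h5 : p = 2 := (Nat.prime_dvd_prime_iff_eq hpp Nat.prime_two).1 (hpp.dvd_of_dvd_pow h4)
  exact h5 ▸ hp

section lie

variable {G : Type u} [Group G] [Finite G]

omit [Finite G] in
theorem not_big_of_sl {ι : Type} {F : ι → Type} [∀ i, Field (F i)] [∀ i, Fintype (F i)]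
    (h : H1.RgdRow.RowL (fun i => Matrix.SpecialLinearGroup (Fin 2) (F i)) G) : Row G (fun L => ¬ Big L) := by
  intro T L hL hb
  obtain ⟨-, i, ⟨e⟩⟩ := h T L hL.1
  exact hb.not_sl e

theorem card_u54 {F : Type} [Field F] [Fintype F] (hF : Fintype.card F = 16) : ¬ 7 ∣ Nat.card (Cfsg.PSU 5 F 4) := by
  have h := S0280.result (F := F) (q := 4) (by rw [hF]; norm_num) 5 (by norm_num)
  norm_num [Finset.prod_range_succ, Nat.even_iff] at h
  intro h7
  obtain ⟨k, hk⟩ := h7
  rw [hk] at h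
  omega

/-- **Lie rank 2 over a field with more than two elements** -/
theorem row_lie (hFT : H5.Top.FT.{0}) (h : IsLieRankTwoCharTwoLargeField G)
    (h2F4 : Lie.Iso2F4 G → Row G (fun L => ¬ Big L)) : Row G (fun L => ¬ Big L) := by
  rcases h with ⟨F, _, _, hF, h4, h⟩ | ⟨F, _, _, n, hn, hF, h⟩ | ⟨F, _, _, hF, h⟩ | ⟨K, _, _, n, hn, hK, h⟩ | h
  · rcases h with h | h | h <;> obtain ⟨e⟩ := h
    · exact not_big_of_sl (H1.RowPSL.row_psl_three e)
    · exact not_big_of_sl (H1.RowChev.row_pSp e)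
    · exact not_big_of_sl (H1.RowExc.row_gTwo e)
  · obtain ⟨e⟩ := h
    have hchar : CharP F 2 := charP_of_card_pow (m := n * 2) (by rw [hF, pow_mul])
    have hq : 3 ≤ 2 ^ n := by
      calc 3 ≤ 2 ^ 2 := by norm_num
        _ ≤ 2 ^ n := Nat.pow_le_pow_right (by norm_num) hn
    have : Finite (Cfsg.PSU 4 F (2 ^ n)) := Finite.of_equiv _ e.toEquiv
    obtain ⟨Q, hQ, hrow, -⟩ := H1.RowU.row_model_four hF hq (fun T hT => hFT T hT)
    intro T L hL hb
    obtain ⟨-, i, ⟨f⟩⟩ := H1.RgdRow.RowL.congr e hrow T L hL.1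
    exact hb.not_sq (NotSq.SqOne.congr f.symm (hQ i))
  · obtain ⟨e⟩ := h
    intro T L hL hb
    have h7 := hb.seven
    rw [Nat.card_congr e.toEquiv] at h7
    exact card_u54 hF h7
  · obtain ⟨e⟩ := h
    have hchar : CharP K 2 := charP_of_card_pow (m := n * 3) (by rw [hK, pow_mul])
    have hq : IsPrimePow (2 ^ n) := (Nat.prime_two.isPrimePow).pow (by omega)
    obtain ⟨F, _, _, _, -, hrow⟩ := H1.RowExc.row_twD4 hq hK e
    exact not_big_of_sl hrow
  · exact h2F4 h

end lie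

/-- the rows which are proved in other files -/
structure Hyp35 (G : Type u) [Group G] [Finite G] : Prop where
  resid : H5.Resid.Hyp G
  f4 : Lie.Iso2F4 G → Row G (fun L => ¬ Big L)
  he : Spor.IsoHe G → Row G (fun L => ¬ Big L)
  j4 : Spor.IsoJ4 G → ∀ (T : Sylow 2 G), ∀ L ∈ calLfMax (T : Subgroup G), ¬ Big L

section

variable {G : Type u} [Group G] [Finite G]

omit [Finite G] in
/-- the isomorphism type of `L/O_2(L)` does not depend on the field -/
theorem psl4_of_card {L : Subgroup G} (h : Big L) (hc : Nat.card (L ⧸ pCore 2 L) ≠ 9999360) :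
    ∃ (F : Type) (_ : Field F) (_ : Fintype F), Fintype.card F = 2 ∧
      Nonempty ((↥L ⧸ Cfsg.pCore 2 ↥L) ≃* Matrix.ProjectiveSpecialLinearGroup (Fin 4) F) := by
  obtain ⟨F, _, _, hF, h | h⟩ := h
  · exact ⟨F, _, _, hF, h⟩
  · exfalso
    obtain ⟨e⟩ := h
    exact hc (by rw [Nat.card_congr e.toEquiv, (Asm36.card_psl hF).2.2])

omit [Finite G] in
theorem not_thirtyone {L : Subgroup G} (h : ¬ 31 ∣ Nat.card G) : Nat.card (L ⧸ pCore 2 L) ≠ 9999360 := by
  intro h1
  apply h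
  have h2 : Nat.card (L ⧸ pCore 2 L) ∣ Nat.card L := Subgroup.card_quotient_dvd_card _
  rw [h1] at h2
  exact ((by norm_num : 31 ∣ 9999360).trans h2).trans (Subgroup.card_subgroup_dvd_card L)

/-- **S1835** -/
theorem main (hFT0 : H5.Top.FT.{0}) (hFT : H5.Top.FT.{u}) (hE : IsOfEvenCharacteristic G)
    (hl : IsOnQTKEList G) (H : Hyp35 G) (T : Sylow 2 G) (L : Subgroup G) (hL : L ∈ calLfMax (T : Subgroup G))
    (hn : Big L) :
    (∃ (F : Type) (_ : Field F) (_ : Fintype F), Fintype.card F = 2 ∧ Nonempty ((↥L ⧸ Cfsg.pCore 2 ↥L) ≃* Matrix.ProjectiveSpecialLinearGroup (Fin 4) F)) ∧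
    ((∃ (F : Type) (_ : Field F) (_ : Fintype F), Fintype.card F = 2 ∧ Nonempty (G ≃* Matrix.ProjectiveSpecialLinearGroup (Fin 5) F)) ∨ Cfsg.Spor.IsoM24 G) := by
  have hLf : L ∈ calLf (T : Subgroup G) := ⟨hL.1.1, hL.2⟩
  rcases table hFT hE hl H.resid with h | h | h
  · exact absurd (h T L hLf) hn.not_conc0
  · exact absurd hn (row_lie hFT0 h H.f4 T L hLf)
  · rcases h with ⟨F, _, _, hF, h⟩ | ⟨F, _, _, hF, h⟩ | h | h | h | h | h | h
    · exfalso
      obtain ⟨e⟩ := h
      have hchar : CharP F 2 := Asm36.charP_of_card hF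
      obtain ⟨_, _, ⟨f⟩⟩ := H1.RowPSLFive.row_psl_four hF e T L hLf.1
      have h1 := hn.card
      rw [Nat.card_congr f.toEquiv, (Asm36.card_psl hF).1] at h1
      omega
    · obtain ⟨e⟩ := h
      have hchar : CharP F 2 := Asm36.charP_of_card hF
      obtain ⟨_, i, ⟨f⟩⟩ := H1.RowPSLFive.row_psl_five hF e T L hLf.1
      fin_cases i
      · exfalso
        have h1 := hn.card
        have h2 : Nat.card (L ⧸ pCore 2 L) = 168 := (Nat.card_congr f.toEquiv).trans (Asm36.card_psl hF).1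
        rw [h2] at h1
        omega
      · exact ⟨⟨F, _, _, hF, ⟨f⟩⟩, Or.inl ⟨F, _, _, hF, ⟨e⟩⟩⟩
    · exfalso
      obtain ⟨e⟩ := h
      have hc : Nat.card G = 181440 := by
        rw [Nat.card_congr e.toEquiv, nat_card_alternatingGroup, Nat.card_fin, show Nat.factorial 9 = 362880 by rfl]
      have h1 := hn.two_pow hLf
      rw [hc] at h1
      revert h1
      norm_num
    · exfalso
      obtain ⟨e⟩ := h
      have h1 := hn.two_pow hLf
      rw [Nat.card_congr e.toEquiv, SporadicA.MathieuRecog.card_M22] at h1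
      revert h1
      norm_num
    · exfalso
      obtain ⟨e⟩ := h
      have h1 := hn.two_pow hLf
      rw [Nat.card_congr e.toEquiv, SporadicA.MathieuRecog.card_M23] at h1
      revert h1
      norm_num
    · refine ⟨psl4_of_card hn (not_thirtyone ?_), Or.inr h⟩
      obtain ⟨e⟩ := h
      rw [Nat.card_congr e.toEquiv, M24Loc.card_M24]
      norm_num
    · exact absurd hn (H.he h T L hLf)
    · exact absurd hn (H.j4 h T L hL)

end

end Cfsg.Agent.H3.Asm35
end
end

-- part: H2/Asm30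
section
set_option linter.all false
open scoped Cfsg.Agent.FastGrp

/-!
# Quasithin groups with `ℒ_f(G, T)` nonempty: assembly (helper2)
-/

set_option autoImplicit false

namespace Cfsg.Agent.H2.Asm30

open Subgroup Cfsg Cfsg.Agent.H4.LfTrans Cfsg.Agent.H5

universe u

theorem card_eq_two_or {F : Type*} [Field F] [Fintype F] [CharP F 2] : Fintype.card F = 2 ∨ 4 ≤ Fintype.card F := by
  obtain ⟨m, -, hm⟩ := FiniteField.card F 2
  have h5 : (m : ℕ) ≠ 0 := m.ne_zero
  rcases Nat.lt_or_ge (m : ℕ) 2 with h6 | h6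
  · left
    rw [hm, show (m : ℕ) = 1 by omega, pow_one]
  · right
    rw [hm]
    calc 4 = 2 ^ 2 := by norm_num
      _ ≤ 2 ^ (m : ℕ) := Nat.pow_le_pow_right (by norm_num) h6

/-- the conclusion of S1830 -/
def Conc30 (G : Type u) [Group G] : Prop :=
    Cfsg.IsLieRankTwoCharTwoLargeField G ∨
    ((∃ (F : Type) (_ : Field F) (_ : Fintype F), Fintype.card F = 2 ∧
        (Nonempty (G ≃* Matrix.ProjectiveSpecialLinearGroup (Fin 4) F) ∨
          Nonempty (G ≃* Matrix.ProjectiveSpecialLinearGroup (Fin 5) F))) ∨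
      Nonempty (G ≃* ↥(alternatingGroup (Fin 9))) ∨
      Cfsg.Spor.IsoM22 G ∨ Cfsg.Spor.IsoM23 G ∨ Cfsg.Spor.IsoM24 G ∨ Cfsg.Spor.IsoHe G ∨ Cfsg.Spor.IsoJ4 G) ∨
    ((∃ (F : Type) (_ : Field F) (_ : Fintype F), Fintype.card F = 2 ∧ Nonempty (G ≃* Cfsg.PSp 3 F)) ∨
      (∃ (F : Type) (_ : Field F) (_ : Fintype F), Fintype.card F = 4 ∧ Nonempty (G ≃* Cfsg.PSU 4 F 2)) ∨
      (∃ (F : Type) (_ : Field F) (_ : Fintype F), Fintype.card F = 3 ∧
        (Nonempty (G ≃* Matrix.ProjectiveSpecialLinearGroup (Fin 4) F) ∨ Nonempty (G ≃* ↥(Cfsg.Lie.chevG2.group F)))) ∨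
      (∃ (F : Type) (_ : Field F) (_ : Fintype F), Fintype.card F = 9 ∧ Nonempty (G ≃* Cfsg.PSU 4 F 3)) ∨
      Cfsg.Spor.IsoHS G ∨ Cfsg.Spor.IsoRu G)

theorem s1830 {G : Type u} [Group G] [Finite G] (hFT0 : Top.FT.{0}) (hFT : Top.FT.{u})
    (hE : IsOfEvenCharacteristic G) (hl : IsOnQTKEList G) (T : Sylow 2 G)
    (hne : (calLf (T : Subgroup G)).Nonempty) : Conc30 G := by
  have H := H4.HypAll.hyp (G := G) hFT0 hE
  have hno : NoLf G → Conc30 G := fun h => by
    rw [h T] at hne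
    exact (Set.not_nonempty_empty hne).elim
  rcases hl with h | h | h | h | h
  · rcases h with h | ⟨F, _, _, hF, h | ⟨h4, h⟩ | ⟨h4, h⟩⟩ | ⟨F, _, _, n, hn, hF, h⟩ | ⟨F, _, _, hF, h⟩ |
      ⟨K, _, _, n, hn, hK, h⟩ | h | h
    · exact hno (H4.Rows1.bender hFT hE h)
    · rcases card_eq_two_or (F := F) with h2 | h4
      · obtain ⟨e⟩ := h
        exact hno (H4.Rows2.psl3_two h2 e)
      · exact Or.inl (Or.inl ⟨F, _, _, hF, h4, Or.inl h⟩)
    · exact Or.inl (Or.inl ⟨F, _, _, hF, h4, Or.inr (Or.inl h)⟩)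
    · exact Or.inl (Or.inl ⟨F, _, _, hF, h4, Or.inr (Or.inr h)⟩)
    · rcases Nat.lt_or_ge n 2 with h6 | h6
      · obtain rfl : n = 1 := by omega
        exact Or.inr (Or.inr (Or.inr (Or.inl ⟨F, _, _, by rw [hF]; norm_num, h⟩)))
      · exact Or.inl (Or.inr (Or.inl ⟨F, _, _, n, h6, hF, h⟩))
    · exact Or.inl (Or.inr (Or.inr (Or.inl ⟨F, _, _, hF, h⟩)))
    · rcases Nat.lt_or_ge n 2 with h6 | h6
      · obtain rfl : n = 1 := by omega
        exact hno (H.d42 ⟨K, _, _, by rw [hK]; norm_num, h⟩)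
      · exact Or.inl (Or.inr (Or.inr (Or.inr (Or.inl ⟨K, _, _, n, h6, hK, h⟩))))
    · exact Or.inl (Or.inr (Or.inr (Or.inr (Or.inr h))))
    · exact hno (H.tits h)
  · obtain ⟨F, _, _, hF, h | h | h⟩ := h
    · exact Or.inr (Or.inl (Or.inl ⟨F, _, _, hF, Or.inl h⟩))
    · exact Or.inr (Or.inl (Or.inl ⟨F, _, _, hF, Or.inr h⟩))
    · exact Or.inr (Or.inr (Or.inl ⟨F, _, _, hF, h⟩))
  · rcases h with ⟨⟨e⟩⟩ | ⟨⟨e⟩⟩ | ⟨⟨e⟩⟩ | h
    · exact hno (H4.Rows1.alt_five e)
    · exact hno (H4.Rows1.alt_six e)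
    · obtain ⟨e'⟩ := S0256.result (F := ZMod 2) (by rw [ZMod.card])
      exact Or.inr (Or.inl (Or.inl ⟨ZMod 2, inferInstance, inferInstance, by rw [ZMod.card], Or.inl ⟨e.trans e'.symm⟩⟩))
    · exact Or.inr (Or.inl (Or.inr (Or.inl h)))
  · rcases h with ⟨F, _, _, hF, ⟨e⟩⟩ | ⟨F, _, _, hF, ⟨⟨e⟩⟩ | h | h⟩ | ⟨F, _, _, hF, ⟨⟨e⟩⟩ | h⟩
    · exact hno (H4.Rows1.psl2_odd F (Resid.odd_of_neighbour hF) e)
    · exact hno (H4.Rows1.psl3_odd F (by rw [hF]; decide) e)
    · exact Or.inr (Or.inr (Or.inr (Or.inr (Or.inl ⟨F, _, _, hF, Or.inl h⟩))))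
    · exact Or.inr (Or.inr (Or.inr (Or.inr (Or.inl ⟨F, _, _, hF, Or.inr h⟩))))
    · exact hno (H4.Rows1.psu3_odd F (q := 3) (by rw [hF]; norm_num) (by decide) e)
    · exact Or.inr (Or.inr (Or.inr (Or.inr (Or.inr (Or.inl ⟨F, _, _, hF, h⟩)))))
  · rcases h with h | h | h | h | h | h | h | h | h | h | h
    · exact hno (H4.Rows1.m11 h)
    · exact hno (H4.Rows1.m12 h)
    · exact Or.inr (Or.inl (Or.inr (Or.inr (Or.inl h))))
    · exact Or.inr (Or.inl (Or.inr (Or.inr (Or.inr (Or.inl h)))))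
    · exact Or.inr (Or.inl (Or.inr (Or.inr (Or.inr (Or.inr (Or.inl h))))))
    · exact hno (H4.Rows2.j2 hE h)
    · exact hno (H4.Rows2.j3 hE h)
    · exact Or.inr (Or.inl (Or.inr (Or.inr (Or.inr (Or.inr (Or.inr (Or.inr h)))))))
    · exact Or.inr (Or.inr (Or.inr (Or.inr (Or.inr (Or.inr (Or.inl h))))))
    · exact Or.inr (Or.inl (Or.inr (Or.inr (Or.inr (Or.inr (Or.inr (Or.inl h)))))))
    · exact Or.inr (Or.inr (Or.inr (Or.inr (Or.inr (Or.inr (Or.inr h))))))

end Cfsg.Agent.H2.Asm30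
end

-- part: H4/ResidOwn
section
set_option linter.all false
open scoped Cfsg.Agent.FastGrp

/-!
# S1838, S1839, S1840 (helper4)
-/

set_option autoImplicit false

namespace Cfsg.Agent.H4.ResidOwn

open Subgroup Cfsg Cfsg.Agent.H4.LfTrans Cfsg.Agent.H5.Resid Cfsg.Agent.H5

universe u

variable {G : Type u} [Group G] [Finite G]

/-- the possible orders -/
theorem card_of_conc {L : Subgroup G} (h : Conc L) : Nat.card (↥L ⧸ pCore 2 ↥L) = 360 ∨
    Nat.card (↥L ⧸ pCore 2 ↥L) = 60 ∨ Nat.card (↥L ⧸ pCore 2 ↥L) = 168 := by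
  rcases h with ⟨⟨e⟩, -⟩ | ⟨⟨e⟩, -⟩ | ⟨⟨e⟩, -⟩
  · left; rw [Nat.card_congr e.toEquiv, ResidEnd.card_alt_six]
  · right; left; rw [Nat.card_congr e.toEquiv, ResidEnd.card_alt_five]
  · right; right; rw [Nat.card_congr e.toEquiv, ResidEnd.card_l3]

theorem card_u33 {F : Type*} [Field F] [Fintype F] (hF : Fintype.card F = 9) : Nat.card (Cfsg.PSU 3 F 3) = 6048 := by
  have h := S0280.result (F := F) (q := 3) (by rw [hF]; norm_num) 3 (by norm_num)
  norm_num [Finset.prod_range_succ, Nat.even_iff] at h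
  omega

theorem simple_of_conc {L : Subgroup G} (h : Conc L) : IsSimpleGroup (↥L ⧸ pCore 2 ↥L) := by
  rcases h with ⟨⟨e⟩, -⟩ | ⟨⟨e⟩, -⟩ | ⟨⟨e⟩, -⟩
  · have : IsSimpleGroup (alternatingGroup (Fin 6)) := alternatingGroup.isSimpleGroup (by simp)
    exact e.isSimpleGroup
  · have : IsSimpleGroup (alternatingGroup (Fin 5)) := alternatingGroup.isSimpleGroup (by simp)
    exact e.isSimpleGroup
  · have : Finite (Matrix.ProjectiveSpecialLinearGroup (Fin 3) (ZMod 2)) := Finite.of_equiv _ e.toEquiv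
    have : IsSimpleGroup (Matrix.ProjectiveSpecialLinearGroup (Fin 3) (ZMod 2)) := S0249.result 3 le_rfl
    exact e.isSimpleGroup

theorem not_solvable_of_card {X : Type*} [Group X] [Finite X] [IsSimpleGroup X] (hp : ¬ (Nat.card X).Prime) :
    ¬ Group.IsSolvable X := by
  intro h
  have h1 : ∀ a b : X, a * b = b * a := IsSimpleGroup.comm_iff_isSolvable.2 h
  let _ : CommGroup X := { mul_comm := h1 }
  exact hp IsSimpleGroup.prime_card

theorem s1838 (hFT0 : Top.FT.{0}) (hFT : Top.FT.{u}) (hE : IsOfEvenCharacteristic G) (hl : IsOnQTKEList G)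
    (hR : InResidualCase G) (T : Sylow 2 G) (L : Subgroup G) (hL : L ∈ calLf (T : Subgroup G)) :
    IsQuasisimple (↥L ⧸ pCore 2 ↥L) := by
  obtain ⟨-, -, h⟩ := HypAll.row hFT0 hFT hE hl hR T L hL
  have hs := simple_of_conc h
  refine Small.quasi_of_simple (not_solvable_of_card ?_)
  rcases card_of_conc h with h1 | h1 | h1 <;> rw [h1] <;> norm_num

theorem s1839 (hFT0 : Top.FT.{0}) (hFT : Top.FT.{u}) (hE : IsOfEvenCharacteristic G) (hl : IsOnQTKEList G)
    (hR : InResidualCase G) (T : Sylow 2 G) (L : Subgroup G) (hL : L ∈ calLf (T : Subgroup G)) :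
    ¬ (∃ (F : Type) (_ : Field F) (_ : Fintype F), Fintype.card F = 9 ∧ Nonempty ((↥L ⧸ pCore 2 ↥L) ≃* PSU 3 F 3)) := by
  rintro ⟨F, _, _, hF, ⟨e⟩⟩
  obtain ⟨-, -, h⟩ := HypAll.row hFT0 hFT hE hl hR T L hL
  have h1 := (Nat.card_congr e.toEquiv).trans (card_u33 hF)
  rcases card_of_conc h with h2 | h2 | h2 <;> rw [h1] at h2 <;> norm_num at h2

theorem s1840 (hFT0 : Top.FT.{0}) (hFT : Top.FT.{u}) (hE : IsOfEvenCharacteristic G) (hl : IsOnQTKEList G)
    (hR : InResidualCase G) (T : Sylow 2 G) (L : Subgroup G) (hL : L ∈ calLf (T : Subgroup G))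
    (h5 : Nonempty ((↥L ⧸ Cfsg.pCore 2 ↥L) ≃* ↥(alternatingGroup (Fin 5)))) :
    (∃ (F : Type) (_ : Field F) (_ : Fintype F), Fintype.card F = 4 ∧ Nonempty (G ≃* Cfsg.PSU 4 F 2)) ∨
      (∃ (F : Type) (_ : Field F) (_ : Fintype F), Fintype.card F = 3 ∧
        Nonempty (G ≃* Matrix.ProjectiveSpecialLinearGroup (Fin 4) F)) := by
  obtain ⟨-, -, h⟩ := HypAll.row hFT0 hFT hE hl hR T L hL
  obtain ⟨e⟩ := h5
  have h1 := (Nat.card_congr e.toEquiv).trans ResidEnd.card_alt_five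
  rcases h with ⟨⟨f⟩, -⟩ | ⟨-, h⟩ | ⟨⟨f⟩, -⟩
  · rw [Nat.card_congr f.toEquiv, ResidEnd.card_alt_six] at h1
    norm_num at h1
  · exact h
  · rw [Nat.card_congr f.toEquiv, ResidEnd.card_l3] at h1
    norm_num at h1

end Cfsg.Agent.H4.ResidOwn
end
end
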