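import Cfsg.Agent.H3.Asm35_m3
import Cfsg.Agent.H2.TwFFin
import Cfsg.Agent.H6.He.Row
import Cfsg.Agent.H7.J4Row
import Cfsg.Agent.FastGrp
import Cfsg.Agent.Prune
set_option linter.all false
prune_inst 0x7f00000000000000000000000000000000000000000000000000000000000000000000000000000000000000000000000000000000000000000000000000000000000000000000000000000000000000003fffffffffffffffffffffffffffbeffbdffffffff
open scoped Cfsg.Agent.FastGrp

-- part: H3/NotComm
section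
/-!
# `L_n(2)`, `n ≥ 3`, has two noncommuting involutions in a 2-subgroup (helper3)
-/

set_option autoImplicit false

namespace Cfsg.Agent.H3.NotComm

open Matrix Cfsg.Agent.TitsThree.KSideA Cfsg.Agent.H2
open scoped commutatorElement

theorem sl_not_commInv {n : ℕ} {F : Type*} [Field F] [CharP F 2] {a b c : Fin n} (hab : a ≠ b) (hbc : b ≠ c)
    (hac : a ≠ c) : ¬ CommInv (SpecialLinearGroup (Fin n) F) := by
  intro h
  have h2 : (1 : F) + 1 = 0 := CharTwo.add_self_eq_zero 1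
  have hsq : ∀ i j : Fin n, tv i j (1 : F) * tv i j 1 = 1 := fun i j => by
    rw [← tv_add, h2, tv_zero]
  have hinv : ∀ i j : Fin n, (tv i j (1 : F))⁻¹ = tv i j 1 := fun i j => by
    rw [inv_eq_iff_mul_eq_one, hsq]
  have h3 := tv_comm hab hbc hac (1 : F) 1
  rw [mul_one] at h3
  have hC : (tv a b (1 : F) * tv b c 1) ^ 2 = tv a c 1 := by
    rw [commutatorElement_def, hinv, hinv] at h3
    rw [pow_two, ← h3]
    group
  have h4 := h.comm (hsq a b) (hsq b c) (k := 2) (by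
    rw [show 2 ^ 2 = 2 * 2 by norm_num, pow_mul, hC, pow_two, hsq])
  rw [commutatorElement_eq_one_iff_mul_comm.2 h4] at h3
  have h5 : tv a c (0 : F) = tv a c 1 := by rw [tv_zero]; exact h3
  exact zero_ne_one (Nodes.RGDTypeA.tv_inj hac h5)

theorem psl_not_commInv {m : ℕ} {F : Type*} [Field F] [Fintype F] [CharP F 2] (hF : Fintype.card F = 2) :
    ¬ CommInv (ProjectiveSpecialLinearGroup (Fin (m + 3)) F) := by
  intro h
  let e : SpecialLinearGroup (Fin (m + 3)) F ≃* ProjectiveSpecialLinearGroup (Fin (m + 3)) F :=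
    MulEquiv.ofBijective (Nodes.RGDTypeA.pr (m + 2) F) ⟨H1.RowPSLFive.pr_injective hF, Nodes.RGDTypeA.pr_surjective⟩
  exact sl_not_commInv (n := m + 3) (F := F) (a := ⟨0, by omega⟩) (b := ⟨1, by omega⟩) (c := ⟨2, by omega⟩)
    (fun h => absurd (congrArg Fin.val h) (by norm_num)) (fun h => absurd (congrArg Fin.val h) (by norm_num))
    (fun h => absurd (congrArg Fin.val h) (by norm_num)) (CommInv.congr e h)

end Cfsg.Agent.H3.NotComm
end

-- part: H3/End35
section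
/-!
# S1835, S1836: the rows of `³D₄(2)`, `²F₄(q)`, `He`, `J₄` (helper3)
-/

set_option autoImplicit false

namespace Cfsg.Agent.H3.End35

open Subgroup Cfsg Cfsg.Agent.H4.LfTrans Cfsg.Agent.H5.Resid Cfsg.Agent.H3.Table Cfsg.Agent.H3.Asm36 Cfsg.Agent.H3.Asm35

universe u

variable {G : Type u} [Group G] [Finite G]

theorem he36 (h : Spor.IsoHe G) : Row G Conc36 := by
  intro T L hL
  rcases (H6.HeRow.he_mem h T hL.1).2 with h1 | h1
  · exact of_l3 h1
  · exact Or.inr (Or.inr (Or.inr (Or.inr (Or.inr (Or.inr h1)))))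

theorem he35 (h : Spor.IsoHe G) : Row G (fun L => ¬ Big L) := by
  intro T L hL hb
  have h1 := hb.card
  rcases (H6.HeRow.he_mem h T hL.1).2 with ⟨⟨e⟩⟩ | ⟨-, h2, ⟨e⟩⟩
  · rw [Nat.card_congr e.toEquiv, H5.ResidEnd.card_l3] at h1
    omega
  · have h3 := Subgroup.card_eq_card_quotient_mul_card_subgroup (center (L ⧸ pCore 2 L))
    rw [Nat.card_congr e.toEquiv, h2, H5.ResidEnd.card_alt_six] at h3
    omega

theorem f4 [IsSimpleGroup G] (h : Lie.Iso2F4 G) : Row G (fun L => ¬ Big L) := by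
  intro T L hL hb
  have h1 := H2.TwF.commInv h hL.1
  obtain ⟨F, _, _, hF, h | h⟩ := hb <;> obtain ⟨e⟩ := h
  · have hchar : CharP F 2 := Asm36.charP_of_card hF
    exact NotComm.psl_not_commInv (m := 1) hF (h1.congr e.symm)
  · have hchar : CharP F 2 := Asm36.charP_of_card hF
    exact NotComm.psl_not_commInv (m := 2) hF (h1.congr e.symm)

theorem hyp36 (hFT : H5.Top.FT.{0}) (hE : IsOfEvenCharacteristic G) : Hyp36 G where
  resid := H4.HypAll.hyp hFT hE
  he := he36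

theorem hyp35 [IsSimpleGroup G] (hG : ¬ IsMulCommutative G) (hQ : IsQTKE G) (hFT : H5.Top.FT.{0}) : Hyp35 G where
  resid := H4.HypAll.hyp hFT hQ.2.2
  f4 := f4
  he := he35
  j4 h T _ hL hb := H7.J4Row.no_psl hG hQ h T hL hb

/-- **S1836** -/
theorem main36 [IsSimpleGroup G] (hQ : IsQTKE G) (hFT0 : H5.Top.FT.{0}) (hFT : H5.Top.FT.{u})
    (hl : IsOnQTKEList G) (T : Sylow 2 G) (L : Subgroup G) (hL : L ∈ calLfMax (T : Subgroup G)) :
    Cfsg.IsLieRankTwoCharTwoLargeField G ∨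
    (Cfsg.Spor.IsoM22 G ∨ Cfsg.Spor.IsoM23 G ∨ Cfsg.Spor.IsoJ4 G) ∨ Conc36 L :=
  Asm36.main hFT hQ.2.2 hl (hyp36 hFT0 hQ.2.2) T L ⟨hL.1.1, hL.2⟩

/-- **S1835** -/
theorem main35 [IsSimpleGroup G] (hG : ¬ IsMulCommutative G) (hQ : IsQTKE G) (hFT0 : H5.Top.FT.{0}) (hFT : H5.Top.FT.{u})
    (hl : IsOnQTKEList G) (T : Sylow 2 G) (L : Subgroup G) (hL : L ∈ calLfMax (T : Subgroup G)) (hn : Big L) :
    (∃ (F : Type) (_ : Field F) (_ : Fintype F), Fintype.card F = 2 ∧ Nonempty ((↥L ⧸ Cfsg.pCore 2 ↥L) ≃* Matrix.ProjectiveSpecialLinearGroup (Fin 4) F)) ∧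
    ((∃ (F : Type) (_ : Field F) (_ : Fintype F), Fintype.card F = 2 ∧ Nonempty (G ≃* Matrix.ProjectiveSpecialLinearGroup (Fin 5) F)) ∨ Cfsg.Spor.IsoM24 G) :=
  Asm35.main hFT0 hFT hQ.2.2 hl (hyp35 hG hQ hFT0) T L hL hn

end Cfsg.Agent.H3.End35
end
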